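import Groth.Agent.NodeLib.IsNodeChar
import Groth.Agent.FibDim.BaseField
import Groth.Agent.AlgSpLib.Descends
import Mathlib

/-!
# At-worst-nodal curves and families under base change
-/

set_option autoImplicit false
set_option linter.style.haveILetI false
set_option backward.isDefEq.respectTransparency false
set_option backward.isDefEq.respectTransparency.types false

universe u

open CategoryTheory CategoryTheory.Limits AlgebraicGeometry IsLocalRing

namespace Groth.Agent.NodeLib

theorem dim_le_one_of_components {k : Type u} [Field k] {X : Scheme.{u}} (q : X ⟶ Spec (CommRingCat.of k))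
    [LocallyOfFiniteType q] (h : ∀ Z ∈ irreducibleComponents (X : Type u), topologicalKrullDim Z = 1) :
    topologicalKrullDim X ≤ 1 := by
  refine (CharCycDim.dim_le_iff' q 1).mpr fun x => ?_
  have hP := irreducibleComponent_mem_irreducibleComponents x
  exact (CharCycDim.dim_le_iff q (isClosed_of_mem_irreducibleComponents _ hP).isLocallyClosed 1).1
    (h _ hP).le x mem_irreducibleComponent

section Field

variable {k : Type u} [Field k] {X : Scheme.{u}} [X.Over (Spec (CommRingCat.of k))]
  [LocallyOfFiniteType (X ↘ Spec (CommRingCat.of k))] [LocallyOfFinitePresentation (X ↘ Spec (CommRingCat.of k))]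

theorem exists_smooth_nhd_iff (x : X) :
    (∃ U : X.Opens, x ∈ U ∧ Smooth (U.ι ≫ (X ↘ Spec (CommRingCat.of k)))) ↔
      x ∈ (X ↘ Spec (CommRingCat.of k)).smoothLocus := by
  constructor
  · rintro ⟨U, hx, hU⟩
    have h := (Scheme.Hom.smoothLocus_eq_top (U.ι ≫ (X ↘ Spec (CommRingCat.of k))))
    rw [← Scheme.Hom.preimage_smoothLocus_eq] at h
    have : (⟨x, hx⟩ : U) ∈ U.ι ⁻¹ᵁ (X ↘ Spec (CommRingCat.of k)).smoothLocus := by rw [h]; trivial
    exact this
  · intro hx
    refine ⟨_, hx, ?_⟩
    rw [← Scheme.Hom.smoothLocus_eq_top_iff, ← Scheme.Hom.preimage_smoothLocus_eq]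
    exact Scheme.Opens.ι_preimage_self _

/-- Generizations of nodes are smooth points. -/
theorem mem_smoothLocus_of_generization (hdim : topologicalKrullDim X ≤ 1) {x₀ ξ : X}
    (hn : Curv2.IsNode k X x₀) (h : ξ ⤳ x₀) (hne : ξ ≠ x₀) : ξ ∈ (X ↘ Spec (CommRingCat.of k)).smoothLocus := by
  let p := X ↘ Spec (CommRingCat.of k)
  let ι : Spec (CommRingCat.of (AlgebraicClosure k)) ⟶ Spec (CommRingCat.of k) :=
    Spec.map (CommRingCat.ofHom (algebraMap k (AlgebraicClosure k)))
  let q := pullback.snd p ι
  let π := pullback.fst p ι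
  have sq : IsPullback π q p ι := IsPullback.of_hasPullback _ _
  obtain ⟨xb, hxb, -⟩ := Scheme.Pullback.exists_preimage_pullback (f := p) (g := ι) x₀
    (closedPoint (AlgebraicClosure k)) (Subsingleton.elim (α := Spec (CommRingCat.of k)) _ _)
  have hnp := hasNodePair_of_isNode hn sq xb hxb
  have hxbc : IsClosed ({xb} : Set ↑(pullback p ι)) :=
    RGLib.FibClosed.isClosed_singleton_of_field_ext π q p ι sq xb (hxb.symm ▸ hn.1)
  haveI : Flat ι := flat_spec_field ι
  haveI : Flat π := MorphismProperty.of_isPullback sq.flip inferInstance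
  obtain ⟨η, hη, hηξ⟩ := Flat.generalizingMap π (show ξ ⤳ π xb from hxb.symm ▸ h)
  have hηne : η ≠ xb := fun e => hne (by rw [← hηξ, e, hxb])
  have hdim' : topologicalKrullDim ↑(pullback p ι) ≤ 1 := by
    simpa using dim_le_of_isPullback p sq (n := 1) (by simpa using hdim)
  have hηgen : DimOne.IsGen η := by
    by_contra hg
    exact hηne ((hη.mem_closed (DimOne.isClosed_singleton hdim' hg) rfl).symm)
  haveI : LocallyOfFiniteType q := inferInstance
  haveI : LocallyOfFinitePresentation q := LocallyOfFinitePresentation.iff_locallyOfFiniteType.2 inferInstance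
  haveI := isReduced_stalk_of_hasNodePair q hxbc hnp
  haveI := isReduced_stalk_of_specializes hη
  haveI := isNoetherianRing_stalk_of_lft q η
  haveI : Ring.KrullDimLE 0 ((pullback p ι).presheaf.stalk η) :=
    Ring.krullDimLE_iff.mpr (by simpa using S16428.ringKrullDim_stalk_le_zero η hηgen)
  have hf : IsField ((pullback p ι).presheaf.stalk η) := Ring.KrullDimLE.isField_of_isReduced
  have hreg : IsRegularLocalRing ((pullback p ι).presheaf.stalk η) := by
    letI := hf.toField
    infer_instance
  have hηs : η ∈ q.smoothLocus := (SmoothReg.mem_smoothLocus_iff_isRegularLocalRing q η).mpr hreg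
  rw [S2155.result p ι q π sq (.inr inferInstance)] at hηs
  exact hηξ ▸ hηs

theorem atWorstNodal_iff (hdim : topologicalKrullDim X ≤ 1) :
    Curv2.AtWorstNodal k X ↔
      ∀ x : X, x ∈ (X ↘ Spec (CommRingCat.of k)).smoothLocus ∨ Curv2.IsNode k X x := by
  constructor
  · intro h x
    haveI : JacobsonSpace X := LocallyOfFiniteType.jacobsonSpace (X ↘ Spec (CommRingCat.of k))
    obtain ⟨x₀, hx₀, hx₀c⟩ := nonempty_inter_closedPoints (Set.singleton_nonempty x).closure
      isClosed_closure.isLocallyClosed
    have hsp : x ⤳ x₀ := specializes_iff_mem_closure.2 hx₀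
    rcases h x₀ hx₀c with hs | hn
    · exact Or.inl (hsp.mem_open (X ↘ Spec (CommRingCat.of k)).smoothLocus.2 ((exists_smooth_nhd_iff x₀).mp hs))
    · by_cases hne : x = x₀
      · exact Or.inr (hne ▸ hn)
      · exact Or.inl (mem_smoothLocus_of_generization hdim hn hsp hne)
  · exact fun h x _ => (h x).imp (exists_smooth_nhd_iff x).mpr id

theorem atWorstNodal_iff_of_isPullback (hdim : topologicalKrullDim X ≤ 1) {K : Type u} [Field K] {Y : Scheme.{u}}
    [Y.Over (Spec (CommRingCat.of K))] {σ : Spec (CommRingCat.of K) ⟶ Spec (CommRingCat.of k)} {π : Y ⟶ X}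
    (sq : IsPullback π (Y ↘ Spec (CommRingCat.of K)) (X ↘ Spec (CommRingCat.of k)) σ) :
    Curv2.AtWorstNodal k X ↔ Curv2.AtWorstNodal K Y := by
  haveI : LocallyOfFiniteType (Y ↘ Spec (CommRingCat.of K)) := MorphismProperty.of_isPullback sq inferInstance
  haveI : LocallyOfFinitePresentation (Y ↘ Spec (CommRingCat.of K)) :=
    MorphismProperty.of_isPullback sq inferInstance
  have hdimY : topologicalKrullDim Y ≤ 1 := by
    simpa using dim_le_of_isPullback _ sq (n := 1) (by simpa using hdim)
  rw [atWorstNodal_iff hdim, atWorstNodal_iff hdimY]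
  have hS := S2155.result _ σ _ π sq (.inr (flat_spec_field σ))
  have hsm : ∀ y, y ∈ (Y ↘ Spec (CommRingCat.of K)).smoothLocus ↔
      π y ∈ (X ↘ Spec (CommRingCat.of k)).smoothLocus := fun y => by rw [hS]; rfl
  constructor
  · exact fun h y => (h (π y)).imp (hsm y).mpr (isNode_iff_of_isPullback hdim sq y).mp
  · intro h x
    haveI : Surjective σ := ⟨fun b => ⟨Classical.arbitrary _, Subsingleton.elim _ _⟩⟩
    haveI : Surjective π := MorphismProperty.of_isPullback sq.flip inferInstance
    obtain ⟨y, rfl⟩ := π.surjective x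
    exact (h y).imp (hsm y).mp (isNode_iff_of_isPullback hdim sq y).mpr

theorem atWorstNodal_of_smooth_or_node (h : ∀ x : X, IsClosed ({x} : Set X) →
    x ∈ (X ↘ Spec (CommRingCat.of k)).smoothLocus ∨ Curv2.IsNode k X x) : Curv2.AtWorstNodal k X :=
  fun x hx => (h x hx).imp (exists_smooth_nhd_iff x).mpr id

end Field

/-- The fibre condition of a nodal family. -/
def FibreCond {X S : Scheme.{u}} (f : X ⟶ S) (s : S) : Prop :=
  (∀ Z ∈ irreducibleComponents (f.fiber s : Type u), topologicalKrullDim Z = 1) ∧
    letI : (f.fiber s).Over (Spec (S.residueField s)) := ⟨f.fiberToSpecResidueField s⟩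
    Curv2.AtWorstNodal (S.residueField s) (f.fiber s)

theorem fibreCond_iff_of_isPullback {X S X' S' : Scheme.{u}} {f : X ⟶ S} [LocallyOfFinitePresentation f]
    {g : S' ⟶ S} {f' : X' ⟶ S'} {g' : X' ⟶ X} (sq : IsPullback g' f' f g) (s' : S') :
    FibreCond f' s' ↔ FibreCond f (g s') := by
  haveI : LocallyOfFinitePresentation f' := MorphismProperty.of_isPullback sq inferInstance
  have hsq := isPullback_fiberToSpecResidueField_of_isPullback sq s'
  let σ := Spec.map (g.residueFieldMap s')
  haveI : Flat σ := flat_spec_field (L := S.residueField (g s')) (Ω := S'.residueField s') σ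
  haveI : Surjective σ := ⟨fun b => ⟨Classical.arbitrary _, Subsingleton.elim _ _⟩⟩
  haveI : LocallyOfFinitePresentation (f.fiberToSpecResidueField (g s')) :=
    MorphismProperty.pullback_snd _ _ inferInstance
  haveI : LocallyOfFinitePresentation (f'.fiberToSpecResidueField s') :=
    MorphismProperty.pullback_snd _ _ inferInstance
  have hdims := FibDim.component_dims_baseChange (Y := Spec (S.residueField (g s')))
    (Y' := Spec (S'.residueField s')) hsq
  have hcomp : (∀ Z ∈ irreducibleComponents (f'.fiber s' : Type u), topologicalKrullDim Z = 1) ↔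
      ∀ Z ∈ irreducibleComponents (f.fiber (g s') : Type u), topologicalKrullDim Z = 1 := by
    have e : ∀ {T : Type u} [TopologicalSpace T], (∀ Z ∈ irreducibleComponents T, topologicalKrullDim Z = 1) ↔
        ∀ d ∈ (fun Z : Set T => topologicalKrullDim ↥Z) '' irreducibleComponents T, d = 1 := fun {T} _ => by
      simp
    rw [e, e]
    exact Iff.of_eq (congrArg (fun s : Set (WithBot ℕ∞) => ∀ d ∈ s, d = 1) hdims)
  unfold FibreCond
  constructor
  · rintro ⟨hd, hn⟩
    refine ⟨hcomp.mp hd, ?_⟩
    letI : (f.fiber (g s')).Over (Spec (CommRingCat.of (S.residueField (g s')))) := ⟨f.fiberToSpecResidueField (g s')⟩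
    letI : (f'.fiber s').Over (Spec (CommRingCat.of (S'.residueField s'))) := ⟨f'.fiberToSpecResidueField s'⟩
    haveI : LocallyOfFiniteType (f.fiber (g s') ↘ Spec (CommRingCat.of (S.residueField (g s')))) :=
      inferInstanceAs (LocallyOfFiniteType (f.fiberToSpecResidueField (g s')))
    haveI : LocallyOfFinitePresentation (f.fiber (g s') ↘ Spec (CommRingCat.of (S.residueField (g s')))) :=
      ‹LocallyOfFinitePresentation (f.fiberToSpecResidueField (g s'))›
    exact (atWorstNodal_iff_of_isPullback (k := S.residueField (g s')) (K := S'.residueField s')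
      (X := f.fiber (g s')) (Y := f'.fiber s')
      (dim_le_one_of_components (f.fiberToSpecResidueField (g s') : f.fiber (g s') ⟶ Spec (CommRingCat.of (S.residueField (g s')))) (hcomp.mp hd))
      (σ := Spec.map (g.residueFieldMap s')) hsq).mpr hn
  · rintro ⟨hd, hn⟩
    refine ⟨hcomp.mpr hd, ?_⟩
    letI : (f.fiber (g s')).Over (Spec (CommRingCat.of (S.residueField (g s')))) := ⟨f.fiberToSpecResidueField (g s')⟩
    letI : (f'.fiber s').Over (Spec (CommRingCat.of (S'.residueField s'))) := ⟨f'.fiberToSpecResidueField s'⟩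
    haveI : LocallyOfFiniteType (f.fiber (g s') ↘ Spec (CommRingCat.of (S.residueField (g s')))) :=
      inferInstanceAs (LocallyOfFiniteType (f.fiberToSpecResidueField (g s')))
    haveI : LocallyOfFinitePresentation (f.fiber (g s') ↘ Spec (CommRingCat.of (S.residueField (g s')))) :=
      ‹LocallyOfFinitePresentation (f.fiberToSpecResidueField (g s'))›
    exact (atWorstNodal_iff_of_isPullback (k := S.residueField (g s')) (K := S'.residueField s')
      (X := f.fiber (g s')) (Y := f'.fiber s')
      (dim_le_one_of_components (f.fiberToSpecResidueField (g s') : f.fiber (g s') ⟶ Spec (CommRingCat.of (S.residueField (g s')))) hd)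
      (σ := Spec.map (g.residueFieldMap s')) hsq).mp hn

theorem isNodalFamily_baseChange {X S S' : Scheme.{u}} (f : X ⟶ S) (hf : Curv2.IsNodalFamily f) (g : S' ⟶ S) :
    Curv2.IsNodalFamily (pullback.snd f g) := by
  obtain ⟨h1, h2, h3⟩ := hf
  exact ⟨MorphismProperty.pullback_snd _ _ h1, MorphismProperty.pullback_snd _ _ h2,
    fun s' => (fibreCond_iff_of_isPullback (IsPullback.of_hasPullback f g) s').mpr (h3 (g s'))⟩

theorem isNodalFamily_of_fpqc {X S S' : Scheme.{u}} (f : X ⟶ S) (g : S' ⟶ S) [Flat g] [QuasiCompact g] [Surjective g]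
    (h : Curv2.IsNodalFamily (pullback.snd f g)) : Curv2.IsNodalFamily f := by
  obtain ⟨h1, h2, h3⟩ := h
  have hQ : (@Surjective ⊓ @Flat ⊓ @QuasiCompact : MorphismProperty Scheme.{u}) g :=
    ⟨⟨inferInstance, inferInstance⟩, inferInstance⟩
  haveI : LocallyOfFinitePresentation f :=
    MorphismProperty.of_pullback_snd_of_descendsAlong (Q := @Surjective ⊓ @Flat ⊓ @QuasiCompact) hQ h2
  refine ⟨MorphismProperty.of_pullback_snd_of_descendsAlong (Q := @Surjective ⊓ @Flat ⊓ @QuasiCompact) hQ h1,
    inferInstance, fun s => ?_⟩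
  obtain ⟨s', rfl⟩ := g.surjective s
  exact (fibreCond_iff_of_isPullback (IsPullback.of_hasPullback f g) s').mp (h3 s')

end Groth.Agent.NodeLib
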