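import Groth.Agent.NodeLib.NodalLocal
import Groth.Agent.S11549
import Groth.Agent.VarGeom.Normal
import Groth.Agent.CDiv6.Factorial
import Groth.Agent.DimFormula.Stalk
import Groth.Agent.Codepth5.Field
import Groth.Agent.H23.TopDim
import Mathlib

/-!
# Normality of families with reduced fibres and normal generic fibre
-/

noncomputable section

set_option autoImplicit false
set_option linter.style.haveILetI false
set_option backward.isDefEq.respectTransparency false
set_option backward.isDefEq.respectTransparency.types false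
set_option maxHeartbeats 1000000

universe u

open CategoryTheory AlgebraicGeometry IsLocalRing TensorProduct

namespace Groth.Agent.NodeLib

/-- A Noetherian ring with domain local rings and without idempotents is a domain. -/
theorem noZeroDivisors_of_localization (L : Type u) [CommRing L] [IsNoetherianRing L]
    (hloc : ∀ (Q : Ideal L) [Q.IsMaximal], IsDomain (Localization.AtPrime Q))
    (hid : ∀ e : L, IsIdempotentElem e → e = 0 ∨ e = 1) : NoZeroDivisors L := by
  refine ⟨fun {a b} hab => ?_⟩
  let I : Ideal L := LinearMap.ker (LinearMap.mulLeft L a)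
  have hI : ∀ x, x ∈ I ↔ a * x = 0 := fun x => Iff.rfl
  have hII : IsIdempotentElem I := by
    refine le_antisymm Ideal.mul_le_left ?_
    refine Ideal.le_of_localization_maximal fun P hP => ?_
    haveI := hloc P
    let g := algebraMap L (Localization.AtPrime P)
    by_cases h : g a = 0
    · obtain ⟨⟨s, hs⟩, hsa⟩ := (IsLocalization.map_eq_zero_iff P.primeCompl _ a).mp h
      have hsI : s ∈ I := (hI s).mpr (by rw [mul_comm]; exact hsa)
      refine le_top.trans (top_le_iff.mpr (Ideal.eq_top_of_isUnit_mem _
        (Ideal.mem_map_of_mem g (Ideal.mul_mem_mul hsI hsI)) ?_))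
      rw [map_mul]
      exact (IsLocalization.map_units _ (⟨s, hs⟩ : P.primeCompl)).mul
        (IsLocalization.map_units _ (⟨s, hs⟩ : P.primeCompl))
    · refine Ideal.map_le_iff_le_comap.mpr fun x hx => ?_
      have h0 : g a * g x = 0 := by rw [← map_mul, (hI x).mp hx, map_zero]
      rw [Ideal.mem_comap, (mul_eq_zero.mp h0).resolve_left h]
      exact zero_mem _
  obtain ⟨e, he, hIe⟩ := (Ideal.isIdempotentElem_iff_of_fg I (IsNoetherian.noetherian _)).mp hII
  rcases hid e he with rfl | rfl
  · refine .inr ?_
    have hb : b ∈ I := (hI b).mpr hab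
    rw [hIe] at hb
    simpa using hb
  · refine .inl ?_
    have h1 : (1 : L) ∈ I := hIe ▸ Submodule.mem_span_singleton_self 1
    simpa using (hI 1).mp h1

/-- The generic part of a local ring with reduced special part is a normal domain if it is so locally. -/
theorem normal_generic (A : Type u) [CommRing A] [IsLocalRing A] (π : A)
    (hreg : π ∈ nonZeroDivisors A) [_root_.IsReduced (A ⧸ Ideal.span {π})] (M : Submonoid A)
    (hM : ∀ m ∈ M, ∃ (v : Aˣ) (n : ℕ), m = v * π ^ n)
    (L : Type u) [CommRing L] [Algebra A L] [IsLocalization M L] [IsNoetherianRing L] [Nontrivial L]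
    (hloc : ∀ (Q : Ideal L) [Q.IsMaximal],
      IsDomain (Localization.AtPrime Q) ∧ IsIntegrallyClosed (Localization.AtPrime Q)) :
    IsDomain L ∧ IsIntegrallyClosed L := by
  have hM0 : M ≤ nonZeroDivisors A := fun m hm => by
    obtain ⟨v, n, rfl⟩ := hM m hm
    exact mul_mem v.isUnit.mem_nonZeroDivisors (pow_mem hreg n)
  have hinj : Function.Injective (algebraMap A L) := IsLocalization.injective L hM0
  have hkey : ∀ (n : ℕ) (a : A), a * a = a * π ^ n → a = 0 ∨ a = π ^ n := by
    intro n
    induction n with
    | zero =>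
      intro a h
      rw [pow_zero, mul_one] at h
      have h0 : a * (1 - a) = 0 := by linear_combination -h
      rcases IsLocalRing.isUnit_or_isUnit_one_sub_self a with hu | hu
      · right
        have := hu.mul_right_eq_zero.mp h0
        rw [pow_zero]; linear_combination -this
      · exact .inl (hu.mul_left_eq_zero.mp h0)
    | succ n ih =>
      intro a h
      have ha : a ∈ Ideal.span {π} := by
        rw [← Ideal.Quotient.eq_zero_iff_mem]
        refine IsReduced.eq_zero _ ⟨2, ?_⟩
        rw [← map_pow, Ideal.Quotient.eq_zero_iff_mem, pow_two, h, pow_succ, ← mul_assoc]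
        exact Ideal.mul_mem_left _ _ (Ideal.mem_span_singleton_self π)
      obtain ⟨c, rfl⟩ := Ideal.mem_span_singleton'.mp ha
      have h2 : (c * c - c * π ^ n) * (π * π) = 0 := by linear_combination h
      have h3 := mem_nonZeroDivisors_iff_right.mp (mul_mem hreg hreg) _ h2
      rcases ih c (sub_eq_zero.mp h3) with rfl | rfl
      · exact .inl (zero_mul _)
      · exact .inr (pow_succ _ _).symm
  have hid : ∀ e : L, IsIdempotentElem e → e = 0 ∨ e = 1 := by
    intro e he
    obtain ⟨⟨a, m⟩, hm⟩ := IsLocalization.surj M e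
    obtain ⟨v, n, hv⟩ := hM m m.2
    have hu : IsUnit (algebraMap A L (π ^ n)) := by
      have := IsLocalization.map_units L m
      rw [hv, map_mul] at this
      exact (IsUnit.mul_iff.mp this).2
    have hb : e * algebraMap A L (π ^ n) = algebraMap A L (↑v⁻¹ * a) := by
      calc e * algebraMap A L (π ^ n)
          = e * algebraMap A L (↑v⁻¹ * (↑v * π ^ n)) := by rw [← mul_assoc, v.inv_mul, one_mul]
        _ = algebraMap A L ↑v⁻¹ * (e * algebraMap A L m) := by rw [← hv, map_mul]; ring
        _ = algebraMap A L (↑v⁻¹ * a) := by rw [hm, map_mul]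
    have he' : e * e = e := he
    have h2 : (↑v⁻¹ * a) * (↑v⁻¹ * a) = (↑v⁻¹ * a) * π ^ n := hinj (by
      rw [map_mul _ (↑v⁻¹ * a), map_mul _ (↑v⁻¹ * a) (π ^ n), ← hb]
      linear_combination (algebraMap A L (π ^ n)) ^ 2 * he')
    rcases hkey n _ h2 with h | h
    · refine .inl (hu.mul_left_eq_zero.mp ?_)
      rw [hb, h, map_zero]
    · refine .inr (hu.mul_right_cancel ?_)
      rw [hb, h, one_mul]
  haveI := noZeroDivisors_of_localization L (fun Q _ => (hloc Q).1) hid
  haveI : IsDomain L := NoZeroDivisors.to_isDomain L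
  exact ⟨inferInstance, IsIntegrallyClosed.of_localization_maximal fun Q _ => (hloc Q).2⟩

/-- The local ring at a generization, as a localisation at a prime. -/
theorem exists_stalk_localization {X : Scheme.{u}} (x : X) (P : PrimeSpectrum (X.presheaf.stalk x)) :
    ∃ (_ : Algebra (X.presheaf.stalk x) (X.presheaf.stalk (X.fromSpecStalk x P))),
      IsLocalization.AtPrime (X.presheaf.stalk (X.fromSpecStalk x P)) P.asIdeal := by
  have hsp : X.fromSpecStalk x P ⤳ x := CDiv6.fromSpecStalk_specializes P
  obtain ⟨N, hN⟩ := VarGeom.exists_isLocalization_stalkSpecializes hsp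
  letI := (X.presheaf.stalkSpecializes hsp).hom.toAlgebra
  haveI := hN
  have hP : ∀ r, r ∈ P.asIdeal ↔ ¬ IsUnit (algebraMap _ (X.presheaf.stalk (X.fromSpecStalk x P)) r) := fun r => by
    have h := CDiv6.mem_primeOf hsp r
    rwa [CDiv6.primeOf_fromSpecStalk P] at h
  refine ⟨inferInstance, IsLocalization.of_le N P.asIdeal.primeCompl (fun s hs hsP => ?_) fun r hr => ?_⟩
  · exact (hP s).mp hsP (IsLocalization.map_units _ (⟨s, hs⟩ : N))
  · by_contra hu
    exact hr ((hP r).mpr hu)

/-- The fibres of a nodal family are reduced. -/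
theorem isReduced_stalk_quotient {X S : Scheme.{u}} (f : X ⟶ S) [IsLocallyNoetherian S]
    (hf : Curv2.IsNodalFamily f) (x : X) :
    _root_.IsReduced (X.presheaf.stalk x ⧸ Codepth5.fibIdeal f x) := by
  obtain ⟨-, hlfp, hfib⟩ := hf
  let s := f x
  letI : (f.fiber s).Over (Spec (CommRingCat.of (S.residueField s))) := ⟨f.fiberToSpecResidueField s⟩
  haveI : LocallyOfFinitePresentation (f.fiber s ↘ Spec (CommRingCat.of (S.residueField s))) :=
    MorphismProperty.pullback_snd (P := @LocallyOfFinitePresentation) f (S.fromSpecResidueField s) hlfp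
  have hdim : topologicalKrullDim (f.fiber s) ≤ 1 := by
    rw [H23.TopDim.dim_eq_iSup_irreducibleComponents]
    exact iSup₂_le fun Z hZ => ((hfib s).1 Z hZ).le
  haveI := (gorenstein_and_geometricallyReduced (k := S.residueField s) (X := f.fiber s) hdim (hfib s).2).2
  haveI : AlgebraicGeometry.IsReduced (f.fiber s) :=
    GeometricallyReduced.isReduced_of_flat_of_isLocallyNoetherian (f.fiber s ↘ Spec (CommRingCat.of (S.residueField s)))
  obtain ⟨E⟩ := Codepth5.nonempty_fibre_stalk_equiv f x s (f.asFiber x) (f.fiberι_asFiber x)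
  exact isReduced_of_injective E.toRingHom E.injective

attribute [local instance] Algebra.TensorProduct.rightAlgebra

theorem normal_of_generic {R : Type u} [CommRing R] [IsDedekindDomain R]
    {X : Scheme.{u}} (f : X ⟶ Spec (CommRingCat.of R)) (hf : Curv2.IsNodalFamily f)
    (hgen : ∀ x : X, (f.base x).asIdeal = ⊥ →
      IsDomain (X.presheaf.stalk x) ∧ IsIntegrallyClosed (X.presheaf.stalk x)) (x : X) :
    IsDomain (X.presheaf.stalk x) ∧ IsIntegrallyClosed (X.presheaf.stalk x) := by
  by_cases hp : (f.base x).asIdeal = ⊥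
  · exact hgen x hp
  haveI : Flat f := hf.1
  haveI : LocallyOfFinitePresentation f := hf.2.1
  haveI : IsNoetherianRing (CommRingCat.of R) := inferInstanceAs (IsNoetherianRing R)
  haveI := LocallyOfFiniteType.isLocallyNoetherian f
  let S := Spec (CommRingCat.of R)
  let p : PrimeSpectrum R := f x
  let R' := S.presheaf.stalk (f x)
  letI : Algebra R R' := StructureSheaf.stalkAlgebra (CommRingCat.of R) p
  haveI : IsLocalization.AtPrime R' p.asIdeal := StructureSheaf.IsLocalization.to_stalk (CommRingCat.of R) p
  haveI : IsDomain R' := IsLocalization.isDomain_of_le_nonZeroDivisors R'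
      p.asIdeal.primeCompl_le_nonZeroDivisors
  haveI : IsDiscreteValuationRing R' :=
    IsLocalization.AtPrime.isDiscreteValuationRing_of_dedekind_domain R hp R'
  let A := X.presheaf.stalk x
  let φ : R' →+* A := (f.stalkMap x).hom
  letI : Algebra R' A := φ.toAlgebra
  haveI : Module.Flat R' A := Flat.stalkMap f x
  haveI : IsLocalHom (algebraMap R' A) := inferInstanceAs (IsLocalHom (f.stalkMap x).hom)
  haveI : IsNoetherianRing A := inferInstance
  have hred : _root_.IsReduced (A ⧸ Ideal.map (algebraMap R' A) (maximalIdeal R')) := isReduced_stalk_quotient f hf x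
  obtain ⟨ϖ, hϖ⟩ := IsDiscreteValuationRing.exists_irreducible R'
  have hπ : Ideal.map (algebraMap R' A) (maximalIdeal R') = Ideal.span {algebraMap R' A ϖ} := by
    rw [(IsDiscreteValuationRing.irreducible_iff_uniformizer ϖ).1 hϖ, Ideal.map_span, Set.image_singleton]
  haveI : _root_.IsReduced (A ⧸ Ideal.span {algebraMap R' A ϖ}) := hπ ▸ hred
  have hreg : algebraMap R' A ϖ ∈ nonZeroDivisors A := mem_nonZeroDivisors_iff_right.mpr fun a ha => by
    have h := (Module.Flat.isSMulRegular_of_nonZeroDivisors (M := A) (mem_nonZeroDivisors_of_ne_zero hϖ.ne_zero))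
    refine h ?_
    simp only [Algebra.smul_def]
    rw [mul_zero, mul_comm]; exact ha
  let K := FractionRing R'
  let M : Submonoid A := Algebra.algebraMapSubmonoid A (nonZeroDivisors R')
  let L := K ⊗[R'] A
  haveI : IsLocalization M L := IsLocalization.tensorRight (R := R') (A := K) (S := A) (nonZeroDivisors R')
  haveI : IsNoetherianRing L := IsLocalization.isNoetherianRing M L inferInstance
  haveI : Nontrivial L :=
    (Algebra.TensorProduct.includeRight_injective (A := K) (B := A) (IsFractionRing.injective R' K)).nontrivial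
  have hM : ∀ m ∈ M, ∃ (v : Aˣ) (n : ℕ), m = v * algebraMap R' A ϖ ^ n := by
    rintro _ ⟨r, hr, rfl⟩
    obtain ⟨n, w, rfl⟩ := IsDiscreteValuationRing.eq_unit_mul_pow_irreducible (nonZeroDivisors.ne_zero hr) hϖ
    exact ⟨w.map (algebraMap R' A).toMonoidHom, n, by rw [map_mul, map_pow]; rfl⟩
  have hloc : ∀ (Q : Ideal L) [Q.IsMaximal],
      IsDomain (Localization.AtPrime Q) ∧ IsIntegrallyClosed (Localization.AtPrime Q) := by
    intro Q _
    let P : PrimeSpectrum A := ⟨Q.comap (algebraMap A L), inferInstance⟩
    let y := X.fromSpecStalk x P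
    have hP : PrimeSpectrum.comap (f.stalkMap x).hom P = ⟨⊥, Ideal.isPrime_bot⟩ := by
      apply PrimeSpectrum.ext
      refine le_bot_iff.mp fun r hr => ?_
      rw [Submodule.mem_bot]
      by_contra hne
      exact Ideal.IsPrime.ne_top (I := Q) inferInstance (Ideal.eq_top_of_isUnit_mem _ hr
        (IsLocalization.map_units L (⟨algebraMap R' A r, r, mem_nonZeroDivisors_of_ne_zero hne, rfl⟩ : M)))
    have hy : (f.base y).asIdeal = ⊥ := by
      have h := DimFormula.fromSpecStalk_comm f x P
      rw [hP] at h
      show (f y).asIdeal = ⊥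
      rw [← h, Spec.fromSpecStalk_eq]
      exact Ideal.comap_bot_of_injective _
        (IsLocalization.injective R' p.asIdeal.primeCompl_le_nonZeroDivisors)
    obtain ⟨hd, hc⟩ := hgen y hy
    obtain ⟨alg, hl⟩ := exists_stalk_localization x P
    letI := alg
    haveI := hl
    haveI : IsLocalization.AtPrime (Localization.AtPrime Q) (Q.comap (algebraMap A L)) :=
      IsLocalization.isLocalization_isLocalization_atPrime_isLocalization M (Localization.AtPrime Q) Q
    let E : X.presheaf.stalk y ≃ₐ[A] Localization.AtPrime Q := IsLocalization.algEquiv P.asIdeal.primeCompl _ _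
    exact ⟨E.toRingEquiv.toMulEquiv.symm.isDomain, IsIntegrallyClosed.of_equiv E.toRingEquiv⟩
  obtain ⟨hd, hc⟩ := normal_generic A (algebraMap R' A ϖ) hreg M hM L hloc
  exact S11549.result R' A hred

end Groth.Agent.NodeLib
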