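import Groth.Agent.NodeLib.NodalEtale
import Groth.Agent.GrpSchLib.RankOneBig
import Groth.Agent.S0114
import Mathlib

/-!
# Nodal families and étale morphisms
-/

set_option autoImplicit false
set_option linter.style.haveILetI false
set_option linter.unusedSectionVars false
set_option backward.isDefEq.respectTransparency false
set_option backward.isDefEq.respectTransparency.types false

universe u

open CategoryTheory CategoryTheory.Limits AlgebraicGeometry IsLocalRing

namespace Groth.Agent.NodeLib

/-- The map of fibres of a composite. -/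
noncomputable def fibreMap {X Y S : Scheme.{u}} (g : Y ⟶ X) (f : X ⟶ S) (s : S) : (g ≫ f).fiber s ⟶ f.fiber s :=
  pullback.lift ((g ≫ f).fiberι s ≫ g) ((g ≫ f).fiberToSpecResidueField s)
    (by rw [Category.assoc]; exact pullback.condition)

theorem fibreMap_toSpec {X Y S : Scheme.{u}} (g : Y ⟶ X) (f : X ⟶ S) (s : S) :
    fibreMap g f s ≫ f.fiberToSpecResidueField s = (g ≫ f).fiberToSpecResidueField s :=
  pullback.lift_snd _ _ _

theorem fibreMap_ι {X Y S : Scheme.{u}} (g : Y ⟶ X) (f : X ⟶ S) (s : S) :
    fibreMap g f s ≫ f.fiberι s = (g ≫ f).fiberι s ≫ g :=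
  pullback.lift_fst _ _ _

theorem isPullback_fibreMap {X Y S : Scheme.{u}} (g : Y ⟶ X) (f : X ⟶ S) (s : S) :
    IsPullback ((g ≫ f).fiberι s) (fibreMap g f s) g (f.fiberι s) := by
  have hb : IsPullback (f.fiberι s) (f.fiberToSpecResidueField s) f (S.fromSpecResidueField s) :=
    IsPullback.of_hasPullback _ _
  have ht : IsPullback ((g ≫ f).fiberι s) (fibreMap g f s ≫ f.fiberToSpecResidueField s) (g ≫ f)
      (S.fromSpecResidueField s) := by
    rw [fibreMap_toSpec]; exact IsPullback.of_hasPullback _ _
  exact IsPullback.of_bot ht (fibreMap_ι g f s).symm hb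

theorem atWorstNodal_comp_etale {k : Type u} [Field k] {X Y : Scheme.{u}}
    [X.Over (Spec (CommRingCat.of k))] [Y.Over (Spec (CommRingCat.of k))]
    [LocallyOfFinitePresentation (X ↘ Spec (CommRingCat.of k))]
    (g : Y ⟶ X) [Etale g] (hq : (Y ↘ Spec (CommRingCat.of k)) = g ≫ (X ↘ Spec (CommRingCat.of k)))
    (hX : Curv2.AtWorstNodal k X) : Curv2.AtWorstNodal k Y := by
  haveI : LocallyOfFiniteType (Y ↘ Spec (CommRingCat.of k)) := by rw [hq]; infer_instance
  haveI : LocallyOfFinitePresentation (Y ↘ Spec (CommRingCat.of k)) := by rw [hq]; infer_instance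
  refine atWorstNodal_of_smooth_or_node fun y hy => ?_
  have hc : IsClosed ({g y} : Set X) := by
    haveI : JacobsonSpace X := LocallyOfFiniteType.jacobsonSpace (X ↘ Spec (CommRingCat.of k))
    exact g.closePoints_subset_preimage_closedPoints hy
  refine (hX (g y) hc).imp (fun hs => ?_) (isNode_comp_iff _ g rfl hq y).mpr
  simp only [hq]
  exact (mem_smoothLocus_comp_iff (X ↘ Spec (CommRingCat.of k)) g y).mpr ((exists_smooth_nhd_iff _).mp hs)

theorem isNodalFamily_precomp {X Y S : Scheme.{u}} (f : X ⟶ S) (hf : Curv2.IsNodalFamily f) (g : Y ⟶ X) [Etale g] :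
    Curv2.IsNodalFamily (g ≫ f) := by
  obtain ⟨hfl, hfp, hfib⟩ := hf
  haveI := hfl
  haveI := hfp
  refine ⟨inferInstance, inferInstance, fun s => ?_⟩
  haveI : Etale (fibreMap g f s) := MorphismProperty.of_isPullback (isPullback_fibreMap g f s) inferInstance
  haveI : LocallyOfFinitePresentation (f.fiberToSpecResidueField s) :=
    MorphismProperty.pullback_snd _ _ inferInstance
  letI iX : (f.fiber s).Over (Spec (CommRingCat.of (S.residueField s))) := ⟨f.fiberToSpecResidueField s⟩
  letI iY : ((g ≫ f).fiber s).Over (Spec (CommRingCat.of (S.residueField s))) :=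
    ⟨(g ≫ f).fiberToSpecResidueField s⟩
  haveI : LocallyOfFinitePresentation (f.fiber s ↘ Spec (CommRingCat.of (S.residueField s))) :=
    inferInstanceAs (LocallyOfFinitePresentation (f.fiberToSpecResidueField s))
  exact ⟨components_comp_etale (k := S.residueField s) (X := f.fiber s) (f.fiberToSpecResidueField s)
      (fibreMap g f s) (hfib s).1,
    atWorstNodal_comp_etale (k := S.residueField s) (X := f.fiber s) (fibreMap g f s)
      (fibreMap_toSpec g f s).symm (hfib s).2⟩

theorem isNodalFamily_postcomp {X S S' : Scheme.{u}} (e : S' ⟶ S) [Etale e] (f : X ⟶ S')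
    (hf : Curv2.IsNodalFamily f) : Curv2.IsNodalFamily (f ≫ e) := by
  obtain ⟨hfl, hfp, hfib⟩ := hf
  haveI := hfl
  haveI := hfp
  refine ⟨inferInstance, inferInstance, fun s => ?_⟩
  have sq := isPullback_fibreMap f e s
  haveI : LocallyOfFinitePresentation (fibreMap f e s) := MorphismProperty.of_isPullback sq inferInstance
  haveI : Etale (e.fiberToSpecResidueField s) := MorphismProperty.pullback_snd _ _ inferInstance
  have hh : Curv2.IsNodalFamily (fibreMap f e s) := by
    refine ⟨MorphismProperty.of_isPullback sq inferInstance, inferInstance, fun t => ?_⟩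
    exact (fibreCond_iff_of_isPullback sq t).mpr (hfib _)
  letI iY : ((f ≫ e).fiber s).Over (Spec (CommRingCat.of (S.residueField s))) :=
    ⟨(f ≫ e).fiberToSpecResidueField s⟩
  exact nodal_of_etale_base (k := S.residueField s) (T := e.fiber s) (Y := (f ≫ e).fiber s) (fibreMap f e s) hh
    (e.fiberToSpecResidueField s) (fibreMap_toSpec f e s).symm

theorem isNodalFamily_of_etale_cover {X S : Scheme.{u}} (f : X ⟶ S) (ι : Type u) (U : ι → Scheme.{u})
    (g : ∀ i, U i ⟶ X) [∀ i, Etale (g i)] (hsurj : ∀ x : X, ∃ i, x ∈ Set.range (g i).base)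
    (h : ∀ i, Curv2.IsNodalFamily (g i ≫ f)) : Curv2.IsNodalFamily f := by
  let p : (∐ fun i => U i) ⟶ X := Sigma.desc g
  haveI : Etale p := IsZariskiLocalAtSource.sigmaDesc fun i => inferInstanceAs (Etale (g i))
  haveI : Surjective p := ⟨fun x => by
    obtain ⟨i, y, rfl⟩ := hsurj x
    exact ⟨Sigma.ι (fun i => U i) i y, by rw [← Scheme.Hom.comp_apply, Sigma.ι_desc]⟩⟩
  have hpf : p ≫ f = Sigma.desc fun i => g i ≫ f := by
    ext i; simp [p]
  haveI : Flat (p ≫ f) := hpf ▸ IsZariskiLocalAtSource.sigmaDesc fun i => (h i).1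
  haveI : LocallyOfFinitePresentation (p ≫ f) := hpf ▸ IsZariskiLocalAtSource.sigmaDesc fun i => (h i).2.1
  haveI : LocallyOfFinitePresentation f := S0114.result p f
  refine ⟨GrpSchLib.RankOne.flat_of_comp p f, inferInstance, fun s => ?_⟩
  haveI : LocallyOfFinitePresentation (f.fiberToSpecResidueField s) :=
    MorphismProperty.pullback_snd _ _ inferInstance
  letI iX : (f.fiber s).Over (Spec (CommRingCat.of (S.residueField s))) := ⟨f.fiberToSpecResidueField s⟩
  haveI : LocallyOfFinitePresentation (f.fiber s ↘ Spec (CommRingCat.of (S.residueField s))) :=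
    inferInstanceAs (LocallyOfFinitePresentation (f.fiberToSpecResidueField s))
  haveI : ∀ i, Etale (fibreMap (g i) f s) := fun i =>
    MorphismProperty.of_isPullback (isPullback_fibreMap (g i) f s) inferInstance
  have hlift : ∀ x : f.fiber s, ∃ i u, fibreMap (g i) f s u = x := fun x => by
    obtain ⟨i, y, hy⟩ := hsurj (f.fiberι s x)
    obtain ⟨u, -, hu⟩ := Scheme.exists_preimage_of_isPullback (isPullback_fibreMap (g i) f s) y x hy
    exact ⟨i, u, hu⟩
  constructor
  · refine (components_iff (k := S.residueField s) (X := f.fiber s) (f.fiberToSpecResidueField s)).mpr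
      fun w hw => ?_
    obtain ⟨i, u, rfl⟩ := hlift w
    haveI : LocallyOfFiniteType (((g i) ≫ f).fiberToSpecResidueField s) :=
      MorphismProperty.pullback_snd _ _ inferInstance
    have h1 := (components_iff (k := S.residueField s) (X := (g i ≫ f).fiber s)
      ((g i ≫ f).fiberToSpecResidueField s)).mp ((h i).2.2 s).1 u (isGen_of_image _ hw)
    have h2 : FibDim.rd ((g i ≫ f).fiberToSpecResidueField s) u =
        FibDim.rd (f.fiberToSpecResidueField s) (fibreMap (g i) f s u) := by
      rw [← fibreMap_toSpec, FibDim.rd_comp, rd_etale (fibreMap (g i) f s), add_zero]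
    exact h2.symm.trans h1
  · refine atWorstNodal_of_smooth_or_node (k := S.residueField s) (X := f.fiber s) fun x hx => ?_
    obtain ⟨i, u, rfl⟩ := hlift x
    haveI : LocallyOfFinitePresentation (((g i) ≫ f).fiberToSpecResidueField s) :=
      MorphismProperty.pullback_snd _ _ inferInstance
    letI iY : ((g i ≫ f).fiber s).Over (Spec (CommRingCat.of (S.residueField s))) :=
      ⟨(g i ≫ f).fiberToSpecResidueField s⟩
    haveI : LocallyOfFinitePresentation ((g i ≫ f).fiber s ↘ Spec (CommRingCat.of (S.residueField s))) :=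
      inferInstanceAs (LocallyOfFinitePresentation ((g i ≫ f).fiberToSpecResidueField s))
    refine (((h i).2.2 s).2 u (isClosed_of_image _ hx)).imp (fun hs => ?_)
      (isNode_comp_iff (k := S.residueField s) (X := f.fiber s) _ (fibreMap (g i) f s) rfl
        (fibreMap_toSpec (g i) f s).symm u).mp
    have h1 : u ∈ ((g i ≫ f).fiberToSpecResidueField s).smoothLocus :=
      (exists_smooth_nhd_iff (k := S.residueField s) (X := (g i ≫ f).fiber s) u).mp hs
    simp only [← fibreMap_toSpec] at h1
    exact (mem_smoothLocus_comp_iff (k := S.residueField s) (f.fiberToSpecResidueField s)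
      (fibreMap (g i) f s) u).mp h1

end Groth.Agent.NodeLib
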