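import Groth.Agent.NodeLib.NodalGood
import Groth.Agent.Synt29.SmoothDim
import Groth.Agent.FibDim.LocDim
import Groth.Agent.FibDim.Semicont
import Groth.Agent.S2155

/-!
# The largest open on which a morphism is nodal of relative dimension one
-/

set_option autoImplicit false
set_option linter.style.haveILetI false

universe u

open CategoryTheory CategoryTheory.Limits AlgebraicGeometry IsLocalRing

namespace Groth.Agent.NodeLib

theorem rd_eq_one_of_fibMax {X S : Scheme.{u}} (f : X ⟶ S) [LocallyOfFiniteType f] {z : X}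
    (h : ∀ Z ∈ irreducibleComponents (f.fiber (f z) : Type u), topologicalKrullDim Z = 1)
    (hz : FibDim.FibMax f z) : FibDim.rd f z = 1 := by
  haveI : LocallyOfFiniteType (f.fiberToSpecResidueField (f z)) := MorphismProperty.pullback_snd _ _ inferInstance
  have h1 := CharCycDim.rd_fiber f (f z) (f.asFiber z)
  rw [f.fiberι_asFiber] at h1
  rw [← h1]
  refine (components_iff (k := S.residueField (f z)) (f.fiberToSpecResidueField (f z))).mp h _ ?_
  exact (FibDim.fibMax_fiberι_iff f _).mp (by rw [f.fiberι_asFiber]; exact hz)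

theorem fibreDimAt_eq_one {X S : Scheme.{u}} (f : X ⟶ S) (hf : Curv2.IsNodalFamily f) (x : X) :
    FlatMor.fibreDimAt f x = ((1 : ℕ) : WithBot ℕ∞) := by
  haveI := hf.2.1
  obtain ⟨z, -, hfz, hmax, he⟩ := FibDim.exists_fibMax_generization f x
  rw [he, rd_eq_one_of_fibMax f (hf.2.2 (f z)).1 hmax]
  rfl

theorem isNodalFamily_of_smooth {X S : Scheme.{u}} (f : X ⟶ S) [Smooth f]
    (h : ∀ x, FlatMor.fibreDimAt f x = ((1 : ℕ) : WithBot ℕ∞)) : Curv2.IsNodalFamily f := by
  refine ⟨inferInstance, inferInstance, fun s => ?_⟩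
  haveI : LocallyOfFinitePresentation (f.fiberToSpecResidueField s) :=
    MorphismProperty.pullback_snd _ _ inferInstance
  letI iX : (f.fiber s).Over (Spec (CommRingCat.of (S.residueField s))) := ⟨f.fiberToSpecResidueField s⟩
  haveI : LocallyOfFinitePresentation (f.fiber s ↘ Spec (CommRingCat.of (S.residueField s))) :=
    inferInstanceAs (LocallyOfFinitePresentation (f.fiberToSpecResidueField s))
  refine ⟨(components_iff (k := S.residueField s) (X := f.fiber s) (f.fiberToSpecResidueField s)).mpr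
    fun w hw => ?_, atWorstNodal_of_smooth_or_node (k := S.residueField s) (X := f.fiber s) fun w _ => Or.inl ?_⟩
  · have hmax : FibDim.FibMax f (f.fiberι s w) := (FibDim.fibMax_fiberι_iff f w).mpr hw
    have h1 := h (f.fiberι s w)
    rw [FibDim.fibreDimAt_eq_rd f hmax] at h1
    rw [CharCycDim.rd_fiber f s w]
    exact_mod_cast h1
  · show w ∈ (f.fiberToSpecResidueField s).smoothLocus
    rw [H1GeomRk.mem_fibre_smoothLocus_iff f s, f.smoothLocus_eq_top]
    trivial

theorem exists_nodal_nhd_fiber {X S : Scheme.{u}} (f : X ⟶ S) [Flat f] [LocallyOfFinitePresentation f] {s : S}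
    (w : f.fiber s) (hn : @Curv2.IsNode (S.residueField s) _ (f.fiber s) ⟨f.fiberToSpecResidueField s⟩ w) :
    ∃ U : X.Opens, f.fiberι s w ∈ U ∧ Curv2.IsNodalFamily (U.ι ≫ f) := by
  have hp : f (f.fiberι s w) = s := FibDim.fiber_apply_fiberι f w
  generalize hq : f.fiberι s w = p at hp
  subst hp
  refine exists_nodal_nhd f p ?_
  rwa [show f.asFiber p = w from (f.fiberι (f p)).isEmbedding.injective ((f.fiberι_asFiber p).trans hq.symm)]

theorem exists_nodal_nhd_of_baseChange {X S X' S' : Scheme.{u}} {f : X ⟶ S} [Flat f]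
    [LocallyOfFinitePresentation f] {g : S' ⟶ S} {q : X' ⟶ S'} {π : X' ⟶ X} (sq : IsPullback π q f g)
    (V : X'.Opens) (hV : Curv2.IsNodalFamily (V.ι ≫ q)) {x' : X'} (hx' : x' ∈ V) :
    ∃ U : X.Opens, π x' ∈ U ∧ Curv2.IsNodalFamily (U.ι ≫ f) := by
  haveI : LocallyOfFinitePresentation q := MorphismProperty.of_isPullback sq inferInstance
  haveI : Flat q := MorphismProperty.of_isPullback sq inferInstance
  have hdx : FlatMor.fibreDimAt f (π x') = ((1 : ℕ) : WithBot ℕ∞) := by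
    rw [← FibDim.fibreDimAt_baseChange sq x', ← fibreDimAt_eq_one _ hV ⟨x', hx'⟩]
    exact (FibDim.fibreDimAt_openImmersion_comp V.ι q ⟨x', hx'⟩).symm
  -- restrict to fibre dimension at most one
  let W : X.Opens := ⟨_, FibDim.isOpen_fibreDimAt_le f 1⟩
  let W' : X'.Opens := π ⁻¹ᵁ W
  have hxW : π x' ∈ W := hdx.le
  haveI : Flat (W.ι ≫ f) := inferInstance
  haveI : Flat (W'.ι ≫ q) := inferInstance
  have sqW : IsPullback (π ∣_ W) (W'.ι ≫ q) (W.ι ≫ f) g := (isPullback_morphismRestrict π W).paste_vert sq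
  let VW : (W' : Scheme.{u}).Opens := W'.ι ⁻¹ᵁ V
  have hVW : Curv2.IsNodalFamily (VW.ι ≫ W'.ι ≫ q) := by
    have := isNodalFamily_precomp _ hV (W'.ι ∣_ V)
    rwa [morphismRestrict_ι_assoc] at this
  let y : (W' : Scheme.{u}) := ⟨x', hxW⟩
  have hy : (π ∣_ W) y = (⟨π x', hxW⟩ : W) := Subtype.ext (by
    show W.ι ((π ∣_ W) y) = π x'
    rw [← Scheme.Hom.comp_apply, morphismRestrict_ι]; rfl)
  suffices h : ∃ U₀ : (W : Scheme.{u}).Opens, (π ∣_ W) y ∈ U₀ ∧ Curv2.IsNodalFamily (U₀.ι ≫ W.ι ≫ f) by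
    obtain ⟨U₀, hyU, hU⟩ := h
    refine ⟨(U₀.ι ≫ W.ι).opensRange, ⟨⟨_, hyU⟩, ?_⟩, ?_⟩
    · show W.ι ((π ∣_ W) y) = π x'
      rw [hy]; rfl
    · rw [← Scheme.Hom.isoOpensRange_inv_comp (U₀.ι ≫ W.ι), Category.assoc, Category.assoc]
      exact isNodalFamily_precomp _ hU _
  rcases good_of_nodal_nhd (W'.ι ≫ q) hVW (p := y) hx' with ⟨V₀, hyV, hV₀⟩ | hn
  · have hs : y ∈ (W'.ι ≫ q).smoothLocus := (exists_smooth_nhd_iff' _ _).mp ⟨V₀, hyV, hV₀⟩
    rw [S2155.result (W.ι ≫ f) g (W'.ι ≫ q) (π ∣_ W) sqW (Or.inl inferInstance)] at hs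
    let T := (W.ι ≫ f).smoothLocus
    haveI : Smooth (T.ι ≫ W.ι ≫ f) := by
      rw [← Scheme.Hom.smoothLocus_eq_top_iff, ← Scheme.Hom.preimage_smoothLocus_eq]
      exact Scheme.Opens.ι_preimage_self _
    obtain ⟨-, -, T₁, -, -, m, hT₁, -, hsm, hm⟩ :=
      Synt29.SmoothDim.exists_chart (T.ι ≫ W.ι ≫ f) ⟨(π ∣_ W) y, hs⟩
    have hm1 : m = 1 := by
      rw [FibDim.fibreDimAt_openImmersion_comp T.ι (W.ι ≫ f), FibDim.fibreDimAt_openImmersion_comp W.ι f] at hm
      have : W.ι (T.ι ⟨(π ∣_ W) y, hs⟩) = π x' := by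
        show W.ι ((π ∣_ W) y) = π x'
        rw [hy]; rfl
      rw [this, hdx] at hm
      exact_mod_cast hm.symm
    subst hm1
    haveI : Smooth (T₁.ι ≫ T.ι ≫ W.ι ≫ f) := SmoothOfRelativeDimension.smooth 1 _
    have hfam := isNodalFamily_of_smooth (T₁.ι ≫ T.ι ≫ W.ι ≫ f)
      fun z => Groth.Agent.S2768.result 1 (T₁.ι ≫ T.ι ≫ W.ι ≫ f) z
    refine ⟨(T₁.ι ≫ T.ι).opensRange, ⟨⟨_, hT₁⟩, rfl⟩, ?_⟩
    rw [← Scheme.Hom.isoOpensRange_inv_comp (T₁.ι ≫ T.ι), Category.assoc, Category.assoc]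
    exact isNodalFamily_precomp _ hfam _
  · -- node
    set fW := W.ι ≫ f with hfW
    set qW := W'.ι ≫ q with hqW
    set s' := qW y with hs'
    letI iY : (qW.fiber s').Over (Spec (CommRingCat.of (S'.residueField s'))) := ⟨qW.fiberToSpecResidueField s'⟩
    letI iX : (fW.fiber (g s')).Over (Spec (CommRingCat.of (S.residueField (g s')))) :=
      ⟨fW.fiberToSpecResidueField (g s')⟩
    haveI : LocallyOfFiniteType (fW.fiberToSpecResidueField (g s')) :=
      MorphismProperty.pullback_snd _ _ inferInstance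
    haveI : LocallyOfFinitePresentation (fW.fiber (g s') ↘ Spec (CommRingCat.of (S.residueField (g s')))) :=
      MorphismProperty.pullback_snd _ _ inferInstance
    haveI : LocallyOfFiniteType (fW.fiber (g s') ↘ Spec (CommRingCat.of (S.residueField (g s')))) := inferInstance
    have hd : topologicalKrullDim (fW.fiber (g s') : Type u) ≤ 1 := by
      refine (CharCycDim.dim_le_iff' (fW.fiberToSpecResidueField (g s')) 1).mpr fun w => ?_
      rw [CharCycDim.rd_fiber]
      have h1 := FibDim.rd_le_fibreDimAt fW (specializes_refl (fW.fiberι (g s') w)) rfl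
      rw [FibDim.fibreDimAt_openImmersion_comp W.ι f] at h1
      have h2 : FlatMor.fibreDimAt f (W.ι (fW.fiberι (g s') w)) ≤ ((1 : ℕ) : WithBot ℕ∞) :=
        (fW.fiberι (g s') w).2
      exact_mod_cast h1.trans h2
    have sqF : IsPullback (qW.fiberι s') (qW.fiberToSpecResidueField s') qW (S'.fromSpecResidueField s') :=
      IsPullback.of_hasPullback _ _
    have sqG : IsPullback (fW.fiberι (g s')) (fW.fiberToSpecResidueField (g s')) fW (S.fromSpecResidueField (g s')) :=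
      IsPullback.of_hasPullback _ _
    let π₀ : qW.fiber s' ⟶ fW.fiber (g s') := sqG.lift (qW.fiberι s' ≫ π ∣_ W)
      (qW.fiberToSpecResidueField s' ≫ Spec.map (g.residueFieldMap s'))
      (by rw [Category.assoc, sqW.w, ← Category.assoc, sqF.w, Category.assoc, Category.assoc,
        Scheme.Hom.SpecMap_residueFieldMap_fromSpecResidueField])
    have sq₀ : IsPullback π₀ (qW.fiber s' ↘ Spec (CommRingCat.of (S'.residueField s')))
        (fW.fiber (g s') ↘ Spec (CommRingCat.of (S.residueField (g s')))) (Spec.map (g.residueFieldMap s')) := by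
      refine IsPullback.of_right ?_ (sqG.lift_snd _ _ _) sqG
      rw [sqG.lift_fst, Scheme.Hom.SpecMap_residueFieldMap_fromSpecResidueField]
      exact sqF.paste_horiz sqW
    have hnode := (isNode_iff_of_isPullback (k := S.residueField (g s')) (X := fW.fiber (g s'))
      (K := S'.residueField s') (Y := qW.fiber s') hd sq₀ (qW.asFiber y)).mpr hn
    have hzy : fW.fiberι (g s') (π₀ (qW.asFiber y)) = (π ∣_ W) y := by
      rw [← Scheme.Hom.comp_apply, sqG.lift_fst, Scheme.Hom.comp_apply, qW.fiberι_asFiber]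
    rw [← hzy]
    exact exists_nodal_nhd_fiber fW _ hnode

theorem isNodalFamily_preimage {X S X' S' : Scheme.{u}} {f : X ⟶ S} {g : S' ⟶ S} {q : X' ⟶ S'} {π : X' ⟶ X}
    (sq : IsPullback π q f g) (U : X.Opens) (hU : Curv2.IsNodalFamily (U.ι ≫ f)) :
    Curv2.IsNodalFamily ((π ⁻¹ᵁ U).ι ≫ q) := by
  obtain ⟨hfl, hfp, hfib⟩ := hU
  haveI := hfl
  haveI := hfp
  have sqU : IsPullback (π ∣_ U) ((π ⁻¹ᵁ U).ι ≫ q) (U.ι ≫ f) g := (isPullback_morphismRestrict π U).paste_vert sq
  exact ⟨MorphismProperty.of_isPullback sqU hfl, MorphismProperty.of_isPullback sqU hfp,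
    fun s' => (fibreCond_iff_of_isPullback sqU s').mpr (hfib _)⟩

theorem exists_max_nodal {X S : Scheme.{u}} (f : X ⟶ S) [Flat f] [LocallyOfFinitePresentation f] :
    ∃ U : X.Opens, (Curv2.IsNodalFamily (U.ι ≫ f) ∧ ∀ V : X.Opens, Curv2.IsNodalFamily (V.ι ≫ f) → V ≤ U) ∧
      ∀ (S' : Scheme.{u}) (g : S' ⟶ S),
        Curv2.IsNodalFamily ((pullback.fst f g ⁻¹ᵁ U).ι ≫ pullback.snd f g) ∧
        ∀ V : (pullback f g).Opens, Curv2.IsNodalFamily (V.ι ≫ pullback.snd f g) → V ≤ pullback.fst f g ⁻¹ᵁ U := by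
  let ι := {V : X.Opens // Curv2.IsNodalFamily (V.ι ≫ f)}
  let U : X.Opens := ⨆ V : ι, V.1
  have hU : Curv2.IsNodalFamily (U.ι ≫ f) := by
    refine isNodalFamily_of_etale_cover (U.ι ≫ f) ι (fun V => (V.1 : Scheme.{u}))
      (fun V => X.homOfLE (le_iSup (fun V : ι => V.1) V)) (fun x => ?_) fun V => ?_
    · obtain ⟨V, hV⟩ := TopologicalSpace.Opens.mem_iSup.mp x.2
      refine ⟨V, ⟨x.1, hV⟩, ?_⟩
      apply U.ι.isEmbedding.injective
      rw [← Scheme.Hom.comp_apply, Scheme.homOfLE_ι]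
      rfl
    · rw [← Category.assoc, Scheme.homOfLE_ι]
      exact V.2
  refine ⟨U, ⟨hU, fun V hV => le_iSup (fun V : ι => V.1) ⟨V, hV⟩⟩, fun S' g => ?_⟩
  refine ⟨isNodalFamily_preimage (IsPullback.of_hasPullback f g) U hU, fun V hV x' hx' => ?_⟩
  obtain ⟨U', hx, hU'⟩ := exists_nodal_nhd_of_baseChange (IsPullback.of_hasPullback f g) V hV hx'
  exact le_iSup (fun V : ι => V.1) ⟨U', hU'⟩ hx

end Groth.Agent.NodeLib
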