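import Groth.Agent.NodeLib.NodalBC
import Groth.Agent.S0342
import Groth.Agent.S0343
import Groth.Agent.S0344
import Groth.Agent.CohenLib.PowerSeries
import Groth.Agent.RegLoc6.Basic
import Groth.Agent.FBaseLib.Basic
import Mathlib

/-!
# Local rings of nodal curves
-/

set_option autoImplicit false
set_option linter.style.haveILetI false
set_option linter.unusedSectionVars false
set_option backward.isDefEq.respectTransparency false
set_option backward.isDefEq.respectTransparency.types false

universe u

open CategoryTheory CategoryTheory.Limits AlgebraicGeometry IsLocalRing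

namespace Groth.Agent.NodeLib

theorem gorenstein_of_ringEquiv {A B : Type u} [CommRing A] [CommRing B]
    [IsLocalRing B] [IsNoetherianRing B] (e : A ≃+* B) [LocCoh.IsGorensteinLocalRing A] :
    LocCoh.IsGorensteinLocalRing B := by
  letI := e.symm.toRingHom.toAlgebra
  haveI : IsLocalHom (algebraMap B A) := ⟨fun b hb => by simpa [RingHom.algebraMap_toAlgebra] using hb.map e⟩
  haveI : Module.Flat B A := RingHom.Flat.of_bijective (f := e.symm.toRingHom) e.symm.bijective
  exact ((S0344.result B A).mp ‹_›).1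

theorem isGorenstein_of_isOrdDoublePt {K A : Type u} [Field K] [CommRing A] [IsLocalRing A] [IsNoetherianRing A]
    [Algebra K A] (h : Curv2.IsOrdDoublePt K A) : LocCoh.IsGorensteinLocalRing A := by
  obtain ⟨e, -⟩ := h
  obtain ⟨hN, hreg, -⟩ := CohenLib.isRegular_complete_mvPowerSeries (Or.inl (Field.toIsField K)) 2
  haveI := hN
  haveI := hreg
  haveI : LocCoh.IsGorensteinLocalRing (MvPowerSeries (Fin 2) K) := S0342.result _
  have hne : (MvPowerSeries.X 0 * MvPowerSeries.X 1 : MvPowerSeries (Fin 2) K) ≠ 0 := by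
    intro h0
    have h1 := congrArg (MvPowerSeries.coeff (Finsupp.single 0 1 + Finsupp.single 1 1)) h0
    classical
    rw [X_mul_X_eq_monomial, MvPowerSeries.coeff_monomial_same, map_zero] at h1
    exact one_ne_zero h1
  have hmem : (MvPowerSeries.X 0 * MvPowerSeries.X 1 : MvPowerSeries (Fin 2) K) ∈
      maximalIdeal (MvPowerSeries (Fin 2) K) := by
    refine Ideal.mul_mem_right _ _ ((mem_maximalIdeal _).mpr fun hu => ?_)
    have h1 := MvPowerSeries.isUnit_iff_constantCoeff.mp hu
    simp at h1
  haveI : IsDomain (MvPowerSeries (Fin 2) K) := RegLoc6.isDomain_of_isRegularLocalRing _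
  haveI := LC.Canon.isNoetherianRing_completion (R := A)
  haveI := LC.Canon.faithfullyFlat_completion (R := A)
  haveI : Nontrivial (MvPowerSeries (Fin 2) K ⧸ crossIdeal K) := e.symm.nontrivial
  haveI : IsLocalRing (MvPowerSeries (Fin 2) K ⧸ crossIdeal K) :=
    IsLocalRing.of_surjective' (Ideal.Quotient.mk _) Ideal.Quotient.mk_surjective
  haveI : LocCoh.IsGorensteinLocalRing (MvPowerSeries (Fin 2) K ⧸ crossIdeal K) :=
    (S0343.result _ _ hmem (IsSMulRegular.of_right_eq_zero_of_smul fun x hx => by
      simpa [smul_eq_mul, hne] using hx)).mp inferInstance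
  haveI : LocCoh.IsGorensteinLocalRing (AdicCompletion (maximalIdeal A) A) := gorenstein_of_ringEquiv e.symm
  exact ((S0344.result A (AdicCompletion (maximalIdeal A) A)).mp inferInstance).1

variable {K : Type u} [Field K] [IsAlgClosed K] {X : Scheme.{u}} [X.Over (Spec (CommRingCat.of K))]
  [LocallyOfFinitePresentation (X ↘ Spec (CommRingCat.of K))]

/-- Over an algebraically closed field all local rings of a nodal curve are reduced and Gorenstein. -/
theorem reduced_gorenstein_of_atWorstNodal (hdim : topologicalKrullDim X ≤ 1) (h : Curv2.AtWorstNodal K X)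
    (x : X) : _root_.IsReduced (X.presheaf.stalk x) ∧ LocCoh.IsGorensteinLocalRing (X.presheaf.stalk x) := by
  rcases (atWorstNodal_iff hdim).mp h x with hs | hn
  · haveI := SmoothReg.isRegularLocalRing_stalk_of_mem_smoothLocus _ hs
    haveI := RegLoc6.isDomain_of_isRegularLocalRing (X.presheaf.stalk x)
    exact ⟨inferInstance, S0342.result _⟩
  · have hnp := hasNodePair_of_isNode hn
      (IsPullback.id_horiz (X ↘ Spec (CommRingCat.of K))) x rfl
    haveI := isNoetherianRing_stalk_of_lft (X ↘ Spec (CommRingCat.of K)) x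
    letI := Curv2.stalkAlgebra K X x
    have hodp : Curv2.IsOrdDoublePt K (X.presheaf.stalk x) :=
      (isOrdDoublePt_stalk_iff (X ↘ Spec (CommRingCat.of K)) hn.1).mpr hnp
    exact ⟨isReduced_of_isOrdDoublePt hodp, isGorenstein_of_isOrdDoublePt hodp⟩

theorem gorenstein_and_geometricallyReduced {k : Type u} [Field k] {X : Scheme.{u}}
    [X.Over (Spec (CommRingCat.of k))] [LocallyOfFinitePresentation (X ↘ Spec (CommRingCat.of k))]
    (hdim : topologicalKrullDim X ≤ 1) (hX : Curv2.AtWorstNodal k X) :
    (∀ x : X, LocCoh.IsGorensteinLocalRing (X.presheaf.stalk x)) ∧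
      GeometricallyReduced (X ↘ Spec (CommRingCat.of k)) := by
  have key : ∀ (Ω : Type u) [Field Ω] [IsAlgClosed Ω] (Z : Scheme.{u}) (π : Z ⟶ X)
      (q : Z ⟶ Spec (CommRingCat.of Ω)) (σ : Spec (CommRingCat.of Ω) ⟶ Spec (CommRingCat.of k)),
      IsPullback π q (X ↘ Spec (CommRingCat.of k)) σ → ∀ z : Z,
        _root_.IsReduced (Z.presheaf.stalk z) ∧ LocCoh.IsGorensteinLocalRing (Z.presheaf.stalk z) := by
    intro Ω _ _ Z π q σ sq z
    letI : Z.Over (Spec (CommRingCat.of Ω)) := ⟨q⟩
    haveI : LocallyOfFinitePresentation (Z ↘ Spec (CommRingCat.of Ω)) := MorphismProperty.of_isPullback sq inferInstance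
    exact reduced_gorenstein_of_atWorstNodal
      (by simpa using dim_le_of_isPullback _ sq (n := 1) (by simpa using hdim))
      ((atWorstNodal_iff_of_isPullback (K := Ω) (Y := Z) hdim (σ := σ) (π := π) sq).mp hX) z
  let σ : Spec (CommRingCat.of (AlgebraicClosure k)) ⟶ Spec (CommRingCat.of k) :=
    Spec.map (CommRingCat.ofHom (algebraMap k (AlgebraicClosure k)))
  haveI : Flat σ := flat_spec_field σ
  refine ⟨fun x => ?_, ⟨fun L _ ψ Z a b hp => ?_⟩⟩
  · obtain ⟨z, rfl, -⟩ := Scheme.Pullback.exists_preimage_pullback (f := X ↘ Spec (CommRingCat.of k)) (g := σ) x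
      (closedPoint (AlgebraicClosure k)) (Subsingleton.elim (α := Spec (CommRingCat.of k)) _ _)
    have hg := (key _ _ _ _ σ (IsPullback.of_hasPullback _ _) z).2
    let π := pullback.fst (X ↘ Spec (CommRingCat.of k)) σ
    haveI := LocallyOfFiniteType.isLocallyNoetherian (X ↘ Spec (CommRingCat.of k))
    haveI := LocallyOfFiniteType.isLocallyNoetherian (pullback.snd (X ↘ Spec (CommRingCat.of k)) σ)
    haveI : Flat π := inferInstance
    letI := (π.stalkMap z).hom.toAlgebra
    haveI : Module.Flat (X.presheaf.stalk (π z)) ((pullback (X ↘ Spec (CommRingCat.of k)) σ).presheaf.stalk z) :=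
      Flat.stalkMap π z
    haveI : IsLocalHom (algebraMap (X.presheaf.stalk (π z))
        ((pullback (X ↘ Spec (CommRingCat.of k)) σ).presheaf.stalk z)) :=
      inferInstanceAs <| IsLocalHom (π.stalkMap z).hom
    exact ((S0344.result (X.presheaf.stalk (π z)) _).mp hg).1
  · let θ : Spec (CommRingCat.of (AlgebraicClosure L)) ⟶ Spec (CommRingCat.of L) :=
      Spec.map (CommRingCat.ofHom (algebraMap L (AlgebraicClosure L)))
    haveI : Flat θ := flat_spec_field θ
    haveI : Surjective θ := ⟨fun x => ⟨Classical.arbitrary _, Subsingleton.elim _ _⟩⟩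
    have sq : IsPullback (pullback.fst b θ ≫ a) (pullback.snd b θ) (X ↘ Spec (CommRingCat.of k)) (θ ≫ ψ) :=
      (IsPullback.of_hasPullback b θ).paste_horiz hp
    haveI : ∀ z, _root_.IsReduced ((pullback b θ).presheaf.stalk z) := fun z => (key _ _ _ _ _ sq z).1
    haveI : AlgebraicGeometry.IsReduced (pullback b θ) := isReduced_of_isReduced_stalk _
    exact FBaseLib.isReduced_of_flat_surjective (pullback.fst b θ)

end Groth.Agent.NodeLib
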