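import Groth.Agent.NodeLib.Completion
import Groth.Prelude.Def_CurvBase
import Mathlib

/-!
# An intrinsic criterion for ordinary double points

A noetherian local `K`-algebra with residue field `K` is an ordinary double point iff its maximal
ideal has two generators `x, y` with `x y ∈ 𝔪³` and `x ^ n, y ^ n` independent modulo `𝔪 ^ (n + 1)`.
-/

set_option autoImplicit false
set_option linter.style.haveILetI false

universe u

namespace Groth.Agent.NodeLib

open IsLocalRing

/-- Generators of the maximal ideal with product in the cube, with independent powers. -/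
def IsNodePair {A : Type u} [CommRing A] [IsLocalRing A] (x y : A) : Prop :=
  maximalIdeal A = Ideal.span {x, y} ∧ x * y ∈ maximalIdeal A ^ 3 ∧
    ∀ n : ℕ, 1 ≤ n → ∀ a b : A, a * x ^ n + b * y ^ n ∈ maximalIdeal A ^ (n + 1) →
      a ∈ maximalIdeal A ∧ b ∈ maximalIdeal A

/-- The intrinsic condition. -/
def HasNodePair (A : Type u) [CommRing A] [IsLocalRing A] : Prop :=
  ∃ x y : A, IsNodePair x y

namespace IsNodePair

variable {A B : Type u} [CommRing A] [IsLocalRing A] [CommRing B] [IsLocalRing B] {x y : A}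

theorem left_mem (h : IsNodePair x y) : x ∈ maximalIdeal A := h.1 ▸ Ideal.subset_span (by simp)

theorem right_mem (h : IsNodePair x y) : y ∈ maximalIdeal A := h.1 ▸ Ideal.subset_span (by simp)

theorem symm (h : IsNodePair x y) : IsNodePair y x :=
  ⟨by rw [h.1, Set.pair_comm], by rw [mul_comm]; exact h.2.1,
    fun n hn a b hab => (h.2.2 n hn b a (by rwa [add_comm (b * x ^ n)])).symm⟩

theorem of_lift (f : A →+* B) (hf : ∀ n : ℕ, (maximalIdeal B ^ n).comap f = maximalIdeal A ^ n)
    (hm : maximalIdeal A = Ideal.span {x, y}) (h : IsNodePair (f x) (f y)) : IsNodePair x y := by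
  refine ⟨hm, ?_, fun n hn a b hab => ?_⟩
  · rw [← hf, Ideal.mem_comap, map_mul]; exact h.2.1
  · rw [← hf, Ideal.mem_comap, map_add, map_mul, map_mul, map_pow, map_pow] at hab
    have h1 : maximalIdeal A = (maximalIdeal B).comap f := by simpa using (hf 1).symm
    obtain ⟨ha, hb⟩ := h.2.2 n hn _ _ hab
    rw [h1]
    exact ⟨ha, hb⟩

theorem pow_sub_pow_mem {z z' : A} (hz : z ∈ maximalIdeal A) (h : z' - z ∈ maximalIdeal A ^ 2) :
    ∀ n : ℕ, z' ^ n - z ^ n ∈ maximalIdeal A ^ (n + 1) := by
  have hz' : z' ∈ maximalIdeal A := by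
    simpa using add_mem (Ideal.pow_le_self two_ne_zero h) hz
  intro n
  induction n with
  | zero => simp
  | succ n ih =>
    have : z' ^ (n + 1) - z ^ (n + 1) = z' * (z' ^ n - z ^ n) + (z' - z) * z ^ n := by ring
    rw [this]
    refine add_mem ?_ ?_
    · rw [show n + 1 + 1 = 1 + (n + 1) by omega, pow_add, pow_one]; exact Ideal.mul_mem_mul hz' ih
    · rw [show n + 1 + 1 = 2 + n by omega, pow_add]
      exact Ideal.mul_mem_mul h (Ideal.pow_mem_pow hz n)

theorem congr_sq {x' y' : A} (h : IsNodePair x y) (hx : x' - x ∈ maximalIdeal A ^ 2)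
    (hy : y' - y ∈ maximalIdeal A ^ 2) : IsNodePair x' y' := by
  have hx' : x' ∈ maximalIdeal A := by simpa using add_mem (Ideal.pow_le_self two_ne_zero hx) h.left_mem
  have hy' : y' ∈ maximalIdeal A := by simpa using add_mem (Ideal.pow_le_self two_ne_zero hy) h.right_mem
  refine ⟨le_antisymm ?_ (Ideal.span_le.mpr (by simp [Set.insert_subset_iff, hx', hy'])), ?_, ?_⟩
  · refine Submodule.le_of_le_smul_of_le_jacobson_bot (I := maximalIdeal A)
      (h.1 ▸ Submodule.fg_span (Set.toFinite _)) (IsLocalRing.maximalIdeal_le_jacobson _) ?_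
    rw [smul_eq_mul, ← pow_two]
    conv_lhs => rw [h.1]
    refine Ideal.span_le.mpr ?_
    rintro z (rfl | rfl)
    · rw [SetLike.mem_coe, ← sub_sub_cancel x' z]
      exact sub_mem (Ideal.mem_sup_left (Ideal.subset_span (by simp))) (Ideal.mem_sup_right hx)
    · rw [SetLike.mem_coe, ← sub_sub_cancel y' z]
      exact sub_mem (Ideal.mem_sup_left (Ideal.subset_span (by simp))) (Ideal.mem_sup_right hy)
  · have : x' * y' = x * y + (x' - x) * y' + x * (y' - y) := by ring
    rw [this]
    refine add_mem (add_mem h.2.1 ?_) ?_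
    · rw [pow_succ]; exact Ideal.mul_mem_mul hx hy'
    · rw [pow_succ']; exact Ideal.mul_mem_mul h.left_mem hy
  · intro n hn a b hab
    refine h.2.2 n hn a b ?_
    have : a * x ^ n + b * y ^ n =
        a * x' ^ n + b * y' ^ n - a * (x' ^ n - x ^ n) - b * (y' ^ n - y ^ n) := by ring
    rw [this]
    exact sub_mem (sub_mem hab (Ideal.mul_mem_left _ _ (pow_sub_pow_mem h.left_mem hx n)))
      (Ideal.mul_mem_left _ _ (pow_sub_pow_mem h.right_mem hy n))

theorem of_flat [Algebra A B] [Module.Flat A B]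
    (hmB : maximalIdeal B = (maximalIdeal A).map (algebraMap A B)) (h : IsNodePair x y) :
    IsNodePair (algebraMap A B x) (algebraMap A B y) := by
  refine ⟨?_, ?_, fun n hn a b hab => ?_⟩
  · rw [hmB]; conv_lhs => rw [h.1]
    rw [Ideal.map_span, Set.image_pair]
  · rw [hmB, ← Ideal.map_pow, ← map_mul]; exact Ideal.mem_map_of_mem _ h.2.1
  · obtain ⟨k, g, hg⟩ := Submodule.fg_iff_exists_fin_generating_family.mp
      (Submodule.FG.pow (h.1 ▸ Submodule.fg_span (Set.toFinite _) : (maximalIdeal A).FG) (n + 1))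
    rw [hmB, ← Ideal.map_pow, ← hg, Ideal.submodule_span_eq, Ideal.map_span, ← Set.range_comp,
      Ideal.mem_span_range_iff_exists_fun] at hab
    obtain ⟨c, hc⟩ := hab
    let f : Fin (k + 2) → A := Fin.cons (x ^ n) (Fin.cons (y ^ n) g)
    let z : Fin (k + 2) → B := Fin.cons a (Fin.cons b (fun i => - c i))
    have hrel : ∑ i, f i • z i = 0 := by
      simp only [Fin.sum_univ_succ, f, z, Fin.cons_zero, Fin.cons_succ, Algebra.smul_def, map_pow,
        mul_neg, Finset.sum_neg_distrib]
      have e : ∑ i, algebraMap A B (g i) * c i = ∑ i, c i * (algebraMap A B ∘ g) i :=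
        Finset.sum_congr rfl fun i _ => mul_comm _ _
      rw [e, hc]
      ring
    obtain ⟨l, r, w, hw, hr⟩ := Module.Flat.isTrivialRelation_of_sum_smul_eq_zero (R := A) (M := B) hrel
    have hr' : ∀ j, r 0 j ∈ maximalIdeal A ∧ r 1 j ∈ maximalIdeal A := by
      intro j
      refine h.2.2 n hn _ _ ?_
      have hj := hr j
      simp only [Fin.sum_univ_succ, f, Fin.cons_zero, Fin.cons_succ] at hj
      have e : r 0 j * x ^ n + r 1 j * y ^ n = - ∑ i : Fin k, g i * r i.succ.succ j := by
        have : (1 : Fin (k + 2)) = Fin.succ 0 := rfl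
        rw [this]
        linear_combination hj
      rw [e, ← hg]
      exact neg_mem (Ideal.sum_mem _ fun i _ =>
        Ideal.mul_mem_right _ _ (Ideal.subset_span (Set.mem_range_self i)))
    have hsm : ∀ r : A, r ∈ maximalIdeal A → ∀ w : B, r • w ∈ maximalIdeal B := fun r hr w => by
      rw [hmB, Algebra.smul_def]; exact Ideal.mul_mem_right _ _ (Ideal.mem_map_of_mem _ hr)
    constructor
    · have : a = ∑ j, r 0 j • w j := hw 0
      rw [this]; exact Ideal.sum_mem _ fun j _ => hsm _ (hr' j).1 _
    · have : b = ∑ j, r 1 j • w j := hw 1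
      rw [this]; exact Ideal.sum_mem _ fun j _ => hsm _ (hr' j).2 _

theorem map_ringEquiv (e : A ≃+* B) (h : IsNodePair x y) : IsNodePair (e x) (e y) := by
  have hm : maximalIdeal B = (maximalIdeal A).comap (e.symm : B →+* A) := by
    ext b; simp
  have hpow : ∀ n : ℕ, (maximalIdeal A ^ n).comap (e.symm : B →+* A) = maximalIdeal B ^ n := by
    intro n
    have hc : ∀ I : Ideal A, I.comap (e.symm : B →+* A) = I.map (e : A →+* B) := fun I =>
      (Ideal.map_comap_of_equiv e).symm
    rw [hm, hc, hc, Ideal.map_pow]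
  refine IsNodePair.of_lift (e.symm : B →+* A) hpow ?_ (by simpa using h)
  rw [hm, h.1, show (Ideal.span {x, y} : Ideal A).comap (e.symm : B →+* A) =
    (Ideal.span {x, y}).map (e : A →+* B) from (Ideal.map_comap_of_equiv e).symm,
    Ideal.map_span, Set.image_pair]
  rfl

theorem exists_mul_eq_zero [IsNoetherianRing A] [IsAdicComplete (maximalIdeal A) A]
    (h : IsNodePair x y) : ∃ u v : A, IsNodePair u v ∧ u * v = 0 := by
  classical
  set m := maximalIdeal A with hmdef
  let St : ℕ → A × A → Prop := fun j s => IsNodePair s.1 s.2 ∧ s.1 * s.2 ∈ m ^ (j + 3)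
  have hnext : ∀ (j : ℕ) (s : A × A), St j s → ∃ s' : A × A, St (j + 1) s' ∧
      s'.1 - s.1 ∈ m ^ (j + 2) ∧ s'.2 - s.2 ∈ m ^ (j + 2) := by
    rintro j ⟨a, b⟩ ⟨hab, hz⟩
    have hz' : a * b ∈ m ^ (j + 2) • Submodule.span A {a, b} := by
      rw [Ideal.submodule_span_eq, ← hab.1, smul_eq_mul, ← pow_succ]; exact hz
    obtain ⟨p, hp, q, hq, e⟩ : ∃ p ∈ m ^ (j + 2), ∃ q ∈ m ^ (j + 2), p * a + q * b = a * b := by
      rw [smul_eq_mul, Ideal.submodule_span_eq, Ideal.span_insert, Ideal.mul_sup, Submodule.mem_sup] at hz'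
      obtain ⟨z₁, h₁, z₂, h₂, e⟩ := hz'
      obtain ⟨p, hp, rfl⟩ := Ideal.mem_mul_span_singleton.mp h₁
      obtain ⟨q, hq, rfl⟩ := Ideal.mem_mul_span_singleton.mp h₂
      exact ⟨p, hp, q, hq, e⟩
    have h2 : m ^ (j + 2) ≤ m ^ 2 := Ideal.pow_le_pow_right (by omega)
    refine ⟨(a - q, b - p), ⟨hab.congr_sq ?_ ?_, ?_⟩, ?_, ?_⟩
    · rw [sub_sub_cancel_left]; exact neg_mem (h2 hq)
    · rw [sub_sub_cancel_left]; exact neg_mem (h2 hp)
    · show (a - q) * (b - p) ∈ _
      rw [show (a - q) * (b - p) = q * p by linear_combination -e]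
      exact Ideal.pow_le_pow_right (by omega) ((pow_add m (j + 2) (j + 2)).symm ▸ Ideal.mul_mem_mul hq hp)
    · show a - q - a ∈ _
      rw [sub_sub_cancel_left]; exact neg_mem hq
    · show b - p - b ∈ _
      rw [sub_sub_cancel_left]; exact neg_mem hp
  choose! next hN1 hN2 hN3 using hnext
  let s : ℕ → A × A := fun j => Nat.rec (x, y) (fun j p => next j p) j
  have hs : ∀ j, St j (s j) := by
    intro j
    induction j with
    | zero => exact ⟨h, h.2.1⟩
    | succ j ih => exact hN1 j (s j) ih
  have lim : ∀ f : ℕ → A, (∀ j, f (j + 1) - f j ∈ m ^ (j + 2)) → ∃ L, ∀ j, L - f j ∈ m ^ (j + 2) := by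
    intro f hf
    have hc : ∀ {i j}, i ≤ j → f j - f i ∈ m ^ (i + 2) := by
      intro i j hij
      induction hij with
      | refl => simp
      | @step l hil ih =>
        rw [← sub_add_sub_cancel (f (l + 1)) (f l) (f i)]
        exact add_mem (Ideal.pow_le_pow_right (by simp only [Nat.le_eq] at hil; omega) (hf l)) ih
    have hc' : ∀ {i j}, i ≤ j → f i ≡ f j [SMOD (m ^ i • ⊤ : Submodule A A)] := fun {i j} hij => by
      rw [SModEq.sub_mem, smul_eq_mul, Ideal.mul_top, ← neg_sub]
      exact neg_mem (Ideal.pow_le_pow_right (by omega) (hc hij))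
    obtain ⟨L, hL⟩ := IsPrecomplete.prec' (I := m) f hc'
    refine ⟨L, fun j => ?_⟩
    have h1 := hL (j + 2)
    rw [SModEq.sub_mem, smul_eq_mul, Ideal.mul_top] at h1
    rw [← sub_add_sub_cancel L (f (j + 2)) (f j)]
    exact add_mem (by rw [← neg_sub]; exact neg_mem h1) (hc (by omega))
  obtain ⟨u, hu⟩ := lim (fun j => (s j).1) fun j => hN2 j _ (hs j)
  obtain ⟨v, hv⟩ := lim (fun j => (s j).2) fun j => hN3 j _ (hs j)
  refine ⟨u, v, (hs 0).1.congr_sq (hu 0) (hv 0), IsHausdorff.haus' (I := m) _ fun j => ?_⟩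
  rw [SModEq.zero, smul_eq_mul, Ideal.mul_top]
  have : u * v = (s j).1 * (s j).2 + (u - (s j).1) * v + (s j).1 * (v - (s j).2) := by ring
  rw [this]
  exact add_mem (add_mem (Ideal.pow_le_pow_right (by omega) (hs j).2)
    (Ideal.mul_mem_right _ _ (Ideal.pow_le_pow_right (by omega) (hu j))))
    (Ideal.mul_mem_left _ _ (Ideal.pow_le_pow_right (by omega) (hv j)))

end IsNodePair

theorem HasNodePair.map_ringEquiv {A B : Type u} [CommRing A] [IsLocalRing A] [CommRing B] [IsLocalRing B]
    (e : A ≃+* B) (h : HasNodePair A) : HasNodePair B := by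
  obtain ⟨x, y, h⟩ := h
  exact ⟨_, _, h.map_ringEquiv e⟩

/-! ### Power series in two variables -/

section Series

open MvPowerSeries

variable {K : Type u} [CommRing K]

/-- Division by a monomial. -/
noncomputable def shift (s : Fin 2 →₀ ℕ) (f : MvPowerSeries (Fin 2) K) : MvPowerSeries (Fin 2) K :=
  fun d => coeff (d + s) f

theorem coeff_monomial_mul_shift (s d : Fin 2 →₀ ℕ) (f : MvPowerSeries (Fin 2) K) :
    coeff d (monomial s 1 * shift s f) = if s ≤ d then coeff d f else 0 := by
  classical
  rw [coeff_monomial_mul]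
  split_ifs with h
  · rw [one_mul]
    show coeff (d - s + s) f = _
    rw [tsub_add_cancel_of_le h]
  · rfl

theorem X_mul_X_eq_monomial :
    (X 0 * X 1 : MvPowerSeries (Fin 2) K) = monomial (Finsupp.single 0 1 + Finsupp.single 1 1) 1 := by
  rw [X_def, X_def, monomial_mul_monomial, one_mul]

/-- The ideal of the node. -/
noncomputable abbrev crossIdeal (K : Type u) [CommRing K] : Ideal (MvPowerSeries (Fin 2) K) :=
  Ideal.span {(X 0 * X 1 : MvPowerSeries (Fin 2) K)}

theorem coeff_eq_zero_of_mem_cross {f : MvPowerSeries (Fin 2) K} (hf : f ∈ crossIdeal K) (i : Fin 2)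
    (n : ℕ) : coeff (Finsupp.single i n) f = 0 := by
  classical
  obtain ⟨g, rfl⟩ := Ideal.mem_span_singleton'.mp hf
  rw [X_mul_X_eq_monomial, mul_comm g, coeff_monomial_mul, if_neg]
  intro hle
  fin_cases i
  · have := hle 1; simp at this
  · have := hle 0; simp at this

theorem sub_mem_cross {f : MvPowerSeries (Fin 2) K} (n : ℕ)
    (h : ∀ i : Fin 2, ∀ j < n, coeff (Finsupp.single i j) f = 0) :
    ∃ g₀ g₁ : MvPowerSeries (Fin 2) K, f - (X 0 ^ n * g₀ + X 1 ^ n * g₁) ∈ crossIdeal K := by
  classical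
  set s : Fin 2 →₀ ℕ := Finsupp.single 0 1 + Finsupp.single 1 1 with hs
  set r := f - monomial s 1 * shift s f with hr
  set r₂ := r - monomial (Finsupp.single 0 n) 1 * shift (Finsupp.single 0 n) r with hr₂
  have key : r₂ = monomial (Finsupp.single 1 n) 1 * shift (Finsupp.single 1 n) r₂ := by
    refine MvPowerSeries.ext fun d => ?_
    rw [coeff_monomial_mul_shift]
    split_ifs with h1
    · rfl
    · rw [hr₂, map_sub, coeff_monomial_mul_shift]
      split_ifs with h0
      · rw [sub_self]
      · rw [sub_zero, hr, map_sub, coeff_monomial_mul_shift]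
        split_ifs with hsd
        · rw [sub_self]
        · rw [sub_zero]
          by_cases hd0 : d 0 = 0
          · have hd : d = Finsupp.single 1 (d 1) := by
              ext i; fin_cases i <;> simp [hd0]
            rw [hd]
            refine h 1 _ ?_
            by_contra hn
            exact h1 (Finsupp.single_le_iff.mpr (by omega))
          · have hd1 : d 1 = 0 := by
              by_contra hd1
              refine hsd fun i => ?_
              fin_cases i
              · simp [hs]; omega
              · simp [hs]; omega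
            have hd : d = Finsupp.single 0 (d 0) := by
              ext i; fin_cases i <;> simp [hd1]
            rw [hd]
            refine h 0 _ ?_
            by_contra hn
            exact h0 (Finsupp.single_le_iff.mpr (by omega))
  refine ⟨shift (Finsupp.single 0 n) r, shift (Finsupp.single 1 n) r₂, ?_⟩
  refine Ideal.mem_span_singleton'.mpr ⟨shift s f, ?_⟩
  rw [X_mul_X_eq_monomial, ← hs, X_pow_eq, X_pow_eq]
  linear_combination -key + hr₂ + hr

theorem mem_cross_of_coeff {f : MvPowerSeries (Fin 2) K}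
    (h : ∀ i : Fin 2, ∀ j, coeff (Finsupp.single i j) f = 0) : f ∈ crossIdeal K := by
  classical
  refine Ideal.mem_span_singleton'.mpr ⟨shift (Finsupp.single 0 1 + Finsupp.single 1 1) f, ?_⟩
  rw [X_mul_X_eq_monomial, mul_comm]
  refine MvPowerSeries.ext fun d => ?_
  rw [coeff_monomial_mul_shift]
  split_ifs with hsd
  · rfl
  · by_cases hd0 : d 0 = 0
    · rw [show d = Finsupp.single 1 (d 1) by ext i; fin_cases i <;> simp [hd0]]
      exact (h 1 _).symm
    · have hd1 : d 1 = 0 := by
        by_contra hd1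
        refine hsd fun i => ?_
        fin_cases i <;> simp <;> omega
      rw [show d = Finsupp.single 0 (d 0) by ext i; fin_cases i <;> simp [hd1]]
      exact (h 0 _).symm

end Series

/-! ### The criterion -/

section Criterion

variable (K : Type u) [Field K]

theorem hasNodePair_of_equiv {C : Type u} [CommRing C] [IsLocalRing C]
    (e : C ≃+* (MvPowerSeries (Fin 2) K ⧸ crossIdeal K)) : HasNodePair C := by
  classical
  let q : MvPowerSeries (Fin 2) K →+* C :=
    (e.symm : _ →+* C).comp (Ideal.Quotient.mk (crossIdeal K))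
  have hq : Function.Surjective q := e.symm.surjective.comp Ideal.Quotient.mk_surjective
  have hker : RingHom.ker q = crossIdeal K := by
    exact (RingHom.ker_comp_of_injective (Ideal.Quotient.mk (crossIdeal K)) e.symm.injective).trans Ideal.mk_ker
  have hc : ∀ f, q f ∈ maximalIdeal C ↔ MvPowerSeries.constantCoeff f = 0 := by
    intro f
    constructor
    · intro hf
      by_contra hne
      exact (mem_maximalIdeal _).mp hf
        ((MvPowerSeries.isUnit_iff_constantCoeff.mpr (isUnit_iff_ne_zero.mpr hne)).map q)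
    · intro hf
      refine (mem_maximalIdeal _).mpr fun hu => ?_
      obtain ⟨g, hg⟩ := hq ↑hu.unit⁻¹
      have h1 : f * g - 1 ∈ crossIdeal K := by
        rw [← hker, RingHom.mem_ker, map_sub, map_mul, map_one, hg, IsUnit.mul_val_inv, sub_self]
      have h2 := coeff_eq_zero_of_mem_cross h1 0 0
      rw [Finsupp.single_zero, MvPowerSeries.coeff_zero_eq_constantCoeff_apply, map_sub, map_mul, hf,
        zero_mul, map_one, zero_sub, neg_eq_zero] at h2
      exact one_ne_zero h2
  have hm : maximalIdeal C = Ideal.span {q (MvPowerSeries.X 0), q (MvPowerSeries.X 1)} := by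
    refine le_antisymm (fun c hcm => ?_) (Ideal.span_le.mpr ?_)
    · obtain ⟨f, rfl⟩ := hq c
      have hf := (hc f).mp hcm
      obtain ⟨g₀, g₁, hg⟩ := sub_mem_cross (K := K) (f := f) 1 fun i j hj => by
        rw [Nat.lt_one_iff.mp hj, Finsupp.single_zero, MvPowerSeries.coeff_zero_eq_constantCoeff_apply, hf]
      rw [← hker, RingHom.mem_ker, map_sub, sub_eq_zero, map_add, map_mul, map_mul, pow_one, pow_one] at hg
      rw [hg]
      exact Ideal.mem_span_pair.mpr ⟨q g₀, q g₁, by ring⟩
    · simp [Set.insert_subset_iff, hc]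
  refine ⟨q (MvPowerSeries.X 0), q (MvPowerSeries.X 1), hm, ?_, fun n hn a b hab => ?_⟩
  · rw [← map_mul, RingHom.mem_ker.mp (hker.ge (Ideal.subset_span rfl))]
    exact zero_mem _
  · obtain ⟨A, rfl⟩ := hq a
    obtain ⟨B, rfl⟩ := hq b
    have hv : maximalIdeal C = (PSLib.vars 2 K).map q := by
      rw [hm, PSLib.vars, Ideal.map_span, ← Set.range_comp]
      congr 1
      ext z
      simp [Fin.exists_fin_two, eq_comm]
    rw [hv, ← Ideal.map_pow, ← map_pow, ← map_pow, ← map_mul, ← map_mul, ← map_add,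
      Ideal.mem_map_iff_of_surjective _ hq] at hab
    obtain ⟨r, hr, he⟩ := hab
    have hd : A * MvPowerSeries.X 0 ^ n + B * MvPowerSeries.X 1 ^ n - r ∈ crossIdeal K := by
      rw [← hker, RingHom.mem_ker, map_sub, he, sub_self]
    have key : ∀ i : Fin 2, MvPowerSeries.coeff (Finsupp.single i n)
        (A * MvPowerSeries.X 0 ^ n + B * MvPowerSeries.X 1 ^ n) = 0 := by
      intro i
      have h1 := coeff_eq_zero_of_mem_cross hd i n
      rw [map_sub, PSLib.coeff_eq_zero_of_mem_pow _ r hr _ (by rw [Finsupp.degree_single]; omega),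
        sub_zero] at h1
      exact h1
    have hne0 : ¬ Finsupp.single (0 : Fin 2) n ≤ Finsupp.single 1 n := by
      intro h; have := h 0; simp at this; omega
    have hne1 : ¬ Finsupp.single (1 : Fin 2) n ≤ Finsupp.single 0 n := by
      intro h; have := h 1; simp at this; omega
    rw [hc, hc]
    constructor
    · have h0 := key 0
      rw [map_add, MvPowerSeries.X_pow_eq, MvPowerSeries.X_pow_eq, MvPowerSeries.coeff_mul_monomial,
        MvPowerSeries.coeff_mul_monomial, if_pos le_rfl, if_neg hne1, tsub_self, add_zero, mul_one] at h0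
      rwa [← MvPowerSeries.coeff_zero_eq_constantCoeff_apply]
    · have h1 := key 1
      rw [map_add, MvPowerSeries.X_pow_eq, MvPowerSeries.X_pow_eq, MvPowerSeries.coeff_mul_monomial,
        MvPowerSeries.coeff_mul_monomial, if_neg hne0, if_pos le_rfl, tsub_self, zero_add, mul_one] at h1
      rwa [← MvPowerSeries.coeff_zero_eq_constantCoeff_apply]

variable {K} {A : Type u} [CommRing A] [IsLocalRing A] [IsNoetherianRing A] [Algebra K A]

theorem comap_pow_completion (n : ℕ) :
    (maximalIdeal (AdicCompletion (maximalIdeal A) A) ^ n).comap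
      (algebraMap A (AdicCompletion (maximalIdeal A) A)) = maximalIdeal A ^ n := by
  haveI := LC.Canon.faithfullyFlat_completion (R := A)
  rw [AdicCompletion.maximalIdeal_eq_map, ← Ideal.map_pow]
  exact Ideal.comap_map_eq_self_of_faithfullyFlat _

theorem hasNodePair_completion_iff :
    HasNodePair (AdicCompletion (maximalIdeal A) A) ↔ HasNodePair A := by
  haveI := LC.Canon.faithfullyFlat_completion (R := A)
  constructor
  · rintro ⟨u, v, h⟩
    obtain ⟨x, hx⟩ := Adic7.exists_sub_algebraMap_mem (maximalIdeal A) (IsNoetherian.noetherian _) u 2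
    obtain ⟨y, hy⟩ := Adic7.exists_sub_algebraMap_mem (maximalIdeal A) (IsNoetherian.noetherian _) v 2
    rw [← AdicCompletion.maximalIdeal_eq_map] at hx hy
    have h' := h.congr_sq (x' := algebraMap A _ x) (y' := algebraMap A _ y)
      (by rw [← neg_sub]; exact neg_mem hx) (by rw [← neg_sub]; exact neg_mem hy)
    refine ⟨x, y, IsNodePair.of_lift _ comap_pow_completion ?_ h'⟩
    have h1 := comap_pow_completion (A := A) 1
    rw [pow_one, pow_one, h'.1, ← Set.image_pair, ← Ideal.map_span,
      Ideal.comap_map_eq_self_of_faithfullyFlat] at h1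
    exact h1.symm
  · rintro ⟨x, y, h⟩
    exact ⟨_, _, h.of_flat AdicCompletion.maximalIdeal_eq_map⟩

theorem isOrdDoublePt_of_hasNodePair (hres : ∀ a : A, ∃ c : K, a - algebraMap K A c ∈ maximalIdeal A)
    (h : HasNodePair A) : Curv2.IsOrdDoublePt K A := by
  classical
  haveI : IsNoetherianRing (AdicCompletion (maximalIdeal A) A) := LC.Canon.isNoetherianRing_completion
  obtain ⟨x, y, hxy⟩ := hasNodePair_completion_iff.mpr h
  obtain ⟨u, v, huv, h0⟩ := hxy.exists_mul_eq_zero
  let C := AdicCompletion (maximalIdeal A) A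
  letI algC : Algebra K C := ((algebraMap A C).comp (algebraMap K A)).toAlgebra
  haveI : IsLocalHom (algebraMap K C) := ⟨fun a ha => by
    by_contra hne
    have h00 : a = 0 := by simpa [isUnit_iff_ne_zero] using hne
    rw [h00, map_zero] at ha
    exact not_isUnit_zero ha⟩
  haveI : IsAdicComplete (maximalIdeal K) K := by
    rw [maximalIdeal_eq_bot]; infer_instance
  have hmap : (maximalIdeal K).map (algebraMap K C) = ⊥ := by
    rw [maximalIdeal_eq_bot, Ideal.map_bot]
  obtain ⟨α, ψ, hα, hψ, h₀, h₁⟩ := exists_node (T := K) (C := C) (fun c => by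
      obtain ⟨b, hb⟩ := Adic7.exists_sub_algebraMap_mem (maximalIdeal A) (IsNoetherian.noetherian _) c 1
      obtain ⟨t, ht⟩ := hres b
      refine ⟨t, ?_⟩
      rw [← AdicCompletion.maximalIdeal_eq_map, pow_one] at hb
      rw [← sub_add_sub_cancel c (algebraMap A C b) _]
      refine add_mem hb ?_
      show algebraMap A C b - algebraMap A C (algebraMap K A t) ∈ _
      rw [← map_sub, AdicCompletion.maximalIdeal_eq_map]
      exact Ideal.mem_map_of_mem _ ht) u v (by rw [h0]; exact zero_mem _)
      (by rw [hmap, sup_bot_eq]; exact huv.1)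
  rw [hmap, Ideal.mem_bot, sub_eq_zero] at h₀ h₁
  have hα0 : α = 0 := by rw [maximalIdeal_eq_bot, Ideal.mem_bot] at hα; exact hα
  subst hα0
  have hcr : Ideal.span {(MvPowerSeries.X 0 * MvPowerSeries.X 1 - MvPowerSeries.C (0 : K) :
      MvPowerSeries (Fin 2) K)} = crossIdeal K := by rw [map_zero, sub_zero]
  let φ : MvPowerSeries (Fin 2) K →ₐ[K] C := ψ.comp (Ideal.Quotient.mkₐ K _)
  have hφ0 : φ (MvPowerSeries.X 0) = u := h₀
  have hφ1 : φ (MvPowerSeries.X 1) = v := h₁
  have hinj : Function.Injective ψ := by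
    refine (injective_iff_map_eq_zero ψ).mpr fun p hp => ?_
    obtain ⟨f, rfl⟩ := Ideal.Quotient.mk_surjective p
    have hf : φ f = 0 := hp
    rw [Ideal.Quotient.eq_zero_iff_mem, hcr]
    refine mem_cross_of_coeff fun i j => ?_
    suffices H : ∀ n, ∀ i : Fin 2, MvPowerSeries.coeff (Finsupp.single i n) f = 0 from H j i
    intro n
    induction n using Nat.strong_induction_on with
    | _ n ih =>
      obtain ⟨g₀, g₁, hg⟩ := sub_mem_cross (f := f) n (fun i j hj => ih j hj i)
      have hg' : φ f = φ g₀ * u ^ n + φ g₁ * v ^ n := by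
        have hg0 := Ideal.Quotient.eq_zero_iff_mem.mpr (hcr.ge hg)
        have : φ (f - (MvPowerSeries.X 0 ^ n * g₀ + MvPowerSeries.X 1 ^ n * g₁)) = 0 :=
          (congrArg ψ hg0).trans (map_zero ψ)
        rw [map_sub, sub_eq_zero, map_add, map_mul, map_mul, map_pow, map_pow, hφ0, hφ1] at this
        rw [this]; ring
      rcases Nat.eq_zero_or_pos n with rfl | hn
      · intro i
        have h2 := coeff_eq_zero_of_mem_cross hg i 0
        rw [Finsupp.single_zero, MvPowerSeries.coeff_zero_eq_constantCoeff_apply] at h2 ⊢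
        by_contra hne
        exact (isUnit_zero_iff.not.mpr (zero_ne_one (α := C)))
          (hf ▸ (MvPowerSeries.isUnit_iff_constantCoeff.mpr (isUnit_iff_ne_zero.mpr hne)).map φ)
      · rw [hf] at hg'
        obtain ⟨hA, hB⟩ := huv.2.2 n hn (φ g₀) (φ g₁) (by rw [← hg']; exact zero_mem _)
        have hconst : ∀ g : MvPowerSeries (Fin 2) K, φ g ∈ maximalIdeal C →
            MvPowerSeries.coeff 0 g = 0 := fun g hgm => by
          rw [MvPowerSeries.coeff_zero_eq_constantCoeff_apply]
          by_contra hne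
          exact (mem_maximalIdeal _).mp hgm
            ((MvPowerSeries.isUnit_iff_constantCoeff.mpr (isUnit_iff_ne_zero.mpr hne)).map φ)
        intro i
        have h2 := coeff_eq_zero_of_mem_cross hg i n
        rw [map_sub, sub_eq_zero] at h2
        rw [h2, map_add, MvPowerSeries.X_pow_eq, MvPowerSeries.X_pow_eq,
          MvPowerSeries.coeff_monomial_mul, MvPowerSeries.coeff_monomial_mul]
        fin_cases i
        · simp only [Fin.zero_eta, if_pos le_rfl, tsub_self, hconst g₀ hA, mul_zero, zero_add]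
          rw [if_neg]
          intro h; have := h 1; simp at this; omega
        · simp only [Fin.mk_one, if_pos le_rfl, tsub_self, hconst g₁ hB, mul_zero, add_zero]
          rw [if_neg]
          intro h; have := h 0; simp at this; omega
  let e := (RingEquiv.ofBijective ψ.toRingHom ⟨hinj, hψ⟩).symm.trans (Ideal.quotEquivOfEq hcr)
  refine ⟨e, fun c => ?_⟩
  have : algebraMap A C (algebraMap K A c) = ψ (Ideal.Quotient.mk _ (MvPowerSeries.C c)) :=
    (ψ.commutes c).symm
  show Ideal.quotEquivOfEq hcr ((RingEquiv.ofBijective ψ.toRingHom ⟨hinj, hψ⟩).symm _) = _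
  rw [this, show ψ (Ideal.Quotient.mk _ (MvPowerSeries.C c)) =
    RingEquiv.ofBijective ψ.toRingHom ⟨hinj, hψ⟩ (Ideal.Quotient.mk _ (MvPowerSeries.C c)) from rfl,
    RingEquiv.symm_apply_apply, Ideal.quotEquivOfEq_mk]

theorem hasNodePair_of_isOrdDoublePt (h : Curv2.IsOrdDoublePt K A) : HasNodePair A := by
  obtain ⟨e, -⟩ := h
  exact hasNodePair_completion_iff.mp (hasNodePair_of_equiv K e)

theorem isOrdDoublePt_iff (hres : ∀ a : A, ∃ c : K, a - algebraMap K A c ∈ maximalIdeal A) :
    Curv2.IsOrdDoublePt K A ↔ HasNodePair A :=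
  ⟨hasNodePair_of_isOrdDoublePt, isOrdDoublePt_of_hasNodePair hres⟩

end Criterion

end Groth.Agent.NodeLib
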