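import Groth.Agent.NodeLib.Crit
import Mathlib

/-!
# The criterion for ordinary double points descends along flat maps with trivial closed fibre

If `A → B` is faithfully flat local with `𝔪_A B = 𝔪_B`, the residue field of `A` is algebraically
closed and `B` has a node pair, then so has `A`.
-/

set_option autoImplicit false
set_option linter.style.haveILetI false

universe u

namespace Groth.Agent.NodeLib

open IsLocalRing

variable {A B : Type u} [CommRing A] [IsLocalRing A] [CommRing B] [IsLocalRing B]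

/-- Independence modulo an ideal is preserved by flat maps. -/
theorem mem_maximalIdeal_of_comb [Algebra A B] [Module.Flat A B]
    (hmB : maximalIdeal B = (maximalIdeal A).map (algebraMap A B)) {r : ℕ} (f : Fin r → A)
    (I : Ideal A) (h : ∀ a : Fin r → A, ∑ i, a i * f i ∈ I → ∀ i, a i ∈ maximalIdeal A)
    (b : Fin r → B) (hb : ∑ i, b i * algebraMap A B (f i) ∈ I.map (algebraMap A B)) :
    ∀ i, b i ∈ maximalIdeal B := by
  obtain ⟨k, c, g, hc⟩ := Submodule.mem_span_set'.mp hb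
  choose g' hg' hgI using fun j => (g j).2
  let F : Fin (r + k) → A := Fin.append f g'
  let Z : Fin (r + k) → B := Fin.append b (fun j => - c j)
  have hrel : ∑ i, F i • Z i = 0 := by
    rw [Fin.sum_univ_add]
    simp only [F, Z, Fin.append_left, Fin.append_right, Algebra.smul_def, mul_neg, Finset.sum_neg_distrib]
    rw [Finset.sum_congr rfl fun i _ => mul_comm (algebraMap A B (f i)) (b i), ← hc,
      ← sub_eq_add_neg, sub_eq_zero]
    refine Finset.sum_congr rfl fun j _ => ?_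
    rw [smul_eq_mul, ← hgI j, mul_comm]
  obtain ⟨l, a, w, hw, ha⟩ := Module.Flat.isTrivialRelation_of_sum_smul_eq_zero (R := A) (M := B) hrel
  have hmem : ∀ j, ∀ i, a (Fin.castAdd k i) j ∈ maximalIdeal A := by
    intro j
    refine h _ ?_
    have hj := ha j
    rw [Fin.sum_univ_add] at hj
    simp only [F, Fin.append_left, Fin.append_right] at hj
    have e : ∑ i, a (Fin.castAdd k i) j * f i = - ∑ i, g' i * a (Fin.natAdd r i) j := by
      rw [← sub_eq_zero, sub_neg_eq_add, ← hj]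
      congr 1
      exact Finset.sum_congr rfl fun i _ => mul_comm _ _
    rw [e]
    exact neg_mem (Ideal.sum_mem _ fun i _ => Ideal.mul_mem_right _ _ (hg' i))
  intro i
  have : b i = ∑ j, a (Fin.castAdd k i) j • w j := by
    have := hw (Fin.castAdd k i)
    simpa [Z] using this
  rw [this]
  refine Ideal.sum_mem _ fun j _ => ?_
  rw [hmB, Algebra.smul_def]
  exact Ideal.mul_mem_right _ _ (Ideal.mem_map_of_mem _ (hmem j i))

theorem IsNodePair.smul_units {x y : B} (h : IsNodePair x y) {s t : B} (hs : IsUnit s) (ht : IsUnit t) :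
    IsNodePair (s * x) (t * y) := by
  refine ⟨?_, ?_, fun n hn a b hab => ?_⟩
  · rw [h.1]
    refine le_antisymm (Ideal.span_le.mpr ?_) (Ideal.span_le.mpr ?_)
    · rintro z (rfl | rfl)
      · exact Ideal.mem_span_pair.mpr ⟨↑hs.unit⁻¹, 0, by rw [zero_mul, add_zero, ← mul_assoc, IsUnit.val_inv_mul, one_mul]⟩
      · exact Ideal.mem_span_pair.mpr ⟨0, ↑ht.unit⁻¹, by rw [zero_mul, zero_add, ← mul_assoc, IsUnit.val_inv_mul, one_mul]⟩
    · rintro z (rfl | rfl)
      · exact Ideal.mul_mem_left _ _ (Ideal.subset_span (by simp))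
      · exact Ideal.mul_mem_left _ _ (Ideal.subset_span (by simp))
  · rw [show s * x * (t * y) = s * t * (x * y) by ring]
    exact Ideal.mul_mem_left _ _ h.2.1
  · rw [mul_pow, mul_pow, ← mul_assoc, ← mul_assoc] at hab
    obtain ⟨h1, h2⟩ := h.2.2 n hn _ _ hab
    exact ⟨((maximalIdeal.isMaximal B).isPrime.mem_or_mem h1).resolve_right
        (fun h' => (mem_maximalIdeal _).mp h' (hs.pow n)),
      ((maximalIdeal.isMaximal B).isPrime.mem_or_mem h2).resolve_right
        (fun h' => (mem_maximalIdeal _).mp h' (ht.pow n))⟩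

theorem exists_split {k : Type u} [Field k] [IsAlgClosed k] (a b c : k) (h : a ≠ 0 ∨ b ≠ 0 ∨ c ≠ 0) :
    ∃ p₁ p₂ q₁ q₂ : k, (p₁ ≠ 0 ∨ p₂ ≠ 0) ∧ (q₁ ≠ 0 ∨ q₂ ≠ 0) ∧
      p₁ * q₁ = a ∧ p₁ * q₂ + p₂ * q₁ = b ∧ p₂ * q₂ = c := by
  by_cases ha : a = 0
  · subst ha
    exact ⟨0, 1, b, c, Or.inr one_ne_zero, h.resolve_left (fun h => h rfl), by ring, by ring, by ring⟩
  · obtain ⟨r, hr⟩ := IsAlgClosed.exists_root (Polynomial.C a * Polynomial.X ^ 2 +
      Polynomial.C b * Polynomial.X + Polynomial.C c) (by rw [Polynomial.degree_quadratic ha]; norm_num)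
    have hr' : a * r ^ 2 + b * r + c = 0 := by simpa [Polynomial.IsRoot] using hr
    exact ⟨1, -r, a, a * r + b, Or.inl one_ne_zero, Or.inl ha, by ring, by ring,
      by linear_combination -hr'⟩

theorem hasNodePair_of_faithfullyFlat [Algebra A B] [Module.FaithfullyFlat A B]
    [IsAlgClosed (ResidueField A)]
    (hmB : maximalIdeal B = (maximalIdeal A).map (algebraMap A B)) (h : HasNodePair B) : HasNodePair A := by
  classical
  obtain ⟨u, v, huv⟩ := h
  set φ := algebraMap A B with hφ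
  set M := maximalIdeal B with hM
  have hcomap : ∀ n : ℕ, (M ^ n).comap φ = maximalIdeal A ^ n := fun n => by
    rw [hmB, ← Ideal.map_pow]; exact Ideal.comap_map_eq_self_of_faithfullyFlat _
  have hlin : ∀ a b : B, a * u + b * v ∈ M ^ 2 → a ∈ M ∧ b ∈ M := fun a b hab =>
    huv.2.2 1 le_rfl a b (by rwa [pow_one, pow_one])
  have hm1 : ∀ {a : A}, φ a ∈ M → a ∈ maximalIdeal A := fun {a} ha => by
    have := hcomap 1
    rw [pow_one, pow_one] at this
    rw [← this]; exact ha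
  -- coordinates of the elements of `𝔪_A`
  have hco : ∀ l ∈ maximalIdeal A, ∃ α β : B, φ l = α * u + β * v := fun l hl => by
    have : φ l ∈ Ideal.span {u, v} := huv.1.le (hmB.ge (Ideal.mem_map_of_mem _ hl))
    obtain ⟨α, β, e⟩ := Ideal.mem_span_pair.mp this
    exact ⟨α, β, e.symm⟩
  choose! α β hαβ using hco
  obtain ⟨l₁, hl₁, l₂, hl₂, hdet⟩ :
      ∃ l₁ ∈ maximalIdeal A, ∃ l₂ ∈ maximalIdeal A, IsUnit (α l₁ * β l₂ - α l₂ * β l₁) := by
    by_contra hne
    push Not at hne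
    have hd : ∀ l ∈ maximalIdeal A, ∀ l' ∈ maximalIdeal A, α l * β l' - α l' * β l ∈ M :=
      fun l hl l' hl' => (mem_maximalIdeal _).mpr (hne l hl l' hl')
    have hu : u ∈ (maximalIdeal A).map φ := hmB ▸ huv.left_mem
    have hv : v ∈ (maximalIdeal A).map φ := hmB ▸ huv.right_mem
    obtain ⟨n, c, g, hc⟩ := Submodule.mem_span_set'.mp hu
    obtain ⟨n', c', g', hc'⟩ := Submodule.mem_span_set'.mp hv
    choose a ha hga using fun j => (g j).2
    choose a' ha' hga' using fun j => (g' j).2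
    have e1 : (∑ j, c j * α (a j) - 1) * u + (∑ j, c j * β (a j)) * v = 0 := by
      have : ∑ j, c j * φ (a j) = u := by
        conv_rhs => rw [← hc]
        exact Finset.sum_congr rfl fun j _ => by rw [smul_eq_mul, hga j]
      rw [sub_mul, one_mul, Finset.sum_mul, Finset.sum_mul, sub_add_eq_add_sub, ← Finset.sum_add_distrib,
        sub_eq_zero]
      refine Eq.trans (Finset.sum_congr rfl fun j _ => ?_) this
      rw [hαβ _ (ha j)]; ring
    have e2 : (∑ j, c' j * α (a' j)) * u + (∑ j, c' j * β (a' j) - 1) * v = 0 := by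
      have : ∑ j, c' j * φ (a' j) = v := by
        conv_rhs => rw [← hc']
        exact Finset.sum_congr rfl fun j _ => by rw [smul_eq_mul, hga' j]
      rw [sub_mul, one_mul, Finset.sum_mul, Finset.sum_mul, add_sub, ← Finset.sum_add_distrib, sub_eq_zero]
      refine Eq.trans (Finset.sum_congr rfl fun j _ => ?_) this
      rw [hαβ _ (ha' j)]; ring
    obtain ⟨h11, h12⟩ := hlin _ _ (e1.symm ▸ zero_mem _)
    obtain ⟨h21, h22⟩ := hlin _ _ (e2.symm ▸ zero_mem _)
    set S₁ := ∑ j, c j * α (a j)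
    set T₁ := ∑ j, c j * β (a j)
    set S₂ := ∑ j, c' j * α (a' j)
    set T₂ := ∑ j, c' j * β (a' j)
    have h3 : S₁ * T₂ - S₂ * T₁ ∈ M := by
      have : S₁ * T₂ - S₂ * T₁ =
          ∑ i, ∑ j, c i * c' j * (α (a i) * β (a' j) - α (a' j) * β (a i)) := by
        simp only [S₁, T₁, S₂, T₂, Finset.sum_mul, Finset.mul_sum]
        rw [Finset.sum_comm (s := Finset.univ) (t := Finset.univ)
          (f := fun x i => c i * α (a i) * (c' x * β (a' x))), ← Finset.sum_sub_distrib]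
        refine Finset.sum_congr rfl fun i _ => ?_
        rw [← Finset.sum_sub_distrib]
        exact Finset.sum_congr rfl fun j _ => by ring
      rw [this]
      exact Ideal.sum_mem _ fun i _ => Ideal.sum_mem _ fun j _ =>
        Ideal.mul_mem_left _ _ (hd _ (ha i) _ (ha' j))
    have h1 : (1 : B) ∈ M := by
      have e : (1 : B) = (S₁ * T₂ - S₂ * T₁) - (S₁ - 1) * T₂ - (T₂ - 1) + S₂ * T₁ := by ring
      rw [e]
      exact add_mem (sub_mem (sub_mem h3 (Ideal.mul_mem_right _ _ h11)) h22) (Ideal.mul_mem_right _ _ h21)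
    exact (mem_maximalIdeal _).mp h1 isUnit_one
  -- the quadratic relation
  have hrel : ∃ a : Fin 3 → A, ∑ i, a i * ![l₁ * l₁, l₁ * l₂, l₂ * l₂] i ∈ maximalIdeal A ^ 3 ∧
      ∃ i, a i ∉ maximalIdeal A := by
    by_contra hne
    push Not at hne
    set a₁ := α l₁
    set b₁ := β l₁
    set a₂ := α l₂
    set b₂ := β l₂
    have hsq : ∀ p q : B, (p * u + q * v) * (p * u + q * v) - (p * p * u ^ 2 + q * q * v ^ 2) ∈ M ^ 3 :=
      fun p q => by
        rw [show (p * u + q * v) * (p * u + q * v) - (p * p * u ^ 2 + q * q * v ^ 2) = 2 * p * q * (u * v)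
          by ring]
        exact Ideal.mul_mem_left _ _ huv.2.1
    have hpr : (a₁ * u + b₁ * v) * (a₂ * u + b₂ * v) - (a₁ * a₂ * u ^ 2 + b₁ * b₂ * v ^ 2) ∈ M ^ 3 := by
      rw [show (a₁ * u + b₁ * v) * (a₂ * u + b₂ * v) - (a₁ * a₂ * u ^ 2 + b₁ * b₂ * v ^ 2) =
        (a₁ * b₂ + a₂ * b₁) * (u * v) by ring]
      exact Ideal.mul_mem_left _ _ huv.2.1
    -- the kernel of the matrix with rows `(a₁², a₁a₂, a₂²)`, `(b₁², b₁b₂, b₂²)`
    let K : Fin 3 → B := ![a₂ * b₂, -(a₁ * b₂ + a₂ * b₁), a₁ * b₁]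
    have hK : ∑ i, K i * φ (![l₁ * l₁, l₁ * l₂, l₂ * l₂] i) ∈ (maximalIdeal A ^ 3).map φ := by
      rw [Ideal.map_pow, ← hmB]
      simp only [Fin.sum_univ_three, K]
      simp only [Matrix.cons_val_zero, Matrix.cons_val_one, Matrix.cons_val_two, Matrix.tail_cons,
        Matrix.head_cons, map_mul, hαβ _ hl₁, hαβ _ hl₂]
      convert add_mem (sub_mem (Ideal.mul_mem_left _ (a₂ * b₂) (hsq a₁ b₁))
        (Ideal.mul_mem_left _ (a₁ * b₂ + a₂ * b₁) hpr)) (Ideal.mul_mem_left _ (a₁ * b₁) (hsq a₂ b₂)) using 1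
      ring
    have hKm := mem_maximalIdeal_of_comb hmB _ _ hne K hK
    have h0 : a₂ * b₂ ∈ M := hKm 0
    have h1 : -(a₁ * b₂ + a₂ * b₁) ∈ M := hKm 1
    have h2 : a₁ * b₁ ∈ M := hKm 2
    -- hence the determinant squared is in the maximal ideal
    have : (a₁ * b₂ - a₂ * b₁) ^ 2 ∈ M := by
      rw [show (a₁ * b₂ - a₂ * b₁) ^ 2 =
        -(a₁ * b₂ + a₂ * b₁) * -(a₁ * b₂ + a₂ * b₁) - 4 * (a₂ * b₂) * (a₁ * b₁) by ring]
      exact sub_mem (Ideal.mul_mem_left _ _ h1) (Ideal.mul_mem_left _ _ h2)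
    exact (mem_maximalIdeal _).mp this (hdet.pow 2)
  obtain ⟨a, ha, i₀, hi₀⟩ := hrel
  -- splitting
  obtain ⟨p₁, p₂, q₁, q₂, hp, hq, e₁, e₂, e₃⟩ := exists_split (residue A (a 0)) (residue A (a 1))
    (residue A (a 2)) (by
      simp only [ne_eq, residue_eq_zero_iff]
      fin_cases i₀
      · exact Or.inl hi₀
      · exact Or.inr (Or.inl hi₀)
      · exact Or.inr (Or.inr hi₀))
  obtain ⟨P₁, rfl⟩ := residue_surjective p₁
  obtain ⟨P₂, rfl⟩ := residue_surjective p₂
  obtain ⟨Q₁, rfl⟩ := residue_surjective q₁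
  obtain ⟨Q₂, rfl⟩ := residue_surjective q₂
  rw [← map_mul] at e₁ e₃
  rw [← map_mul, ← map_mul, ← map_add] at e₂
  simp only [ne_eq, residue_eq_zero_iff] at hp hq
  set p := P₁ * l₁ + P₂ * l₂ with hpdef
  set q := Q₁ * l₁ + Q₂ * l₂ with hqdef
  have hpq : p * q ∈ maximalIdeal A ^ 3 := by
    simp only [Fin.sum_univ_three, Matrix.cons_val_zero, Matrix.cons_val_one, Matrix.cons_val_two,
      Matrix.tail_cons, Matrix.head_cons] at ha
    have d : ∀ {z w : A}, residue A z = residue A w → ∀ {s}, s ∈ maximalIdeal A ^ 2 →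
        (z - w) * s ∈ maximalIdeal A ^ 3 := fun {z w} hzw {s} hs => by
      rw [pow_succ']
      exact Ideal.mul_mem_mul (Ideal.Quotient.eq.mp hzw) hs
    have hll : ∀ {l l' : A}, l ∈ maximalIdeal A → l' ∈ maximalIdeal A → l * l' ∈ maximalIdeal A ^ 2 :=
      fun hl hl' => by rw [pow_two]; exact Ideal.mul_mem_mul hl hl'
    have := add_mem (add_mem (add_mem ha (d e₁ (hll hl₁ hl₁))) (d e₂ (hll hl₁ hl₂))) (d e₃ (hll hl₂ hl₂))
    convert this using 1
    rw [hpdef, hqdef]
    ring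
  -- coordinates of `p`, `q`
  have coord : ∀ R S : A, (R ∉ maximalIdeal A ∨ S ∉ maximalIdeal A) →
      ∃ c d : B, φ (R * l₁ + S * l₂) = c * u + d * v ∧ (IsUnit c ∨ IsUnit d) := by
    intro R S hRS
    refine ⟨φ R * α l₁ + φ S * α l₂, φ R * β l₁ + φ S * β l₂, ?_, ?_⟩
    · rw [map_add, map_mul, map_mul, hαβ _ hl₁, hαβ _ hl₂]; ring
    · by_contra hne
      push Not at hne
      have h1 : φ R * (α l₁ * β l₂ - α l₂ * β l₁) ∈ M := by
        rw [show φ R * (α l₁ * β l₂ - α l₂ * β l₁) = (φ R * α l₁ + φ S * α l₂) * β l₂ -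
          (φ R * β l₁ + φ S * β l₂) * α l₂ by ring]
        exact sub_mem (Ideal.mul_mem_right _ _ ((mem_maximalIdeal _).mpr hne.1))
          (Ideal.mul_mem_right _ _ ((mem_maximalIdeal _).mpr hne.2))
      have h2 : φ S * (α l₁ * β l₂ - α l₂ * β l₁) ∈ M := by
        rw [show φ S * (α l₁ * β l₂ - α l₂ * β l₁) = (φ R * β l₁ + φ S * β l₂) * α l₁ -
          (φ R * α l₁ + φ S * α l₂) * β l₁ by ring]
        exact sub_mem (Ideal.mul_mem_right _ _ ((mem_maximalIdeal _).mpr hne.2))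
          (Ideal.mul_mem_right _ _ ((mem_maximalIdeal _).mpr hne.1))
      have hres : ∀ {z : A}, φ z * (α l₁ * β l₂ - α l₂ * β l₁) ∈ M → z ∈ maximalIdeal A := fun {z} hz =>
        hm1 (((maximalIdeal.isMaximal B).isPrime.mem_or_mem hz).resolve_right
          (fun h' => (mem_maximalIdeal _).mp h' hdet))
      rcases hRS with hR | hS
      · exact hR (hres h1)
      · exact hS (hres h2)
  obtain ⟨c, d, hcd, hcd'⟩ := coord P₁ P₂ hp
  obtain ⟨c', d', hcd₂, hcd₂'⟩ := coord Q₁ Q₂ hq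
  rw [← hpdef] at hcd
  rw [← hqdef] at hcd₂
  have hprod : φ p * φ q ∈ M ^ 3 := by
    rw [← map_mul, hmB, ← Ideal.map_pow]
    exact Ideal.mem_map_of_mem _ hpq
  obtain ⟨hcc, hdd⟩ := huv.2.2 2 one_le_two (c * c') (d * d') (by
    have := sub_mem hprod (Ideal.mul_mem_left _ (c * d' + c' * d) huv.2.1)
    convert this using 1
    rw [hcd, hcd₂]; ring)
  have hsq : ∀ {z : B}, z ∈ M → ∀ {w : B}, w ∈ M → z * w ∈ M ^ 2 := fun {z} hz {w} hw => by
    rw [pow_two]; exact Ideal.mul_mem_mul hz hw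
  have hnu : ∀ {z w : B}, z * w ∈ M → IsUnit z → w ∈ M := fun {z w} hzw hz =>
    ((maximalIdeal.isMaximal B).isPrime.mem_or_mem hzw).resolve_left
      (fun h' => (mem_maximalIdeal _).mp h' hz)
  have hno : ∀ {z : B}, z ∈ M → ¬ IsUnit z := fun hz => (mem_maximalIdeal _).mp hz
  have key : IsNodePair (φ p) (φ q) := by
    rcases hcd' with hc | hd
    · have hc' : c' ∈ M := hnu hcc hc
      have hd' : IsUnit d' := hcd₂'.resolve_left (hno hc')
      have hd : d ∈ M := hnu (by rwa [mul_comm]) hd'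
      refine (huv.smul_units hc hd').congr_sq ?_ ?_
      · rw [hcd, add_sub_cancel_left]; exact hsq hd huv.right_mem
      · rw [hcd₂, add_sub_cancel_right]; exact hsq hc' huv.left_mem
    · have hd' : d' ∈ M := hnu hdd hd
      have hc' : IsUnit c' := hcd₂'.resolve_right (hno hd')
      have hc : c ∈ M := hnu (by rwa [mul_comm]) hc'
      refine (huv.symm.smul_units hd hc').congr_sq ?_ ?_
      · rw [hcd, add_sub_cancel_right]; exact hsq hc huv.left_mem
      · rw [hcd₂, add_sub_cancel_left]; exact hsq hd' huv.right_mem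
  refine ⟨p, q, IsNodePair.of_lift φ hcomap ?_ key⟩
  have h1 := hcomap 1
  rw [pow_one, pow_one, hM, key.1, ← Set.image_pair, ← Ideal.map_span,
    Ideal.comap_map_eq_self_of_faithfullyFlat] at h1
  exact h1.symm

theorem hasNodePair_iff_of_faithfullyFlat [Algebra A B] [Module.FaithfullyFlat A B]
    [IsAlgClosed (ResidueField A)] (hmB : maximalIdeal B = (maximalIdeal A).map (algebraMap A B)) :
    HasNodePair B ↔ HasNodePair A :=
  ⟨hasNodePair_of_faithfullyFlat hmB, fun ⟨_, _, h⟩ => ⟨_, _, h.of_flat hmB⟩⟩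

end Groth.Agent.NodeLib
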