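import Groth.Agent.NodeLib.Crit
import Mathlib

/-!
# Consequences of the criterion: node points are reduced, not regular
-/

set_option autoImplicit false
set_option linter.style.haveILetI false

universe u

namespace Groth.Agent.NodeLib

open IsLocalRing

variable {A : Type u} [CommRing A] [IsLocalRing A]

theorem IsNodePair.not_principal {x y : A} (h : IsNodePair x y) (t : A) :
    maximalIdeal A ≠ Ideal.span {t} := by
  intro ht
  obtain ⟨a, ha⟩ := Ideal.mem_span_singleton'.mp (ht.le h.left_mem)
  obtain ⟨b, hb⟩ := Ideal.mem_span_singleton'.mp (ht.le h.right_mem)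
  have h0 : b * x ^ 1 + (-a) * y ^ 1 ∈ maximalIdeal A ^ (1 + 1) := by
    rw [show b * x ^ 1 + (-a) * y ^ 1 = 0 by rw [← ha, ← hb]; ring]; exact zero_mem _
  obtain ⟨hb', ha'⟩ := h.2.2 1 le_rfl _ _ h0
  have hx : (1 : A) * x ^ 1 + 0 * y ^ 1 ∈ maximalIdeal A ^ (1 + 1) := by
    rw [one_mul, zero_mul, add_zero, pow_one, pow_two, ← ha]
    exact Ideal.mul_mem_mul (by simpa using ha') (ht.ge (Ideal.mem_span_singleton_self t))
  exact (mem_maximalIdeal _).mp (h.2.2 1 le_rfl _ _ hx).1 isUnit_one

theorem not_hasNodePair_of_regular [IsRegularLocalRing A]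
    (hd : ringKrullDim A ≤ 1) : ¬ HasNodePair A := by
  rintro ⟨x, y, h⟩
  have h1 : (maximalIdeal A).spanFinrank ≤ 1 := by
    have := IsRegularLocalRing.spanFinrank_maximalIdeal (R := A)
    rw [← this] at hd
    exact_mod_cast hd
  obtain ⟨s, hs, hspan⟩ := Submodule.FG.exists_span_set_encard_eq_spanFinrank
    (IsNoetherian.noetherian (maximalIdeal A))
  have hcard : s.encard ≤ 1 := by rw [hs]; exact_mod_cast h1
  rcases Set.encard_le_one_iff_subsingleton.mp hcard |>.eq_empty_or_singleton with rfl | ⟨t, rfl⟩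
  · exact h.not_principal 0 (by rw [← hspan]; simp)
  · exact h.not_principal t hspan.symm

theorem crossIdeal_isRadical (K : Type u) [Field K] : (crossIdeal K).IsRadical := by
  rw [Ideal.isRadical_iff_pow_one_lt 2 one_lt_two]
  intro f hf
  refine mem_cross_of_coeff fun i j => ?_
  induction j using Nat.strong_induction_on generalizing i with
  | _ j ih =>
    obtain ⟨g₀, g₁, hg⟩ := sub_mem_cross (f := f) j (fun i k hk => ih k hk i)
    have h2 : f ^ 2 - (MvPowerSeries.X 0 ^ j * g₀ + MvPowerSeries.X 1 ^ j * g₁) ^ 2 ∈ crossIdeal K := by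
      rw [sq_sub_sq]; exact Ideal.mul_mem_left _ _ hg
    have h3 : (MvPowerSeries.X 0 ^ j * g₀ + MvPowerSeries.X 1 ^ j * g₁) ^ 2 ∈ crossIdeal K := by
      simpa using sub_mem hf h2
    rcases Nat.eq_zero_or_pos j with rfl | hj
    · have h4 := coeff_eq_zero_of_mem_cross hf i 0
      rw [Finsupp.single_zero, MvPowerSeries.coeff_zero_eq_constantCoeff_apply] at h4 ⊢
      rw [map_pow] at h4
      exact pow_eq_zero_iff two_ne_zero |>.mp h4
    · have h4 := coeff_eq_zero_of_mem_cross hg i j
      rw [map_sub, sub_eq_zero] at h4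
      have hne : ∀ {a b : Fin 2}, a ≠ b → ∀ m n : ℕ, 0 < m →
          ¬ Finsupp.single a m ≤ Finsupp.single b n := by
        intro a b hab m n hm hle
        have := hle a
        simp [hab.symm] at this
        omega
      have e : ∀ (a : Fin 2) (n : ℕ) (g : MvPowerSeries (Fin 2) K),
          MvPowerSeries.coeff (Finsupp.single a n) (MvPowerSeries.X a ^ n * g) =
            MvPowerSeries.constantCoeff g := by
        intro a n g
        rw [MvPowerSeries.X_pow_eq, MvPowerSeries.coeff_monomial_mul, if_pos le_rfl, tsub_self, one_mul,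
          MvPowerSeries.coeff_zero_eq_constantCoeff_apply]
      have e0 : ∀ (a b : Fin 2), a ≠ b → ∀ (m n : ℕ), 0 < m → ∀ g : MvPowerSeries (Fin 2) K,
          MvPowerSeries.coeff (Finsupp.single b n) (MvPowerSeries.X a ^ m * g) = 0 := by
        intro a b hab m n hm g
        rw [MvPowerSeries.X_pow_eq, MvPowerSeries.coeff_monomial_mul, if_neg (hne hab m n hm)]
      have h5 := coeff_eq_zero_of_mem_cross h3 i (j * 2)
      have hexp : (MvPowerSeries.X 0 ^ j * g₀ + MvPowerSeries.X 1 ^ j * g₁) ^ 2 =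
          MvPowerSeries.X 0 ^ (j * 2) * g₀ ^ 2 + MvPowerSeries.X 1 ^ (j * 2) * g₁ ^ 2 +
            MvPowerSeries.X 0 ^ j * (2 * MvPowerSeries.X 1 ^ j * g₀ * g₁) := by ring
      rw [hexp, map_add, map_add] at h5
      rw [h4, map_add]
      fin_cases i
      · simp only [Fin.zero_eta] at h5 ⊢
        rw [e, e0 1 0 (by decide) _ _ (by omega), add_zero,
          show MvPowerSeries.X 0 ^ j * (2 * MvPowerSeries.X 1 ^ j * g₀ * g₁) =
            MvPowerSeries.X 1 ^ j * (2 * MvPowerSeries.X 0 ^ j * g₀ * g₁) by ring,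
          e0 1 0 (by decide) _ _ hj, add_zero, map_pow] at h5
        rw [e, e0 1 0 (by decide) _ _ hj, add_zero]
        exact pow_eq_zero_iff two_ne_zero |>.mp h5
      · simp only [Fin.mk_one] at h5 ⊢
        rw [e, e0 0 1 (by decide) _ _ (by omega), zero_add, e0 0 1 (by decide) _ _ hj, add_zero, map_pow] at h5
        rw [e, e0 0 1 (by decide) _ _ hj, zero_add]
        exact pow_eq_zero_iff two_ne_zero |>.mp h5

theorem isReduced_of_isOrdDoublePt {K : Type u} [Field K] [Algebra K A] [IsNoetherianRing A]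
    (h : Curv2.IsOrdDoublePt K A) : IsReduced A := by
  obtain ⟨e, -⟩ := h
  haveI : IsReduced (MvPowerSeries (Fin 2) K ⧸ crossIdeal K) :=
    (Ideal.isRadical_iff_quotient_reduced _).mp (crossIdeal_isRadical K)
  haveI := LC.Canon.faithfullyFlat_completion (R := A)
  refine isReduced_of_injective (e.toRingHom.comp (algebraMap A (AdicCompletion (maximalIdeal A) A))) ?_
  exact e.injective.comp (FaithfulSMul.algebraMap_injective A (AdicCompletion (maximalIdeal A) A))

end Groth.Agent.NodeLib
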