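import Mathlib

/-!
# Square systems of equations with invertible Jacobian
-/

set_option autoImplicit false
set_option linter.style.haveILetI false

universe u

namespace Groth.Agent.NodeLib

open MvPolynomial

variable (R : Type u) [CommRing R] {ι : Type} (f : ι → MvPolynomial ι R) (h : MvPolynomial ι R)

/-- `R[X] / (f)` with `h` inverted. -/
def Sys : Type _ := Localization.Away (Ideal.Quotient.mk (Ideal.span (Set.range f)) h)

noncomputable instance : CommRing (Sys R f h) :=
  inferInstanceAs (CommRing (Localization.Away (Ideal.Quotient.mk (Ideal.span (Set.range f)) h)))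

noncomputable instance : Algebra R (Sys R f h) :=
  inferInstanceAs (Algebra R (Localization.Away (Ideal.Quotient.mk (Ideal.span (Set.range f)) h)))

/-- The projection from polynomials. -/
noncomputable def Sys.of : MvPolynomial ι R →+* Sys R f h :=
  (algebraMap (MvPolynomial ι R ⧸ Ideal.span (Set.range f))
    (Localization.Away (Ideal.Quotient.mk (Ideal.span (Set.range f)) h))).comp (Ideal.Quotient.mk _)

variable {R f h}

theorem Sys.of_rel (i : ι) : Sys.of R f h (f i) = 0 := by
  show algebraMap (MvPolynomial ι R ⧸ Ideal.span (Set.range f)) (Localization.Away (Ideal.Quotient.mk (Ideal.span (Set.range f)) h))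
    (Ideal.Quotient.mk _ (f i)) = 0
  rw [Ideal.Quotient.eq_zero_iff_mem.mpr (Ideal.subset_span (Set.mem_range_self i)), map_zero]

theorem Sys.isUnit_of : IsUnit (Sys.of R f h h) :=
  IsLocalization.Away.algebraMap_isUnit (S := Localization.Away (Ideal.Quotient.mk (Ideal.span (Set.range f)) h)) (Ideal.Quotient.mk (Ideal.span (Set.range f)) h)

theorem Sys.algebraMap_eq (a : R) : algebraMap R (Sys R f h) a = Sys.of R f h (C a) :=
  IsScalarTower.algebraMap_apply R (MvPolynomial ι R ⧸ Ideal.span (Set.range f))
    (Localization.Away (Ideal.Quotient.mk (Ideal.span (Set.range f)) h)) a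

variable {T : Type*} [CommRing T]

theorem Sys.hom_ext (φ ψ : Sys R f h →+* T) (hC : ∀ a, φ (Sys.of R f h (C a)) = ψ (Sys.of R f h (C a)))
    (hX : ∀ i, φ (Sys.of R f h (X i)) = ψ (Sys.of R f h (X i))) : φ = ψ := by
  have : (show (Localization.Away (Ideal.Quotient.mk (Ideal.span (Set.range f)) h)) →+* T from φ) = (show (Localization.Away (Ideal.Quotient.mk (Ideal.span (Set.range f)) h)) →+* T from ψ) :=
    IsLocalization.ringHom_ext (Submonoid.powers (Ideal.Quotient.mk (Ideal.span (Set.range f)) h))
      (Ideal.Quotient.ringHom_ext (MvPolynomial.ringHom_ext hC hX))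
  exact this

variable (φ : R →+* T) (x : ι → T)

theorem Sys.exists_lift (hf : ∀ i, eval₂Hom φ x (f i) = 0) (hh : IsUnit (eval₂Hom φ x h)) :
    ∃ ψ : Sys R f h →+* T, ∀ p, ψ (Sys.of R f h p) = eval₂Hom φ x p := by
  let ψ₀ : MvPolynomial ι R ⧸ Ideal.span (Set.range f) →+* T := Ideal.Quotient.lift _ (eval₂Hom φ x) (fun p hp => by
    have : Ideal.span (Set.range f) ≤ RingHom.ker (eval₂Hom φ x) := Ideal.span_le.mpr (by
      rintro _ ⟨i, rfl⟩; exact hf i)
    exact this hp)
  refine ⟨(IsLocalization.Away.lift (S := (Localization.Away (Ideal.Quotient.mk (Ideal.span (Set.range f)) h)))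
    (Ideal.Quotient.mk (Ideal.span (Set.range f)) h) (g := ψ₀) hh : (Localization.Away (Ideal.Quotient.mk (Ideal.span (Set.range f)) h)) →+* T), fun p => ?_⟩
  show IsLocalization.Away.lift (S := (Localization.Away (Ideal.Quotient.mk (Ideal.span (Set.range f)) h))) (Ideal.Quotient.mk (Ideal.span (Set.range f)) h) (g := ψ₀) hh
    (algebraMap (MvPolynomial ι R ⧸ Ideal.span (Set.range f)) (Localization.Away (Ideal.Quotient.mk (Ideal.span (Set.range f)) h)) (Ideal.Quotient.mk (Ideal.span (Set.range f)) p)) = _
  rw [IsLocalization.Away.lift_eq]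
  rfl

theorem Sys.etale [Fintype ι] [DecidableEq ι]
    (hdvd : (Matrix.of fun i j => pderiv j (f i)).det ∣ h) : Algebra.Etale R (Sys R f h) := by
  let T := MvPolynomial ι R ⧸ Ideal.span (Set.range f)
  let Δ : T := Ideal.Quotient.mk _ h
  let P : Algebra.PreSubmersivePresentation R T ι ι :=
    Algebra.PreSubmersivePresentation.naive id Function.injective_id
  have hP : P.jacobian = Ideal.Quotient.mk _ (Matrix.of fun i j => pderiv j (f i)).det := by
    rw [Algebra.PreSubmersivePresentation.jacobian_eq_jacobiMatrix_det]
    show Ideal.Quotient.mk (Ideal.span (Set.range f)) _ = _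
    congr 1
    rw [← Matrix.det_transpose (Matrix.of _)]
    congr 1
    refine Matrix.ext fun i j => ?_
    exact Algebra.PreSubmersivePresentation.jacobiMatrix_apply P i j
  have hJ : IsUnit (algebraMap T (Localization.Away Δ) P.jacobian) := by
    obtain ⟨d, hd⟩ := hdvd
    have h1 : IsUnit (algebraMap T (Localization.Away Δ) Δ) := IsLocalization.Away.algebraMap_isUnit _
    have e : algebraMap T (Localization.Away Δ) Δ =
        algebraMap T (Localization.Away Δ) P.jacobian * algebraMap T (Localization.Away Δ) (Ideal.Quotient.mk _ d) := by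
      rw [← map_mul, hP, ← map_mul, ← hd]
    rw [e] at h1
    exact isUnit_of_mul_isUnit_left h1
  let Q : Algebra.SubmersivePresentation R (Localization.Away Δ) _ _ :=
    { toPreSubmersivePresentation := .comp (.localizationAway (Localization.Away Δ) Δ) P,
      jacobian_isUnit := by
        have h1 : IsUnit (algebraMap T (Localization.Away Δ) Δ) := IsLocalization.Away.algebraMap_isUnit _
        simp [Algebra.smul_def, -isUnit_map_iff, h1, hJ] }
  haveI : Algebra.IsStandardSmoothOfRelativeDimension 0 R (Localization.Away Δ) :=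
    ⟨_, _, _, inferInstance, Q, by
      simp only [Algebra.PreSubmersivePresentation.dimension_comp_eq_dimension_add_dimension, Q]
      simp [Algebra.Presentation.dimension]⟩
  exact inferInstanceAs (Algebra.Etale R (Localization.Away Δ))

end Groth.Agent.NodeLib
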