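import Groth.Agent.NodeLib.CritDescent
import Groth.Agent.NodeLib.CritProps
import Groth.Agent.RGLib.FibClosed
import Groth.Agent.FlatDvr.FibreStalk
import Groth.Agent.Lib.CurveSection
import Mathlib

/-!
# Node pairs at rational points do not depend on the algebraically closed field
-/

set_option autoImplicit false
set_option linter.style.haveILetI false
set_option backward.isDefEq.respectTransparency false
set_option backward.isDefEq.respectTransparency.types false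

universe u

open CategoryTheory CategoryTheory.Limits AlgebraicGeometry IsLocalRing

namespace Groth.Agent.NodeLib

theorem flat_spec_field {L Ω : Type u} [Field L] [Field Ω]
    (σ : Spec (CommRingCat.of Ω) ⟶ Spec (CommRingCat.of L)) : Flat σ := by
  rw [← Spec.map_preimage σ, HasRingHomProperty.Spec_iff (P := @Flat)]
  letI := (Spec.preimage σ).hom.toAlgebra
  exact (inferInstanceAs (Module.Flat L Ω))

/-- Base change of algebraically closed fields. -/
theorem hasNodePair_iff_of_isPullback {L Ω : Type u} [Field L] [IsAlgClosed L] [Field Ω]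
    {X X' : Scheme.{u}} (p : X ⟶ Spec (CommRingCat.of L)) [LocallyOfFiniteType p]
    (q : X' ⟶ Spec (CommRingCat.of Ω)) (σ : Spec (CommRingCat.of Ω) ⟶ Spec (CommRingCat.of L))
    (π : X' ⟶ X) (h : IsPullback π q p σ) (x' : X') (hx : IsClosed ({π x'} : Set X)) :
    HasNodePair (X'.presheaf.stalk x') ↔ HasNodePair (X.presheaf.stalk (π x')) := by
  haveI : Flat σ := flat_spec_field σ
  haveI : Flat π := MorphismProperty.of_isPullback h.flip inferInstance
  set x := π x' with hxdef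
  -- the fibre is a point
  have hκ : IsIso (X.fromSpecResidueField x ≫ p) := by
    rw [← SpecMap_residueFieldIsoBase_inv p x hx]; infer_instance
  have sq : IsPullback (π.fiberToSpecResidueField x) (π.fiberι x ≫ q) (X.fromSpecResidueField x ≫ p) σ :=
    (IsPullback.of_hasPullback π (X.fromSpecResidueField x)).flip.paste_vert h
  haveI : IsIso (π.fiberι x ≫ q) := MorphismProperty.of_isPullback
    (P := MorphismProperty.isomorphisms Scheme.{u}) sq hκ
  let w : π.fiber x := π.asFiber x'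
  have hw : π.fiberι x w = x' := π.fiberι_asFiber x'
  have key : ∀ (w : π.fiber x), (maximalIdeal (X.presheaf.stalk (π (π.fiberι x w)))).map
      (π.stalkMap (π.fiberι x w)).hom = maximalIdeal (X'.presheaf.stalk (π.fiberι x w)) := by
    intro w
    rw [← FlatDvr.ker_stalkMap_fiberι π w]
    refine le_antisymm (IsLocalRing.le_maximalIdeal (RingHom.ker_ne_top _)) fun a ha => ?_
    rw [RingHom.mem_ker]
    set v := (π.fiberι x).stalkMap w a with hv
    have hnu : ¬ IsUnit v := fun hu => ha (isUnit_of_map_unit ((π.fiberι x).stalkMap w).hom a hu)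
    haveI := ‹IsIso (π.fiberι x ≫ q)›
    let e := ((π.fiberι x ≫ q).stalkMap w).hom
    have he : Function.Bijective e := ConcreteCategory.bijective_of_isIso _
    obtain ⟨z, hz⟩ := he.2 v
    rcases FlatDvr.eq_zero_or_isUnit_stalk_field Ω _ z with h0 | hu
    · show v = 0
      rw [← hz, h0, map_zero]
    · exact absurd (hz ▸ hu.map e) hnu
  have hm : (maximalIdeal (X.presheaf.stalk (π x'))).map (π.stalkMap x').hom =
      maximalIdeal (X'.presheaf.stalk x') := hw ▸ key w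
  letI := (π.stalkMap x').hom.toAlgebra
  haveI : Module.Flat (X.presheaf.stalk (π x')) (X'.presheaf.stalk x') := Flat.stalkMap π x'
  haveI : IsLocalHom (algebraMap (X.presheaf.stalk (π x')) (X'.presheaf.stalk x')) := by
    rw [RingHom.algebraMap_toAlgebra]; infer_instance
  haveI : Module.FaithfullyFlat (X.presheaf.stalk (π x')) (X'.presheaf.stalk x') :=
    Module.FaithfullyFlat.of_flat_of_isLocalHom
  haveI : IsAlgClosed (ResidueField (X.presheaf.stalk (π x'))) :=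
    IsAlgClosed.of_ringEquiv L _ (residueFieldIsoBase p x hx).commRingCatIsoToRingEquiv.symm
  exact hasNodePair_iff_of_faithfullyFlat hm.symm

/-- The point of a base change given by a rational point over a closed point. -/
theorem exists_common {k Ω₁ Ω₂ : Type u} [Field k] [Field Ω₁] [Field Ω₂] {X : Scheme.{u}}
    (p : X ⟶ Spec (CommRingCat.of k)) (σ₁ : Spec (CommRingCat.of Ω₁) ⟶ Spec (CommRingCat.of k))
    (σ₂ : Spec (CommRingCat.of Ω₂) ⟶ Spec (CommRingCat.of k))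
    (t₁ : Spec (CommRingCat.of Ω₁) ⟶ X) (t₂ : Spec (CommRingCat.of Ω₂) ⟶ X)
    (h₁ : t₁ ≫ p = σ₁) (h₂ : t₂ ≫ p = σ₂) (h : t₁ (closedPoint Ω₁) = t₂ (closedPoint Ω₂)) :
    ∃ (Ω : Type u) (_ : Field Ω) (_ : IsAlgClosed Ω) (τ₁ : Spec (CommRingCat.of Ω) ⟶ Spec (CommRingCat.of Ω₁))
      (τ₂ : Spec (CommRingCat.of Ω) ⟶ Spec (CommRingCat.of Ω₂)),
      τ₁ ≫ t₁ = τ₂ ≫ t₂ ∧ τ₁ ≫ σ₁ = τ₂ ≫ σ₂ := by
  obtain ⟨z, -, -⟩ := Scheme.Pullback.exists_preimage_pullback (f := t₁) (g := t₂) (closedPoint Ω₁) (closedPoint Ω₂) h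
  let P := pullback t₁ t₂
  let Ω := AlgebraicClosure (P.residueField z)
  let e : Spec (CommRingCat.of Ω) ⟶ P :=
    Spec.map (CommRingCat.ofHom (algebraMap (P.residueField z) Ω)) ≫ P.fromSpecResidueField z
  refine ⟨Ω, inferInstance, inferInstance, e ≫ pullback.fst t₁ t₂, e ≫ pullback.snd t₁ t₂, ?_, ?_⟩
  · simp only [Category.assoc, pullback.condition]
  · rw [← h₁, ← h₂]; simp only [Category.assoc, pullback.condition_assoc]

/-- Any two rational points over the same closed point. -/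
theorem hasNodePair_transfer {k Ω₁ Ω₂ : Type u} [Field k] [Field Ω₁] [IsAlgClosed Ω₁] [Field Ω₂] [IsAlgClosed Ω₂]
    {X X₁ X₂ : Scheme.{u}} (p : X ⟶ Spec (CommRingCat.of k)) [LocallyOfFiniteType p]
    {q₁ : X₁ ⟶ Spec (CommRingCat.of Ω₁)} {σ₁ : Spec (CommRingCat.of Ω₁) ⟶ Spec (CommRingCat.of k)}
    {π₁ : X₁ ⟶ X} (s₁ : IsPullback π₁ q₁ p σ₁)
    {q₂ : X₂ ⟶ Spec (CommRingCat.of Ω₂)} {σ₂ : Spec (CommRingCat.of Ω₂) ⟶ Spec (CommRingCat.of k)}
    {π₂ : X₂ ⟶ X} (s₂ : IsPullback π₂ q₂ p σ₂) (x₁ : X₁) (x₂ : X₂) (h : π₁ x₁ = π₂ x₂)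
    (hx : IsClosed ({π₁ x₁} : Set X)) :
    HasNodePair (X₁.presheaf.stalk x₁) ↔ HasNodePair (X₂.presheaf.stalk x₂) := by
  haveI : LocallyOfFiniteType q₁ := MorphismProperty.of_isPullback s₁ inferInstance
  haveI : LocallyOfFiniteType q₂ := MorphismProperty.of_isPullback s₂ inferInstance
  have hc₁ := RGLib.FibClosed.isClosed_singleton_of_field_ext π₁ q₁ p σ₁ s₁ x₁ hx
  have hc₂ := RGLib.FibClosed.isClosed_singleton_of_field_ext π₂ q₂ p σ₂ s₂ x₂ (h ▸ hx)
  let a₁ := pointOfClosedPoint q₁ x₁ hc₁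
  let a₂ := pointOfClosedPoint q₂ x₂ hc₂
  have ht₁ : (a₁ ≫ π₁) ≫ p = σ₁ := by rw [Category.assoc, s₁.w, pointOfClosedPoint_comp_assoc]
  have ht₂ : (a₂ ≫ π₂) ≫ p = σ₂ := by rw [Category.assoc, s₂.w, pointOfClosedPoint_comp_assoc]
  obtain ⟨Ω, _, _, τ₁, τ₂, hτ, hσ⟩ := exists_common p σ₁ σ₂ (a₁ ≫ π₁) (a₂ ≫ π₂) ht₁ ht₂ (by
    rw [Scheme.Hom.comp_apply, Scheme.Hom.comp_apply, pointOfClosedPoint_apply, pointOfClosedPoint_apply, h])
  let σ := τ₁ ≫ σ₁
  let π := pullback.fst p σ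
  let q := pullback.snd p σ
  have sq : IsPullback π q p σ := IsPullback.of_hasPullback _ _
  let ρ₁ : pullback p σ ⟶ X₁ := s₁.lift π (q ≫ τ₁) (by rw [Category.assoc]; exact sq.w)
  let ρ₂ : pullback p σ ⟶ X₂ := s₂.lift π (q ≫ τ₂) (by rw [Category.assoc, ← hσ]; exact sq.w)
  have r₁ : IsPullback ρ₁ q q₁ τ₁ :=
    IsPullback.of_right (by rw [s₁.lift_fst]; exact sq) (s₁.lift_snd _ _ _) s₁
  have r₂ : IsPullback ρ₂ q q₂ τ₂ :=
    IsPullback.of_right (by rw [s₂.lift_fst, ← hσ]; exact sq) (s₂.lift_snd _ _ _) s₂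
  let b : Spec (CommRingCat.of Ω) ⟶ pullback p σ :=
    sq.lift (τ₁ ≫ a₁ ≫ π₁) (𝟙 _) (by
      rw [Category.assoc, ht₁, Category.id_comp])
  have hb₁ : b ≫ ρ₁ = τ₁ ≫ a₁ := s₁.hom_ext
    (by rw [Category.assoc, s₁.lift_fst, sq.lift_fst, Category.assoc])
    (by rw [Category.assoc, s₁.lift_snd, sq.lift_snd_assoc, Category.id_comp, Category.assoc,
      pointOfClosedPoint_comp, Category.comp_id])
  have hb₂ : b ≫ ρ₂ = τ₂ ≫ a₂ := s₂.hom_ext
    (by rw [Category.assoc, s₂.lift_fst, sq.lift_fst, Category.assoc, ← hτ])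
    (by rw [Category.assoc, s₂.lift_snd, sq.lift_snd_assoc, Category.id_comp, Category.assoc,
      pointOfClosedPoint_comp, Category.comp_id])
  set z := b (closedPoint Ω) with hz
  have hz₁ : ρ₁ z = x₁ := by
    rw [hz, ← Scheme.Hom.comp_apply, hb₁, Scheme.Hom.comp_apply, pointOfClosedPoint_apply]
  have hz₂ : ρ₂ z = x₂ := by
    rw [hz, ← Scheme.Hom.comp_apply, hb₂, Scheme.Hom.comp_apply, pointOfClosedPoint_apply]
  have e₁ := hasNodePair_iff_of_isPullback q₁ q τ₁ ρ₁ r₁ z (by rw [hz₁]; exact hc₁)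
  have e₂ := hasNodePair_iff_of_isPullback q₂ q τ₂ ρ₂ r₂ z (by rw [hz₂]; exact hc₂)
  rw [hz₁] at e₁
  rw [hz₂] at e₂
  exact e₁.symm.trans e₂

end Groth.Agent.NodeLib
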