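import Groth.Agent.NodeLib.NodalEtale
import Groth.Agent.FibDim.LocDim
import Groth.Agent.VarDim.Fibre

/-!
# Curves over an algebraically closed field, tested at closed points
-/

set_option autoImplicit false
set_option linter.style.haveILetI false

universe u

open CategoryTheory CategoryTheory.Limits AlgebraicGeometry IsLocalRing

namespace Groth.Agent.NodeLib

theorem good_of_closed_points {k : Type u} [Field k] [IsAlgClosed k] {Y : Scheme.{u}}
    [Y.Over (Spec (CommRingCat.of k))] [LocallyOfFinitePresentation (Y ↘ Spec (CommRingCat.of k))]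
    (h : ∀ y : Y, IsClosed ({y} : Set Y) → ringKrullDim (Y.presheaf.stalk y) = 1 ∧
      (IsRegularLocalRing (Y.presheaf.stalk y) ∨ HasNodePair (Y.presheaf.stalk y))) :
    (∀ Z ∈ irreducibleComponents (Y : Type u), topologicalKrullDim Z = 1) ∧ Curv2.AtWorstNodal k Y := by
  haveI := LocallyOfFiniteType.isLocallyNoetherian (Y ↘ Spec (CommRingCat.of k))
  have hc : ∀ y : Y, IsClosed ({y} : Set Y) → DimFormula.codim y = 1 := fun y hy => by
    have := (DimFormula.ringKrullDim_stalk y).symm.trans (h y hy).1
    exact_mod_cast this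
  have hdim : topologicalKrullDim Y ≤ 1 := by
    rw [FibDim.topologicalKrullDim_eq_iSup_codim]
    refine iSup_le fun x => ?_
    obtain ⟨z, hxz, hz⟩ := VarDim.exists_closed_specialization (Y ↘ Spec (CommRingCat.of k)) x
    have h2 := DimFormula.codim_mono_add hxz
    rw [hc z hz] at h2
    have h3 : DimFormula.codim x ≤ 1 := by omega
    exact_mod_cast h3
  refine ⟨(components_iff (Y ↘ Spec (CommRingCat.of k))).mpr fun w hw => le_antisymm
    ((CharCycDim.dim_le_iff' (Y ↘ Spec (CommRingCat.of k)) 1).mp hdim w) ?_, ?_⟩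
  · obtain ⟨z, hwz, hz⟩ := VarDim.exists_closed_specialization (Y ↘ Spec (CommRingCat.of k)) w
    have hne : w ≠ z := fun e => by
      have h0 := DimFormula.codim_eq_zero_iff.mpr (fun v hv => hw v hv)
      rw [e, hc z hz] at h0
      exact one_ne_zero h0
    exact Nat.one_le_iff_ne_zero.mpr fun h0 => by
      have := FibDim.rd_lt (Y ↘ Spec (CommRingCat.of k)) hwz hne (Subsingleton.elim _ _)
      omega
  · refine atWorstNodal_of_smooth_or_node fun y hy => ?_
    rcases (h y hy).2 with hr | hn
    · exact .inl ((SmoothReg.mem_smoothLocus_iff_isRegularLocalRing _ y).mpr hr)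
    · exact .inr (isNode_of_hasNodePair hy (IsPullback.of_id_fst (f := Y ↘ Spec (CommRingCat.of k))) y (by simp) hn)

end Groth.Agent.NodeLib
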