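import Groth.Agent.NodeLib.RegTwo
import Groth.Agent.NodeLib.CritProps
import Groth.Agent.SmoothDim.Basic
import Mathlib

/-!
# A Jacobian–Hessian criterion for nodes

`Fin r` many equations `F` with invertible minor in the first `r` variables cut out a smooth surface;
`g` cuts out a curve on it which is smooth or nodal at a point exactly when a first derivative or the
Hessian along the surface does not vanish.
-/

set_option autoImplicit false
set_option linter.style.haveILetI false

universe u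

namespace Groth.Agent.NodeLib.Hess

open MvPolynomial IsLocalRing

section Deriv

variable {A : Type u} [CommRing A] {r : ℕ} (F : Fin r → MvPolynomial (Fin r ⊕ Fin 2) A)

/-- The Jacobian matrix in the bound variables. -/
noncomputable def jac : Matrix (Fin r) (Fin r) (MvPolynomial (Fin r ⊕ Fin 2) A) :=
  Matrix.of fun m l => pderiv (Sum.inl l) (F m)

noncomputable def minor : MvPolynomial (Fin r ⊕ Fin 2) A := (jac F).det

noncomputable def coef (i : Fin 2) : Fin r → MvPolynomial (Fin r ⊕ Fin 2) A :=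
  Matrix.mulVec (jac F).adjugate fun m => pderiv (Sum.inr i) (F m)

/-- The derivation along the surface, multiplied by the minor. -/
noncomputable def D (i : Fin 2) :
    Derivation A (MvPolynomial (Fin r ⊕ Fin 2) A) (MvPolynomial (Fin r ⊕ Fin 2) A) :=
  minor F • pderiv (Sum.inr i) - ∑ l, coef F i l • pderiv (Sum.inl l)

theorem D_apply (i : Fin 2) (p : MvPolynomial (Fin r ⊕ Fin 2) A) :
    D F i p = minor F * pderiv (Sum.inr i) p - ∑ l, coef F i l * pderiv (Sum.inl l) p := by
  classical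
  have h : ∀ s : Finset (Fin r), (∑ l ∈ s, coef F i l • pderiv (R := A) (σ := Fin r ⊕ Fin 2) (Sum.inl l)) p =
      ∑ l ∈ s, coef F i l * pderiv (Sum.inl l) p := fun s => by
    induction s using Finset.induction_on with
    | empty => simp
    | insert a s ha ih => rw [Finset.sum_insert ha, Finset.sum_insert ha, Derivation.add_apply, ih,
        Derivation.smul_apply, smul_eq_mul]
  rw [D, Derivation.sub_apply, h, Derivation.smul_apply, smul_eq_mul]

theorem D_F (i : Fin 2) (m : Fin r) : D F i (F m) = 0 := by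
  have h : Matrix.mulVec (jac F) (coef F i) = minor F • fun m => pderiv (Sum.inr i) (F m) := by
    rw [coef, Matrix.mulVec_mulVec, Matrix.mul_adjugate, Matrix.smul_mulVec, Matrix.one_mulVec]
    rfl
  have h2 := congrFun h m
  simp only [Matrix.mulVec, dotProduct, jac, Matrix.of_apply, Pi.smul_apply, smul_eq_mul] at h2
  rw [D_apply, ← h2, sub_eq_zero]
  exact Finset.sum_congr rfl fun l _ => mul_comm _ _

theorem D_X (i j : Fin 2) : D F i (X (Sum.inr j)) = if i = j then minor F else 0 := by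
  classical
  rw [D_apply]
  simp [pderiv_X, Pi.single_apply, Sum.inr.injEq, eq_comm]

theorem D_mem_span {i : Fin 2} {p : MvPolynomial (Fin r ⊕ Fin 2) A}
    (hp : p ∈ Ideal.span (Set.range F)) : D F i p ∈ Ideal.span (Set.range F) := by
  induction hp using Submodule.span_induction with
  | mem w hw => obtain ⟨m, rfl⟩ := hw; rw [D_F]; exact zero_mem _
  | zero => simp
  | add w w' _ _ ih ih' => rw [map_add]; exact add_mem ih ih'
  | smul a w hw ih =>
    rw [smul_eq_mul, Derivation.leibniz, smul_eq_mul, smul_eq_mul]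
    exact add_mem (Ideal.mul_mem_left _ _ ih) (Ideal.mul_mem_right _ _ hw)

noncomputable def hess (g : MvPolynomial (Fin r ⊕ Fin 2) A) : MvPolynomial (Fin r ⊕ Fin 2) A :=
  (Matrix.of fun i j : Fin 2 => D F i (D F j g)).det

variable {B : Type u} [CommRing B] (φ : A →+* B)

theorem jac_map : jac (fun m => map φ (F m)) = (MvPolynomial.map φ).mapMatrix (jac F) := by
  ext m l
  simp [jac, pderiv_map]

theorem minor_map : minor (fun m => map φ (F m)) = map φ (minor F) := by
  rw [minor, jac_map, ← RingHom.map_det, minor]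

theorem D_map (i : Fin 2) (p : MvPolynomial (Fin r ⊕ Fin 2) A) :
    D (fun m => map φ (F m)) i (map φ p) = map φ (D F i p) := by
  have hc : ∀ l, coef (fun m => map φ (F m)) i l = map φ (coef F i l) := fun l => by
    rw [coef, jac_map, ← RingHom.map_adjugate]
    simp only [coef, Matrix.mulVec, dotProduct,
      RingHom.mapMatrix_apply, Matrix.map_apply, pderiv_map, map_sum, map_mul]
  simp only [D_apply, minor_map, hc, pderiv_map, map_sub, map_mul, map_sum]

theorem hess_map (g : MvPolynomial (Fin r ⊕ Fin 2) A) :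
    hess (fun m => map φ (F m)) (map φ g) = map φ (hess F g) := by
  simp only [hess, Matrix.det_fin_two, Matrix.of_apply, D_map, map_sub, map_mul]

end Deriv

theorem derivation_mem_pow {A P : Type u} [CommRing A] [CommRing P] [Algebra A P]
    (E : Derivation A P P) (I : Ideal P) : ∀ (n : ℕ) (p : P), p ∈ I ^ (n + 1) → E p ∈ I ^ n := by
  intro n
  induction n with
  | zero => intro p _; simp
  | succ n ih =>
    intro p hp
    rw [pow_succ] at hp
    refine Submodule.mul_induction_on hp (fun a ha b hb => ?_) (fun a b ha hb => ?_)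
    · rw [Derivation.leibniz, smul_eq_mul, smul_eq_mul]
      refine add_mem (Ideal.mul_mem_right _ _ ha) ?_
      rw [mul_comm, pow_succ]
      exact Ideal.mul_mem_mul (ih a ha) hb
    · rw [map_add]; exact add_mem ha hb

section Point

variable {k : Type u} [Field k] {r : ℕ} (F : Fin r → MvPolynomial (Fin r ⊕ Fin 2) k)
  (c : Fin r ⊕ Fin 2 → k)

/-- The ideal of the point. -/
noncomputable abbrev mc : Ideal (MvPolynomial (Fin r ⊕ Fin 2) k) := RingHom.ker (eval c)

instance : (mc c).IsMaximal :=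
  RingHom.ker_isMaximal_of_surjective _ fun a => ⟨C a, eval_C a⟩

theorem X_sub_mem (s : Fin r ⊕ Fin 2) : X s - C (c s) ∈ mc c := by simp [mc, RingHom.mem_ker]

theorem taylor (p : MvPolynomial (Fin r ⊕ Fin 2) k) :
    p - C (eval c p) - ∑ s, C (eval c (pderiv s p)) * (X s - C (c s)) ∈ mc c ^ 2 := by
  classical
  induction p using MvPolynomial.induction_on with
  | C a => simp
  | add p q hp hq =>
    convert add_mem hp hq using 1
    simp only [map_add, add_mul, Finset.sum_add_distrib]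
    ring
  | mul_X p s hp =>
    have h1 : (p - C (eval c p)) * (X s - C (c s)) ∈ mc c ^ 2 := by
      rw [pow_two]
      exact Ideal.mul_mem_mul (by simp [mc, RingHom.mem_ker]) (X_sub_mem c s)
    convert add_mem h1 (Ideal.mul_mem_left _ (C (c s)) hp) using 1
    have : ∀ t, C (eval c (pderiv t (p * X s))) * (X t - C (c t)) =
        C (c s) * (C (eval c (pderiv t p)) * (X t - C (c t))) +
          (if t = s then C (eval c p) * (X s - C (c s)) else 0) := fun t => by
      rw [Derivation.leibniz, pderiv_X, Pi.single_apply]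
      by_cases h : t = s
      · subst h; simp; ring
      · simp [h, Ne.symm h]; ring
    rw [Finset.sum_congr rfl fun t _ => this t, Finset.sum_add_distrib, Finset.sum_ite_eq',
      ← Finset.mul_sum, map_mul, eval_X, map_mul]
    simp
    ring

variable (hF : ∀ m, eval c (F m) = 0) (hM : eval c (minor F) ≠ 0)

/-- The free coordinates. -/
noncomputable abbrev tv (i : Fin 2) : MvPolynomial (Fin r ⊕ Fin 2) k := X (Sum.inr i) - C (c (Sum.inr i))

noncomputable abbrev IF : Ideal (MvPolynomial (Fin r ⊕ Fin 2) k) := Ideal.span (Set.range F)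

include hF in
theorem IF_le : IF F ≤ mc c := Ideal.span_le.mpr (by rintro _ ⟨m, rfl⟩; exact hF m)

include hF hM in
theorem mc_le : mc c ≤ Ideal.span {tv c 0, tv c 1} ⊔ IF F ⊔ mc c ^ 2 := by
  classical
  set T := Ideal.span {tv c 0, tv c 1} ⊔ IF F ⊔ mc c ^ 2 with hT
  have ht : ∀ i, tv c i ∈ T := fun i => Ideal.mem_sup_left (Ideal.mem_sup_left (Ideal.subset_span (by fin_cases i <;> simp)))
  have hb : ∀ l, X (Sum.inl l) - C (c (Sum.inl l)) ∈ T := by
    intro l
    let Jc : Matrix (Fin r) (Fin r) k := (eval c).mapMatrix (jac F)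
    have hu : IsUnit Jc.det := by
      rw [← RingHom.map_det]; exact isUnit_iff_ne_zero.mpr hM
    have hrow : ∀ m, ∑ l, C (Jc m l) * (X (Sum.inl l) - C (c (Sum.inl l))) ∈ T := fun m => by
      have h1 := taylor c (F m)
      rw [hF m, map_zero, sub_zero, Fintype.sum_sum_type] at h1
      have h2 : ∑ i : Fin 2, C (eval c (pderiv (Sum.inr i) (F m))) * (X (Sum.inr i) - C (c (Sum.inr i))) ∈ T :=
        Ideal.sum_mem _ fun i _ => Ideal.mul_mem_left _ _ (ht i)
      have h3 : F m ∈ T := Ideal.mem_sup_left (Ideal.mem_sup_right (Ideal.subset_span ⟨m, rfl⟩))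
      have := sub_mem h3 (add_mem h2 (Ideal.mem_sup_right h1))
      convert this using 1
      simp only [Jc, jac, RingHom.mapMatrix_apply, Matrix.map_apply, Matrix.of_apply]
      ring
    have key : (X (Sum.inl l) - C (c (Sum.inl l)) : MvPolynomial (Fin r ⊕ Fin 2) k) =
        ∑ m, C (Jc⁻¹ l m) * ∑ l', C (Jc m l') * (X (Sum.inl l') - C (c (Sum.inl l'))) := by
      simp only [Finset.mul_sum]
      rw [Finset.sum_comm]
      simp only [← mul_assoc, ← Finset.sum_mul, ← map_mul, ← map_sum]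
      have : ∀ l', ∑ m, Jc⁻¹ l m * Jc m l' = if l = l' then 1 else 0 := fun l' => by
        rw [← Matrix.mul_apply, Matrix.nonsing_inv_mul _ hu, Matrix.one_apply]
      simp [this, apply_ite (C : k → MvPolynomial (Fin r ⊕ Fin 2) k)]
    rw [key]
    exact Ideal.sum_mem _ fun m _ => Ideal.mul_mem_left _ _ (hrow m)
  intro p hp
  have h1 := taylor c p
  rw [show eval c p = 0 from hp, map_zero, sub_zero] at h1
  have h2 : ∑ s, C (eval c (pderiv s p)) * (X s - C (c s)) ∈ T :=
    Ideal.sum_mem _ fun s _ => Ideal.mul_mem_left _ _ (by rcases s with l | i; exacts [hb l, ht i])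
  have := add_mem (Ideal.mem_sup_right h1 : _ ∈ T) h2
  rwa [sub_add_cancel] at this

include hF hM in
theorem mc_sq_le : mc c ^ 2 ≤ Ideal.span {tv c 0 * tv c 0, tv c 0 * tv c 1, tv c 1 * tv c 1} ⊔ IF F ⊔ mc c ^ 3 := by
  set S := Ideal.span {tv c 0, tv c 1} with hS
  have hS2 : S * S ≤ Ideal.span {tv c 0 * tv c 0, tv c 0 * tv c 1, tv c 1 * tv c 1} := by
    rw [hS, Ideal.span_pair_mul_span_pair, Ideal.span_le]
    rintro z (rfl | rfl | rfl | rfl)
    · exact Ideal.subset_span (by simp)
    · exact Ideal.subset_span (by simp)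
    · exact Ideal.subset_span (by simp [mul_comm (tv c 1) (tv c 0)])
    · exact Ideal.subset_span (by simp)
  have hSm : S ≤ mc c := Ideal.span_le.mpr (by rintro z (rfl | rfl) <;> exact X_sub_mem c _)
  have h := mc_le F c hF hM
  calc mc c ^ 2 = mc c * mc c := pow_two _
    _ ≤ (S ⊔ IF F ⊔ mc c ^ 2) * mc c := Ideal.mul_mono_left h
    _ = S * mc c ⊔ IF F * mc c ⊔ mc c ^ 3 := by rw [Ideal.sup_mul, Ideal.sup_mul, ← pow_succ]
    _ ≤ _ := by
      refine sup_le (sup_le ?_ (Ideal.mul_le_left.trans ?_)) le_sup_right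
      · refine (Ideal.mul_mono_right h).trans ?_
        rw [Ideal.mul_sup, Ideal.mul_sup]
        refine sup_le (sup_le (hS2.trans (le_sup_left.trans le_sup_left))
          (Ideal.mul_le_right.trans (le_sup_right.trans le_sup_left))) ?_
        refine (Ideal.mul_mono_left hSm).trans ?_
        rw [← pow_succ']
        exact le_sup_right
      · exact le_sup_right.trans le_sup_left

theorem eval_D_eq_zero {i : Fin 2} {p : MvPolynomial (Fin r ⊕ Fin 2) k}
    (hF : ∀ m, eval c (F m) = 0) (hp : p ∈ IF F ⊔ mc c ^ 2) : eval c (D F i p) = 0 := by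
  obtain ⟨a, ha, b, hb, rfl⟩ := Submodule.mem_sup.mp hp
  rw [map_add, map_add, show eval c (D F i a) = 0 from IF_le F c hF (D_mem_span F ha),
    show eval c (D F i b) = 0 by simpa [mc, RingHom.mem_ker] using derivation_mem_pow (D F i) (mc c) 1 b hb,
    add_zero]

theorem eval_DD_eq_zero {i j : Fin 2} {p : MvPolynomial (Fin r ⊕ Fin 2) k}
    (hF : ∀ m, eval c (F m) = 0) (hp : p ∈ IF F ⊔ mc c ^ 3) : eval c (D F i (D F j p)) = 0 := by
  refine eval_D_eq_zero F c hF ?_
  obtain ⟨a, ha, b, hb, rfl⟩ := Submodule.mem_sup.mp hp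
  rw [map_add]
  exact add_mem (Ideal.mem_sup_left (D_mem_span F ha))
    (Ideal.mem_sup_right (derivation_mem_pow (D F j) (mc c) 2 b hb))

theorem D_tv (i j : Fin 2) : D F i (tv c j) = if i = j then minor F else 0 := by
  rw [map_sub, D_X, show D F i (C (c (Sum.inr j))) = 0 from (D F i).map_algebraMap _, sub_zero]

theorem eval_D_mul {i : Fin 2} (a b : MvPolynomial (Fin r ⊕ Fin 2) k) :
    eval c (D F i (a * b)) = eval c a * eval c (D F i b) + eval c b * eval c (D F i a) := by
  rw [Derivation.leibniz, smul_eq_mul, smul_eq_mul, map_add, map_mul, map_mul]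

include hF hM in
/-- Linear part. -/
theorem exists_linear {g : MvPolynomial (Fin r ⊕ Fin 2) k} (hg : eval c g = 0) :
    ∃ α : Fin 2 → k, g - (C (α 0) * tv c 0 + C (α 1) * tv c 1) ∈ IF F ⊔ mc c ^ 2 ∧
      ∀ i, eval c (D F i g) = α i * eval c (minor F) := by
  classical
  have hd : g ∈ Ideal.span {tv c 0, tv c 1} ⊔ (IF F ⊔ mc c ^ 2) := by
    rw [← sup_assoc]; exact mc_le F c hF hM hg
  obtain ⟨z, hz, w, hw, e⟩ := Submodule.mem_sup.mp hd
  obtain ⟨a, b, rfl⟩ := Ideal.mem_span_pair.mp hz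
  refine ⟨![eval c a, eval c b], ?_, fun i => ?_⟩
  · have hA : ∀ p : MvPolynomial (Fin r ⊕ Fin 2) k, ∀ j, (p - C (eval c p)) * tv c j ∈ mc c ^ 2 := fun p j => by
      rw [pow_two]; exact Ideal.mul_mem_mul (by simp [mc, RingHom.mem_ker]) (X_sub_mem c _)
    have := add_mem hw (Ideal.mem_sup_right (add_mem (hA a 0) (hA b 1)) : _ ∈ IF F ⊔ mc c ^ 2)
    convert this using 1
    rw [← e]; simp; ring
  · rw [← e, map_add, map_add, map_add, map_add, eval_D_eq_zero F c hF hw, eval_D_mul, eval_D_mul,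
      D_tv, D_tv]
    fin_cases i <;> simp [tv]

include hF hM in
/-- Quadratic part at a singular point. -/
theorem exists_quadratic {g : MvPolynomial (Fin r ⊕ Fin 2) k} (hg : eval c g = 0)
    (hD : ∀ i, eval c (D F i g) = 0) :
    ∃ a b e : k, g - (C a * (tv c 0 * tv c 0) + C b * (tv c 0 * tv c 1) + C e * (tv c 1 * tv c 1)) ∈ IF F ⊔ mc c ^ 3 ∧
      eval c (hess F g) = eval c (minor F) ^ 4 * (4 * a * e - b ^ 2) := by
  classical
  obtain ⟨α, hα, hαD⟩ := exists_linear F c hF hM hg
  have hα0 : ∀ i, α i = 0 := fun i => by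
    simpa [hM] using (hαD i).symm.trans (hD i)
  simp only [hα0, map_zero, zero_mul, add_zero, sub_zero] at hα
  have hd : g ∈ Ideal.span {tv c 0 * tv c 0, tv c 0 * tv c 1, tv c 1 * tv c 1} ⊔ (IF F ⊔ mc c ^ 3) := by
    rw [← sup_assoc]
    exact (sup_le (le_sup_right.trans le_sup_left) (mc_sq_le F c hF hM)) hα
  obtain ⟨z, hz, w, hw, e'⟩ := Submodule.mem_sup.mp hd
  rw [Ideal.span_insert, Ideal.span_insert, Submodule.mem_sup] at hz
  obtain ⟨z0, hz0, z1, hz1, rfl⟩ := hz
  obtain ⟨z2, hz2, z3, hz3, rfl⟩ := Submodule.mem_sup.mp hz1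
  obtain ⟨a, rfl⟩ := Ideal.mem_span_singleton'.mp hz0
  obtain ⟨b, rfl⟩ := Ideal.mem_span_singleton'.mp hz2
  obtain ⟨d, rfl⟩ := Ideal.mem_span_singleton'.mp hz3
  have hw' : g - (C (eval c a) * (tv c 0 * tv c 0) + C (eval c b) * (tv c 0 * tv c 1) +
      C (eval c d) * (tv c 1 * tv c 1)) ∈ IF F ⊔ mc c ^ 3 := by
    have hA : ∀ p : MvPolynomial (Fin r ⊕ Fin 2) k, ∀ i j, (p - C (eval c p)) * (tv c i * tv c j) ∈ mc c ^ 3 :=
      fun p i j => by
        rw [pow_succ']
        exact Ideal.mul_mem_mul (by simp [mc, RingHom.mem_ker])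
          (by rw [pow_two]; exact Ideal.mul_mem_mul (X_sub_mem c _) (X_sub_mem c _))
    have := add_mem hw (Ideal.mem_sup_right (add_mem (add_mem (hA a 0 0) (hA b 0 1)) (hA d 1 1)) : _ ∈ IF F ⊔ mc c ^ 3)
    convert this using 1
    rw [← e']; ring
  refine ⟨_, _, _, hw', ?_⟩
  have hC : ∀ (i : Fin 2) (x : k), D F i (C x) = 0 := fun i x => (D F i).map_algebraMap x
  have key : ∀ i j, eval c (D F i (D F j g)) = eval c (D F i (D F j (C (eval c a) * (tv c 0 * tv c 0) +
      C (eval c b) * (tv c 0 * tv c 1) + C (eval c d) * (tv c 1 * tv c 1)))) := fun i j => by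
    rw [← sub_eq_zero, ← map_sub, ← map_sub, ← map_sub]
    exact eval_DD_eq_zero F c hF hw'
  have ht : ∀ i, eval c (tv c i) = 0 := fun i => X_sub_mem c _
  simp only [hess, Matrix.det_fin_two, Matrix.of_apply, map_sub, map_mul, key]
  simp only [map_add, Derivation.leibniz, smul_eq_mul, hC, mul_zero, add_zero, D_tv]
  simp [ht]
  ring

end Point

section Local

variable {k : Type u} [Field k] {r : ℕ} {F : Fin r → MvPolynomial (Fin r ⊕ Fin 2) k}
  {c : Fin r ⊕ Fin 2 → k}

variable {O : Type u} [CommRing O] [IsLocalRing O]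

/-- `ψ` exhibits `O` as a local ring of the surface at the point. -/
structure IsSurf (F : Fin r → MvPolynomial (Fin r ⊕ Fin 2) k) (c : Fin r ⊕ Fin 2 → k)
    (ψ : MvPolynomial (Fin r ⊕ Fin 2) k →+* O) : Prop where
  map_mc : (mc c).map ψ = maximalIdeal O
  map_F : ∀ m, ψ (F m) = 0
  dim : (2 : WithBot ℕ∞) ≤ ringKrullDim O

theorem isLocalRing_quot_map {R : Type u} [CommRing R] {p : Ideal R} [p.IsPrime] {I : Ideal R} (h : I ≤ p) :
    IsLocalRing (Localization.AtPrime p ⧸ I.map (algebraMap R (Localization.AtPrime p))) :=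
  haveI : Nontrivial (Localization.AtPrime p ⧸ I.map (algebraMap R (Localization.AtPrime p))) :=
    Ideal.Quotient.nontrivial_iff.mpr (ne_top_of_le_ne_top (maximalIdeal.isMaximal _).ne_top
      ((Ideal.map_mono h).trans (Localization.AtPrime.map_eq_maximalIdeal (I := p)).le))
  IsLocalRing.of_surjective' (Ideal.Quotient.mk _) Ideal.Quotient.mk_surjective

variable {ψ : MvPolynomial (Fin r ⊕ Fin 2) k →+* O} (hS : IsSurf F c ψ)
include hS

theorem toSurf_IF {p : MvPolynomial (Fin r ⊕ Fin 2) k} (hp : p ∈ IF F) : ψ p = 0 := by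
  have : IF F ≤ RingHom.ker ψ := Ideal.span_le.mpr (by rintro _ ⟨m, rfl⟩; exact hS.map_F m)
  exact this hp

theorem toSurf_mem {n : ℕ} {p : MvPolynomial (Fin r ⊕ Fin 2) k}
    (hp : p ∈ IF F ⊔ mc c ^ n) : ψ p ∈ maximalIdeal O ^ n := by
  obtain ⟨a, ha, b, hb, rfl⟩ := Submodule.mem_sup.mp hp
  rw [map_add, toSurf_IF hS ha, zero_add, ← hS.map_mc, ← Ideal.map_pow]
  exact Ideal.mem_map_of_mem _ hb

omit hS in
theorem toSurf_C_mem {x : k} (hx : ψ (C x) ∈ maximalIdeal (O)) :
    x = 0 := by
  by_contra hne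
  exact (mem_maximalIdeal _).mp hx (((isUnit_iff_ne_zero.mpr hne).map C).map ψ)

variable [IsNoetherianRing O] (hF : ∀ m, eval c (F m) = 0) (hM : eval c (minor F) ≠ 0)
include hF hM

theorem isParamPair :
    IsParamPair (ψ (tv c 0)) (ψ (tv c 1)) := by
  have hle : maximalIdeal (O) ≤ Ideal.span {ψ (tv c 0), ψ (tv c 1)} := by
    refine Submodule.le_of_le_smul_of_le_jacobson_bot (I := maximalIdeal (O))
      (IsNoetherian.noetherian _) (IsLocalRing.maximalIdeal_le_jacobson _) ?_
    rw [smul_eq_mul, ← pow_two]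
    conv_lhs => rw [← hS.map_mc]
    refine Ideal.map_le_iff_le_comap.mpr ((mc_le F c hF hM).trans (sup_le (sup_le ?_ ?_) ?_))
    · rw [Ideal.span_le]
      rintro z (rfl | rfl)
      · exact Ideal.mem_sup_left (Ideal.subset_span (by simp))
      · exact Ideal.mem_sup_left (Ideal.subset_span (by simp))
    · intro p hp; rw [Ideal.mem_comap, toSurf_IF hS hp]; exact zero_mem _
    · intro p hp; exact Ideal.mem_sup_right (toSurf_mem hS (Ideal.mem_sup_right hp))
  refine ⟨le_antisymm hle (Ideal.span_le.mpr ?_), ?_⟩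
  · rintro z (rfl | rfl) <;> (rw [← hS.map_mc]; exact Ideal.mem_map_of_mem _ (X_sub_mem c _))
  · exact hS.dim

variable {g : MvPolynomial (Fin r ⊕ Fin 2) k} (hg : eval c g = 0)
include hg

theorem toSurf_g_mem : ψ g ∈ maximalIdeal (O) := by
  rw [← hS.map_mc]; exact Ideal.mem_map_of_mem _ hg

theorem notMem_sq {i : Fin 2} (hi : eval c (D F i g) ≠ 0) :
    ψ g ∉ maximalIdeal (O) ^ 2 := by
  intro hg2
  obtain ⟨α, hα, hαD⟩ := exists_linear F c hF hM hg
  have h1 := sub_mem hg2 (toSurf_mem hS hα)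
  rw [map_sub, sub_sub_cancel, map_add, map_mul, map_mul] at h1
  obtain ⟨h0, h1'⟩ := (isParamPair hS hF hM).coeff_one h1
  apply hi
  rw [hαD i]
  fin_cases i
  · rw [show α ((fun i => i) ⟨0, by omega⟩) = α 0 from rfl, toSurf_C_mem (ψ := ψ) h0, zero_mul]
  · rw [show α ((fun i => i) ⟨1, by omega⟩) = α 1 from rfl, toSurf_C_mem (ψ := ψ) h1', zero_mul]

/-- Where a derivative or the Hessian is nonzero, the curve is smooth or nodal. -/
theorem regular_or_hasNodePair [IsAlgClosed k]
    [IsLocalRing (O ⧸ Ideal.span {ψ g})]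
    (hgood : (∃ i, eval c (D F i g) ≠ 0) ∨ eval c (hess F g) ≠ 0) :
    ψ g ≠ 0 ∧ (IsRegularLocalRing (O ⧸ Ideal.span {ψ g}) ∨
      HasNodePair (O ⧸ Ideal.span {ψ g})) := by
  have hp := isParamPair hS hF hM
  by_cases hd : ∃ i, eval c (D F i g) ≠ 0
  · obtain ⟨i, hi⟩ := hd
    have h2 := notMem_sq hS hF hM hg hi
    exact ⟨fun h0 => h2 (by rw [h0]; exact zero_mem _), .inl (hp.isRegularLocalRing_quot (toSurf_g_mem hS hF hM hg) h2)⟩
  push Not at hd
  obtain ⟨a, b, e, hq, hh⟩ := exists_quadratic F c hF hM hg hd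
  have hne : 4 * a * e - b ^ 2 ≠ 0 := by
    have := hgood.resolve_left (by push Not; exact hd)
    rw [hh] at this
    exact right_ne_zero_of_mul this
  obtain ⟨p₁, p₂, q₁, q₂, -, -, ea, eb, ee⟩ := exists_split a b e (by
    by_contra hall; push Not at hall; obtain ⟨rfl, rfl, rfl⟩ := hall; simp at hne)
  have hdet : p₁ * q₂ - p₂ * q₁ ≠ 0 := fun h0 => hne (by
    rw [← ea, ← eb, ← ee]; linear_combination (-(p₁ * q₂ - p₂ * q₁)) * h0)
  set u := ψ (tv c 0)
  set v := ψ (tv c 1)
  let κ : k →+* O := ψ.comp C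
  set U := κ p₁ * u + κ p₂ * v with hU
  set V := κ q₁ * u + κ q₂ * v with hV
  have hUV : IsParamPair U V := by
    refine ⟨?_, hp.2⟩
    rw [hp.1]
    refine le_antisymm (Ideal.span_le.mpr ?_) (Ideal.span_le.mpr ?_)
    · have hu : IsUnit (κ (p₁ * q₂ - p₂ * q₁)) := (isUnit_iff_ne_zero.mpr hdet).map κ
      rintro z (rfl | rfl)
      · refine (Ideal.unit_mul_mem_iff_mem _ hu).mp (Ideal.mem_span_pair.mpr ⟨κ q₂, -κ p₂, ?_⟩)
        simp only [hU, hV, map_sub, map_mul]; ring
      · refine (Ideal.unit_mul_mem_iff_mem _ hu).mp (Ideal.mem_span_pair.mpr ⟨-κ q₁, κ p₁, ?_⟩)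
        simp only [hU, hV, map_sub, map_mul]; ring
    · rintro z (rfl | rfl) <;> exact Ideal.mem_span_pair.mpr ⟨_, _, rfl⟩
  have hg3 : ψ g - U * V ∈ maximalIdeal (O) ^ 3 := by
    have h3 := toSurf_mem hS hq
    rw [← ea, ← eb, ← ee] at h3
    convert h3 using 1
    simp only [hU, hV, κ, u, v, RingHom.comp_apply, map_sub, map_add, map_mul]
    ring
  refine ⟨fun h0 => ?_, .inr (hUV.hasNodePair_quot hg3)⟩
  rw [h0, zero_sub, neg_mem_iff] at hg3
  have h1 := hUV.coeff_two (a := 0) (b := 1) (c := 0) (by simpa using hg3)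
  exact (mem_maximalIdeal _).mp h1.2.1 isUnit_one

/-- At a node the Hessian is nonzero. -/
theorem hess_ne_zero [IsLocalRing (O ⧸ Ideal.span {ψ g})]
    (hN : HasNodePair (O ⧸ Ideal.span {ψ g})) :
    (∀ i, eval c (D F i g) = 0) ∧ eval c (hess F g) ≠ 0 := by
  have hp := isParamPair hS hF hM
  have hd : ∀ i, eval c (D F i g) = 0 := by
    intro i
    by_contra hi
    have h2 := notMem_sq hS hF hM hg hi
    haveI := hp.isRegularLocalRing_quot (toSurf_g_mem hS hF hM hg) h2
    haveI := hp.isRegularLocalRing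
    haveI := RegLoc6.isDomain_of_isRegularLocalRing (O)
    have hg0 : ψ g ≠ 0 := fun h0 => h2 (by rw [h0]; exact zero_mem _)
    refine not_hasNodePair_of_regular ?_ hN
    have h1 := ringKrullDim_quotient_succ_le_of_nonZeroDivisor (mem_nonZeroDivisors_of_ne_zero hg0)
    have h3 : ringKrullDim (O) ≤ 2 := by
      rw [← IsRegularLocalRing.spanFinrank_maximalIdeal (R := O)]
      exact_mod_cast (by
        rw [hp.1]
        exact (Submodule.spanFinrank_span_le_ncard_of_finite (Set.toFinite _)).trans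
          ((Set.ncard_insert_le _ _).trans (by simp)) : (maximalIdeal (O)).spanFinrank ≤ 2)
    have h4 := h1.trans h3
    generalize ringKrullDim (O ⧸ Ideal.span {ψ g}) = q at h4 ⊢
    induction q using WithBot.recBotCoe with
    | bot => exact bot_le
    | coe d =>
      induction d using ENat.recTopCoe with
      | top => exact absurd h4 (by intro h; exact absurd (WithBot.coe_le_coe.mp (show ((⊤ + 1 : ℕ∞) : WithBot ℕ∞) ≤ ((2 : ℕ∞) : WithBot ℕ∞) from h)) (by simp))
      | coe d =>
        have h5 : d + 1 ≤ 2 := by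
          have := WithBot.coe_le_coe.mp (show (((d + 1 : ℕ) : ℕ∞) : WithBot ℕ∞) ≤ (((2 : ℕ) : ℕ∞) : WithBot ℕ∞) by simpa using h4)
          exact_mod_cast this
        exact_mod_cast (show d ≤ 1 by omega)
  refine ⟨hd, ?_⟩
  obtain ⟨a, b, e, hq, hh⟩ := exists_quadratic F c hF hM hg hd
  let κ : k →+* O := ψ.comp C
  have h3 := toSurf_mem hS hq
  have hu := hp.isUnit_disc (g := ψ g) (a := κ a) (b := κ b) (c := κ e) (by
    convert h3 using 1
    simp only [κ, RingHom.comp_apply, map_sub, map_add, map_mul]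
    ring) hN
  rw [hh]
  refine mul_ne_zero (pow_ne_zero _ hM) fun h0 => ?_
  have : κ b ^ 2 - 4 * κ a * κ e = κ (-(4 * a * e - b ^ 2)) := by
    simp only [map_neg, map_sub, map_mul, map_pow, map_ofNat]; ring
  rw [this, h0, neg_zero, map_zero] at hu
  exact not_isUnit_zero hu

end Local

/-- The quotient of the localization by the equations is a local ring of the surface. -/
theorem isSurf_quot {k : Type u} [Field k] {r : ℕ} {F : Fin r → MvPolynomial (Fin r ⊕ Fin 2) k}
    {c : Fin r ⊕ Fin 2 → k} (hF : ∀ m, eval c (F m) = 0) :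
    haveI := isLocalRing_quot_map (IF_le F c hF)
    IsSurf (O := Localization.AtPrime (mc c) ⧸ (IF F).map (algebraMap (MvPolynomial (Fin r ⊕ Fin 2) k) (Localization.AtPrime (mc c)))) F c
      ((Ideal.Quotient.mk _).comp (algebraMap (MvPolynomial (Fin r ⊕ Fin 2) k) (Localization.AtPrime (mc c)))) := by
  haveI := isLocalRing_quot_map (IF_le F c hF)
  refine ⟨?_, fun m => Ideal.Quotient.eq_zero_iff_mem.mpr (Ideal.mem_map_of_mem _ (Ideal.subset_span ⟨m, rfl⟩)), ?_⟩
  · rw [← Ideal.map_map, Localization.AtPrime.map_eq_maximalIdeal,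
      map_maximalIdeal_of_surjective _ Ideal.Quotient.mk_surjective]
  classical
  let e := renameEquiv k (finSumFinEquiv (m := r) (n := 2))
  have hh : (mc c).height = ((r + 2 : ℕ) : ℕ∞) := by
    haveI := Ideal.map_isMaximal_of_equiv e (p := mc c)
    rw [← RingEquiv.height_map e.toRingEquiv (mc c)]
    exact (PrimeSpectrum.height_eq_orderHeight ⟨(mc c).map e, inferInstance⟩).trans
      (SmoothDim.height_maximal_mvPolynomial k (r + 2) ⟨(mc c).map e, inferInstance⟩ inferInstance)
  have hL : ringKrullDim (Localization.AtPrime (mc c)) = ((r + 2 : ℕ) : WithBot ℕ∞) := by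
    rw [IsLocalization.AtPrime.ringKrullDim_eq_height (mc c), hh]; rfl
  let s := Finset.univ.image fun m => algebraMap _ (Localization.AtPrime (mc c)) (F m)
  have hs : Ideal.span (s : Set (Localization.AtPrime (mc c))) = (IF F).map (algebraMap _ _) := by
    rw [Ideal.map_span, ← Set.range_comp]; simp [s]; rfl
  have h1 := ringKrullDim_le_ringKrullDim_quotient_add_card (R := Localization.AtPrime (mc c)) (s := s)
    (by
      rw [IsLocalRing.ringJacobson_eq_maximalIdeal, ← Ideal.span_le, hs,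
        ← Localization.AtPrime.map_eq_maximalIdeal]
      exact Ideal.map_mono (IF_le F c hF))
  rw [hs, hL] at h1
  have hcard : (s.card : ℕ∞) ≤ (r : ℕ∞) := by exact_mod_cast (Finset.card_image_le.trans (by simp) : s.card ≤ r)
  generalize ringKrullDim (Localization.AtPrime (mc c) ⧸ (IF F).map (algebraMap _ (Localization.AtPrime (mc c)))) = q at h1 ⊢
  induction q using WithBot.recBotCoe with
  | bot => simp at h1
  | coe d =>
    induction d using ENat.recTopCoe with
    | top => exact WithBot.coe_le_coe.mpr (le_top : (2 : ℕ∞) ≤ ⊤)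
    | coe d =>
      have h2 : ((r + 2 : ℕ) : ℕ∞) ≤ (d : ℕ∞) + (r : ℕ∞) :=
        (WithBot.coe_le_coe.mp (show (((r + 2 : ℕ) : ℕ∞) : WithBot ℕ∞) ≤ (((d : ℕ∞) + (s.card : ℕ∞) : ℕ∞) : WithBot ℕ∞) from h1)).trans
          (add_le_add le_rfl hcard)
      have h3 : r + 2 ≤ d + r := by exact_mod_cast h2
      exact WithBot.coe_le_coe.mpr (show ((2 : ℕ) : ℕ∞) ≤ (d : ℕ∞) by exact_mod_cast (show 2 ≤ d by omega))


end Groth.Agent.NodeLib.Hess
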