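import Groth.Agent.NodeLib.Geom
import Groth.Agent.S2155
import Groth.Agent.SmoothReg.Scheme
import Groth.Agent.CurveCohLib.SubBundle
import Groth.Agent.DimOne.Basic
import Groth.Agent.VarGeom.Normal
import Groth.Agent.S16428
import Groth.Agent.CharCycDim.FibreDims
import Mathlib

/-!
# Nodes in terms of node pairs over algebraically closed fields

`Curv2.IsNode k X x` holds iff `x` is closed and some (equivalently every) point over `x` in a base
change to an algebraically closed field has a node pair; node points lie over closed points; the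
dimensions of the components are stable under extension of the base field.
-/

set_option autoImplicit false
set_option linter.style.haveILetI false
set_option backward.isDefEq.respectTransparency false
set_option backward.isDefEq.respectTransparency.types false

universe u

open CategoryTheory CategoryTheory.Limits AlgebraicGeometry IsLocalRing

namespace Groth.Agent.NodeLib

section AlgClosed

variable {K : Type u} [Field K] [IsAlgClosed K] {X : Scheme.{u}} (q : X ⟶ Spec (CommRingCat.of K))
  [LocallyOfFiniteType q]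

include q in
theorem isNoetherianRing_stalk_of_lft (x : X) : IsNoetherianRing (X.presheaf.stalk x) :=
  haveI := LocallyOfFiniteType.isLocallyNoetherian q
  inferInstance

theorem isOrdDoublePt_stalk_iff {x : X} (hx : IsClosed ({x} : Set X)) :
    letI : X.Over (Spec (CommRingCat.of K)) := ⟨q⟩
    letI := Curv2.stalkAlgebra K X x
    Curv2.IsOrdDoublePt K (X.presheaf.stalk x) ↔ HasNodePair (X.presheaf.stalk x) := by
  letI : X.Over (Spec (CommRingCat.of K)) := ⟨q⟩
  haveI : LocallyOfFiniteType (X ↘ Spec (CommRingCat.of K)) := ‹LocallyOfFiniteType q›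
  haveI := isNoetherianRing_stalk_of_lft q x
  letI := Curv2.stalkAlgebra K X x
  exact isOrdDoublePt_iff (fun a => CurveSection.exists_stalkMap_sub_mem K hx a)

include q in
theorem isReduced_stalk_of_hasNodePair {x : X} (hx : IsClosed ({x} : Set X))
    (h : HasNodePair (X.presheaf.stalk x)) : IsReduced (X.presheaf.stalk x) := by
  letI : X.Over (Spec (CommRingCat.of K)) := ⟨q⟩
  haveI := isNoetherianRing_stalk_of_lft q x
  letI := Curv2.stalkAlgebra K X x
  exact isReduced_of_isOrdDoublePt ((isOrdDoublePt_stalk_iff q hx).mpr h)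

theorem notMem_smoothLocus_of_hasNodePair [LocallyOfFinitePresentation q]
    (hdim : topologicalKrullDim X ≤ 1) {x : X} (h : HasNodePair (X.presheaf.stalk x)) :
    x ∉ q.smoothLocus := fun hs => by
  haveI := SmoothReg.isRegularLocalRing_stalk_of_mem_smoothLocus q hs
  exact not_hasNodePair_of_regular ((CurveCohLib.ringKrullDim_stalk_le_topologicalKrullDim x).trans hdim) h

end AlgClosed

theorem isReduced_stalk_of_specializes {X : Scheme.{u}} {x y : X} (h : y ⤳ x)
    [IsReduced (X.presheaf.stalk x)] : IsReduced (X.presheaf.stalk y) := by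
  letI := (X.presheaf.stalkSpecializes h).hom.toAlgebra
  obtain ⟨S, hS⟩ := VarGeom.exists_isLocalization_stalkSpecializes h
  exact @isReduced_localizationPreserves _ _ S _ _ _ hS ‹_›

theorem dim_le_of_isPullback {k K : Type u} [Field k] [Field K] {X X' : Scheme.{u}}
    (p : X ⟶ Spec (CommRingCat.of k)) [LocallyOfFiniteType p] {q : X' ⟶ Spec (CommRingCat.of K)}
    {σ : Spec (CommRingCat.of K) ⟶ Spec (CommRingCat.of k)} {π : X' ⟶ X} (sq : IsPullback π q p σ)
    {n : ℕ} (h : topologicalKrullDim X ≤ (n : WithBot ℕ∞)) : topologicalKrullDim X' ≤ (n : WithBot ℕ∞) := by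
  haveI : LocallyOfFiniteType q := MorphismProperty.of_isPullback sq inferInstance
  rw [CharCycDim.dim_le_iff' p] at h
  rw [CharCycDim.dim_le_iff' q]
  exact fun x => (FibDim.rd_baseChange_le sq x).trans (h _)

theorem exists_isGen_specializes {X : Scheme.{u}} (x : X) : ∃ η : X, η ⤳ x ∧ DimOne.IsGen η := by
  have hC := irreducibleComponent_mem_irreducibleComponents x
  have hg := hC.1.isGenericPoint_genericPoint (isClosed_of_mem_irreducibleComponents _ hC)
  refine ⟨_, hg.specializes mem_irreducibleComponent, fun y hy => ?_⟩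
  have hle : irreducibleComponent x ⊆ closure {y} := by
    rw [← hg.def]
    exact closure_minimal (Set.singleton_subset_iff.2 (specializes_iff_mem_closure.1 hy)) isClosed_closure
  have hyC : y ∈ irreducibleComponent x := hC.2 isIrreducible_singleton.closure hle (subset_closure rfl)
  exact ((hg.specializes hyC).antisymm hy).eq.symm

/-- Node points lie over closed points. -/
theorem isClosed_image_of_hasNodePair {k K : Type u} [Field k] [Field K] [IsAlgClosed K] {X X' : Scheme.{u}}
    (p : X ⟶ Spec (CommRingCat.of k)) [LocallyOfFiniteType p] (hdim : topologicalKrullDim X ≤ 1)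
    {q : X' ⟶ Spec (CommRingCat.of K)} {σ : Spec (CommRingCat.of K) ⟶ Spec (CommRingCat.of k)}
    {π : X' ⟶ X} (sq : IsPullback π q p σ) {x' : X'} (hx' : IsClosed ({x'} : Set X'))
    (h : HasNodePair (X'.presheaf.stalk x')) : IsClosed ({π x'} : Set X) := by
  by_contra hne
  have hgen : DimOne.IsGen (π x') := by
    by_contra hg
    exact hne (DimOne.isClosed_singleton hdim hg)
  haveI : LocallyOfFiniteType q := MorphismProperty.of_isPullback sq inferInstance
  haveI : LocallyOfFinitePresentation p := LocallyOfFinitePresentation.iff_locallyOfFiniteType.2 inferInstance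
  haveI : LocallyOfFinitePresentation q := LocallyOfFinitePresentation.iff_locallyOfFiniteType.2 inferInstance
  have hdim' : topologicalKrullDim X' ≤ 1 := by
    simpa using dim_le_of_isPullback p sq (n := 1) (by simpa using hdim)
  obtain ⟨η, hη, hηgen⟩ := exists_isGen_specializes x'
  have hπ : π η = π x' := hgen _ (hη.map π.continuous)
  haveI := isReduced_stalk_of_hasNodePair q hx' h
  haveI := isReduced_stalk_of_specializes hη
  haveI := isNoetherianRing_stalk_of_lft q η
  haveI : Ring.KrullDimLE 0 (X'.presheaf.stalk η) := by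
    have := S16428.ringKrullDim_stalk_le_zero η hηgen
    exact Ring.krullDimLE_iff.mpr (by simpa using this)
  have hf : IsField (X'.presheaf.stalk η) := Ring.KrullDimLE.isField_of_isReduced
  have hreg : IsRegularLocalRing (X'.presheaf.stalk η) := by
    letI := hf.toField
    infer_instance
  have hηs : η ∈ q.smoothLocus := (SmoothReg.mem_smoothLocus_iff_isRegularLocalRing q η).mpr hreg
  have hS := S2155.result p σ q π sq (.inr (flat_spec_field σ))
  refine notMem_smoothLocus_of_hasNodePair q hdim' h ?_
  rw [hS] at hηs ⊢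
  show π x' ∈ p.smoothLocus
  rw [← hπ]
  exact hηs

section IsNode

variable {k : Type u} [Field k] {X : Scheme.{u}} [X.Over (Spec (CommRingCat.of k))]
  [LocallyOfFiniteType (X ↘ Spec (CommRingCat.of k))]

theorem isClosed_bc_point {K : Type u} [Field K] [Algebra k K] (y : Curv2.bc k X K)
    (hy : IsClosed ({Curv2.bcFst k X K y} : Set X)) : IsClosed ({y} : Set (Curv2.bc k X K)) :=
  RGLib.FibClosed.isClosed_singleton_of_field_ext _ _ (X ↘ Spec (CommRingCat.of k)) _
    (IsPullback.of_hasPullback _ _) y hy

theorem isOrdDoublePt_bc_iff {K : Type u} [Field K] [IsAlgClosed K] [Algebra k K] (y : Curv2.bc k X K)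
    (hy : IsClosed ({Curv2.bcFst k X K y} : Set X)) :
    @Curv2.IsOrdDoublePt K _ ((Curv2.bc k X K).presheaf.stalk y) _
      (@Curv2.stalkAlgebra K _ (Curv2.bc k X K) ⟨Curv2.bcSnd k X K⟩ y) _ ↔
      HasNodePair ((Curv2.bc k X K).presheaf.stalk y) :=
  haveI : LocallyOfFiniteType (Curv2.bcSnd k X K) := inferInstance
  isOrdDoublePt_stalk_iff (Curv2.bcSnd k X K) (isClosed_bc_point y hy)

theorem hasNodePair_of_isNode {x : X} (hn : Curv2.IsNode k X x) {Ω : Type u} [Field Ω] [IsAlgClosed Ω]
    {X' : Scheme.{u}} {q : X' ⟶ Spec (CommRingCat.of Ω)} {σ : Spec (CommRingCat.of Ω) ⟶ Spec (CommRingCat.of k)}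
    {π : X' ⟶ X} (sq : IsPullback π q (X ↘ Spec (CommRingCat.of k)) σ) (x' : X') (h : π x' = x) :
    HasNodePair (X'.presheaf.stalk x') := by
  obtain ⟨hx, xb, hxb, hodp⟩ := hn
  exact (hasNodePair_transfer _ (IsPullback.of_hasPullback _ _) sq xb x' (hxb.trans h.symm) (by rw [hxb]; exact hx)).mp
    ((isOrdDoublePt_bc_iff xb (by rw [hxb]; exact hx)).mp hodp)

theorem isNode_of_hasNodePair {x : X} (hx : IsClosed ({x} : Set X)) {Ω : Type u} [Field Ω] [IsAlgClosed Ω]
    {X' : Scheme.{u}} {q : X' ⟶ Spec (CommRingCat.of Ω)} {σ : Spec (CommRingCat.of Ω) ⟶ Spec (CommRingCat.of k)}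
    {π : X' ⟶ X} (sq : IsPullback π q (X ↘ Spec (CommRingCat.of k)) σ) (x' : X') (h : π x' = x)
    (hnp : HasNodePair (X'.presheaf.stalk x')) : Curv2.IsNode k X x := by
  obtain ⟨xb, hxb, -⟩ := Scheme.Pullback.exists_preimage_pullback (f := X ↘ Spec (CommRingCat.of k))
    (g := Spec.map (CommRingCat.ofHom (algebraMap k (AlgebraicClosure k)))) x
    (closedPoint (AlgebraicClosure k)) (Subsingleton.elim (α := Spec (CommRingCat.of k)) _ _)
  refine ⟨hx, xb, hxb, ?_⟩
  exact (isOrdDoublePt_bc_iff xb (by rw [hxb]; exact hx)).mpr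
    ((hasNodePair_transfer _ (IsPullback.of_hasPullback _ _) sq xb x' (hxb.trans h.symm) (by rw [hxb]; exact hx)).mpr hnp)

/-- Nodes and extensions of the base field. -/
theorem isNode_iff_of_isPullback (hdim : topologicalKrullDim X ≤ 1) {K : Type u} [Field K] {Y : Scheme.{u}}
    [Y.Over (Spec (CommRingCat.of K))] {σ : Spec (CommRingCat.of K) ⟶ Spec (CommRingCat.of k)} {π : Y ⟶ X}
    (sq : IsPullback π (Y ↘ Spec (CommRingCat.of K)) (X ↘ Spec (CommRingCat.of k)) σ) (y : Y) :
    Curv2.IsNode k X (π y) ↔ Curv2.IsNode K Y y := by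
  haveI : LocallyOfFiniteType (Y ↘ Spec (CommRingCat.of K)) := MorphismProperty.of_isPullback sq inferInstance
  let ι : Spec (CommRingCat.of (AlgebraicClosure K)) ⟶ Spec (CommRingCat.of K) :=
    Spec.map (CommRingCat.ofHom (algebraMap K (AlgebraicClosure K)))
  have hb : IsPullback (pullback.fst (Y ↘ Spec (CommRingCat.of K)) ι)
      (pullback.snd (Y ↘ Spec (CommRingCat.of K)) ι) (Y ↘ Spec (CommRingCat.of K)) ι :=
    IsPullback.of_hasPullback _ _
  have hc : IsPullback (pullback.fst (Y ↘ Spec (CommRingCat.of K)) ι ≫ π)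
      (pullback.snd (Y ↘ Spec (CommRingCat.of K)) ι) (X ↘ Spec (CommRingCat.of k)) (ι ≫ σ) :=
    hb.paste_horiz sq
  constructor
  · intro hn
    have hy : IsClosed ({y} : Set Y) := RGLib.FibClosed.isClosed_singleton_of_field_ext π _ _ σ sq y hn.1
    obtain ⟨yb, hyb, -⟩ := Scheme.Pullback.exists_preimage_pullback (f := Y ↘ Spec (CommRingCat.of K)) (g := ι) y
      (closedPoint (AlgebraicClosure K)) (Subsingleton.elim (α := Spec (CommRingCat.of K)) _ _)
    exact isNode_of_hasNodePair hy hb yb hyb
      (hasNodePair_of_isNode hn hc yb (by rw [Scheme.Hom.comp_apply, hyb]))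
  · intro hn
    obtain ⟨yb, hyb, -⟩ := Scheme.Pullback.exists_preimage_pullback (f := Y ↘ Spec (CommRingCat.of K)) (g := ι) y
      (closedPoint (AlgebraicClosure K)) (Subsingleton.elim (α := Spec (CommRingCat.of K)) _ _)
    have hnp := hasNodePair_of_isNode hn hb yb hyb
    have hybc : IsClosed ({yb} : Set ↑(pullback (Y ↘ Spec (CommRingCat.of K)) ι)) :=
      RGLib.FibClosed.isClosed_singleton_of_field_ext _ _ _ _ hb yb (by rw [hyb]; exact hn.1)
    have hx := isClosed_image_of_hasNodePair (X ↘ Spec (CommRingCat.of k)) hdim hc hybc hnp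
    have e : (pullback.fst (Y ↘ Spec (CommRingCat.of K)) ι ≫ π) yb = π y := by
      rw [Scheme.Hom.comp_apply, hyb]
    exact isNode_of_hasNodePair (e ▸ hx) hc yb e hnp

end IsNode

end Groth.Agent.NodeLib
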