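import Groth.Agent.NodeLib.NodalBC
import Groth.Agent.RegLoc6.Descent
import Groth.Agent.FibDim.AffineSpaceFibre
import Groth.Agent.H1GeomRk.Open
import Groth.Agent.CharCycDim.FibreComps
import Mathlib

/-!
# At-worst-nodal curves and étale morphisms
-/

set_option autoImplicit false
set_option linter.style.haveILetI false
set_option linter.unusedSectionVars false
set_option backward.isDefEq.respectTransparency false
set_option backward.isDefEq.respectTransparency.types false

universe u

open CategoryTheory CategoryTheory.Limits AlgebraicGeometry IsLocalRing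

namespace Groth.Agent.NodeLib

/-- The dimension condition, at the maximal points. -/
theorem components_iff {k : Type u} [Field k] {X : Scheme.{u}} (q : X ⟶ Spec (CommRingCat.of k))
    [LocallyOfFiniteType q] :
    (∀ Z ∈ irreducibleComponents (X : Type u), topologicalKrullDim Z = 1) ↔
      ∀ w : X, DimOne.IsGen w → FibDim.rd q w = 1 := by
  have h := (CharCycDim.componentDims_homeomorph (Homeomorph.Set.univ (X : Type u))).symm.trans
    (CharCycDim.componentDims_eq q (isOpen_univ.isLocallyClosed))
  constructor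
  · intro H w hw
    obtain ⟨C, hC, hCd⟩ := h.ge ⟨w, ⟨Set.mem_univ _, fun v _ hv => hw v hv⟩, rfl⟩
    dsimp only at hCd
    rw [H C hC] at hCd
    have h1 : ((1 : ℕ) : WithBot ℕ∞) = ((FibDim.rd q w : ℕ) : WithBot ℕ∞) := by simpa using hCd
    exact_mod_cast h1.symm
  · intro H Z hZ
    obtain ⟨w, ⟨-, hw⟩, hwd⟩ := h.le ⟨Z, hZ, rfl⟩
    dsimp only at hwd
    rw [← hwd, H w fun v hv => hw v (Set.mem_univ _) hv]
    rfl

theorem rd_etale {X Y : Scheme.{u}} (g : Y ⟶ X) [Etale g] (y : Y) : FibDim.rd g y = 0 := by
  haveI : LocallyQuasiFinite g := inferInstance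
  exact FibDim.rd_eq_zero_of_quasiFinite g y

section Field

variable {k : Type u} [Field k] {X Y : Scheme.{u}} (p : X ⟶ Spec (CommRingCat.of k)) [LocallyOfFiniteType p]
  (g : Y ⟶ X) [Etale g]

theorem isGen_image {y : Y} (hy : DimOne.IsGen y) : DimOne.IsGen (g y) := fun v hv => by
  obtain ⟨v', hv', rfl⟩ := Flat.generalizingMap g hv
  rw [hy v' hv']

theorem isGen_of_image {y : Y} (hy : DimOne.IsGen (g y)) : DimOne.IsGen y := fun v hv => by
  by_contra hne
  have := FibDim.rd_lt g hv hne (hy _ (hv.map g.continuous))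
  rw [rd_etale, rd_etale] at this
  exact absurd this (lt_irrefl 0)

theorem isClosed_of_image {y : Y} (hy : IsClosed ({g y} : Set X)) : IsClosed ({y} : Set Y) := by
  rw [← closure_eq_iff_isClosed]
  refine subset_antisymm (fun z hz => ?_) subset_closure
  have hsp : y ⤳ z := specializes_iff_mem_closure.2 hz
  have he : g z = g y := (hsp.map g.continuous).mem_closed hy rfl
  by_contra hne
  have := FibDim.rd_lt g hsp (fun e => hne e.symm) he.symm
  rw [rd_etale, rd_etale] at this
  exact absurd this (lt_irrefl 0)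

include p g in
theorem components_comp_etale (h : ∀ Z ∈ irreducibleComponents (X : Type u), topologicalKrullDim Z = 1) :
    ∀ Z ∈ irreducibleComponents (Y : Type u), topologicalKrullDim Z = 1 := by
  rw [components_iff p] at h
  rw [components_iff (g ≫ p)]
  intro w hw
  rw [FibDim.rd_comp, rd_etale g, h _ (isGen_image g hw)]

/-- An étale morphism of schemes over an algebraically closed field preserves node pairs at closed points. -/
theorem hasNodePair_iff_of_etale {K : Type u} [Field K] [IsAlgClosed K] {A B : Scheme.{u}}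
    (q : A ⟶ Spec (CommRingCat.of K)) [LocallyOfFiniteType q] (e : B ⟶ A) [Etale e] {b : B}
    (hb : IsClosed ({e b} : Set A)) :
    HasNodePair (B.presheaf.stalk b) ↔ HasNodePair (A.presheaf.stalk (e b)) := by
  algebraize [(e.stalkMap b).hom]
  haveI : Module.Flat (A.presheaf.stalk (e b)) (B.presheaf.stalk b) := Flat.stalkMap e b
  haveI : IsLocalHom (algebraMap (A.presheaf.stalk (e b)) (B.presheaf.stalk b)) :=
    inferInstanceAs <| IsLocalHom (e.stalkMap b).hom
  haveI : Algebra.EssFiniteType (A.presheaf.stalk (e b)) (B.presheaf.stalk b) := by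
    rw [← RingHom.essFiniteType_algebraMap, RingHom.algebraMap_toAlgebra]
    exact LocallyOfFiniteType.stalkMap e b
  haveI : Algebra.FormallyUnramified (A.presheaf.stalk (e b)) (B.presheaf.stalk b) := by
    rw [← RingHom.formallyUnramified_algebraMap, RingHom.algebraMap_toAlgebra]
    exact FormallyUnramified.stalkMap e b
  haveI : Module.FaithfullyFlat (A.presheaf.stalk (e b)) (B.presheaf.stalk b) :=
    Module.FaithfullyFlat.of_flat_of_isLocalHom
  haveI : IsAlgClosed (ResidueField (A.presheaf.stalk (e b))) :=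
    IsAlgClosed.of_ringEquiv K _ (residueFieldIsoBase q (e b) hb).commRingCatIsoToRingEquiv.symm
  exact hasNodePair_iff_of_faithfullyFlat Algebra.FormallyUnramified.map_maximalIdeal.symm

/-- The base change square of an étale morphism. -/
theorem exists_geometric_lift (y : Y) :
    ∃ (A B : Scheme.{u}) (q : A ⟶ Spec (CommRingCat.of (AlgebraicClosure k)))
      (σ : Spec (CommRingCat.of (AlgebraicClosure k)) ⟶ Spec (CommRingCat.of k))
      (π : A ⟶ X) (e : B ⟶ A) (π' : B ⟶ Y),
      IsPullback π q p σ ∧ IsPullback π' (e ≫ q) (g ≫ p) σ ∧ Etale e ∧ e ≫ π = π' ≫ g ∧ ∃ b : B, π' b = y := by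
  let σ : Spec (CommRingCat.of (AlgebraicClosure k)) ⟶ Spec (CommRingCat.of k) :=
    Spec.map (CommRingCat.ofHom (algebraMap k (AlgebraicClosure k)))
  have sq : IsPullback (pullback.fst p σ) (pullback.snd p σ) p σ := IsPullback.of_hasPullback _ _
  have sq' : IsPullback (pullback.fst g (pullback.fst p σ)) (pullback.snd g (pullback.fst p σ)) g
      (pullback.fst p σ) := IsPullback.of_hasPullback _ _
  refine ⟨pullback p σ, pullback g (pullback.fst p σ), pullback.snd p σ, σ, pullback.fst p σ,
    pullback.snd g (pullback.fst p σ), pullback.fst g (pullback.fst p σ), sq, sq'.paste_vert sq,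
    inferInstance, sq'.w.symm, ?_⟩
  obtain ⟨b, hb, -⟩ := Scheme.Pullback.exists_preimage_pullback (f := g ≫ p) (g := σ) y
    (closedPoint (AlgebraicClosure k)) (Subsingleton.elim (α := Spec (CommRingCat.of k)) _ _)
  refine ⟨(sq'.paste_vert sq).isoPullback.inv b, ?_⟩
  rw [← Scheme.Hom.comp_apply, IsPullback.isoPullback_inv_fst, hb]

theorem mem_smoothLocus_comp_iff [LocallyOfFinitePresentation p] (y : Y) :
    y ∈ (g ≫ p).smoothLocus ↔ g y ∈ p.smoothLocus := by
  obtain ⟨A, B, q, σ, π, e, π', sq, sq', he, hcomm, b, rfl⟩ := exists_geometric_lift p g y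
  haveI : LocallyOfFiniteType q := MorphismProperty.of_isPullback sq inferInstance
  haveI : LocallyOfFinitePresentation q := MorphismProperty.of_isPullback sq inferInstance
  have hπ : g (π' b) = π (e b) := by rw [← Scheme.Hom.comp_apply, ← hcomm, Scheme.Hom.comp_apply]
  have h1 : π' b ∈ (g ≫ p).smoothLocus ↔ b ∈ (e ≫ q).smoothLocus := by
    rw [S2155.result (g ≫ p) σ (e ≫ q) π' sq' (.inr (flat_spec_field σ))]; rfl
  have h2 : g (π' b) ∈ p.smoothLocus ↔ e b ∈ q.smoothLocus := by
    rw [S2155.result p σ q π sq (.inr (flat_spec_field σ)), hπ]; rfl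
  rw [h1, h2]
  constructor
  · intro hb
    haveI := SmoothReg.isRegularLocalRing_stalk_of_mem_smoothLocus _ hb
    haveI := isNoetherianRing_stalk_of_lft q (e b)
    letI := (e.stalkMap b).hom.toAlgebra
    haveI : Module.Flat (A.presheaf.stalk (e b)) (B.presheaf.stalk b) := Flat.stalkMap e b
    haveI : IsLocalHom (algebraMap (A.presheaf.stalk (e b)) (B.presheaf.stalk b)) :=
      inferInstanceAs <| IsLocalHom (e.stalkMap b).hom
    exact (SmoothReg.mem_smoothLocus_iff_isRegularLocalRing q (e b)).mpr
      (RegLoc6.isRegularLocalRing_of_flat (B := B.presheaf.stalk b))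
  · intro hb
    rw [Scheme.Hom.mem_smoothLocus, Scheme.Hom.stalkMap_comp, CommRingCat.hom_comp]
    have he' : (e.stalkMap b).hom.FormallySmooth :=
      Scheme.Hom.mem_smoothLocus.mp (e.smoothLocus_eq_top ▸ TopologicalSpace.Opens.mem_top b)
    exact RingHom.FormallySmooth.stableUnderComposition _ _ (Scheme.Hom.mem_smoothLocus.mp hb) he'

theorem isNode_comp_iff [iX : X.Over (Spec (CommRingCat.of k))] (hp : (X ↘ Spec (CommRingCat.of k)) = p)
    [iY : Y.Over (Spec (CommRingCat.of k))] (hq : (Y ↘ Spec (CommRingCat.of k)) = g ≫ p) (y : Y) :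
    Curv2.IsNode k Y y ↔ Curv2.IsNode k X (g y) := by
  subst hp
  haveI : LocallyOfFiniteType (Y ↘ Spec (CommRingCat.of k)) := by rw [hq]; infer_instance
  obtain ⟨A, B, q, σ, π, e, π', sq, sq', he, hcomm, b, rfl⟩ := exists_geometric_lift (X ↘ Spec (CommRingCat.of k)) g y
  haveI : LocallyOfFiniteType q := MorphismProperty.of_isPullback sq inferInstance
  have hπ : π (e b) = g (π' b) := by rw [← Scheme.Hom.comp_apply, hcomm, Scheme.Hom.comp_apply]
  rw [← hq] at sq'
  constructor
  · intro hn
    have hc : IsClosed ({g (π' b)} : Set X) := by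
      haveI : JacobsonSpace X := LocallyOfFiniteType.jacobsonSpace (X ↘ Spec (CommRingCat.of k))
      exact g.closePoints_subset_preimage_closedPoints hn.1
    have heb : IsClosed ({e b} : Set A) :=
      RGLib.FibClosed.isClosed_singleton_of_field_ext π q _ σ sq (e b) (hπ ▸ hc)
    exact isNode_of_hasNodePair hc sq (e b) hπ
      ((hasNodePair_iff_of_etale q e heb).mp (hasNodePair_of_isNode hn sq' b rfl))
  · intro hn
    have heb : IsClosed ({e b} : Set A) :=
      RGLib.FibClosed.isClosed_singleton_of_field_ext π q _ σ sq (e b) (hπ ▸ hn.1)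
    exact isNode_of_hasNodePair (isClosed_of_image g hn.1) sq' b rfl
      ((hasNodePair_iff_of_etale q e heb).mpr (hasNodePair_of_isNode hn sq (e b) hπ))

end Field

/-- A nodal family over a scheme étale over a field is a nodal curve over the field. -/
theorem nodal_of_etale_base {k : Type u} [Field k] {T Y : Scheme.{u}} (h : Y ⟶ T) (hh : Curv2.IsNodalFamily h)
    (τ : T ⟶ Spec (CommRingCat.of k)) [Etale τ] [Y.Over (Spec (CommRingCat.of k))]
    (hq : (Y ↘ Spec (CommRingCat.of k)) = h ≫ τ) :
    (∀ Z ∈ irreducibleComponents (Y : Type u), topologicalKrullDim Z = 1) ∧ Curv2.AtWorstNodal k Y := by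
  obtain ⟨hfl, hfp, hfib⟩ := hh
  haveI := hfl
  haveI := hfp
  haveI : LocallyOfFiniteType (Y ↘ Spec (CommRingCat.of k)) := by rw [hq]; infer_instance
  haveI : LocallyOfFinitePresentation (Y ↘ Spec (CommRingCat.of k)) := by rw [hq]; infer_instance
  haveI : ∀ t, LocallyOfFinitePresentation (h.fiberToSpecResidueField t) := fun t =>
    MorphismProperty.pullback_snd _ _ inferInstance
  have hcomp : ∀ Z ∈ irreducibleComponents (Y : Type u), topologicalKrullDim Z = 1 := by
    rw [components_iff (Y ↘ Spec (CommRingCat.of k)), hq]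
    intro w hw
    have hgen : DimOne.IsGen (h.asFiber w) := fun v hv => by
      refine (h.fiberι (h w)).isEmbedding.injective ?_
      rw [h.fiberι_asFiber]
      refine hw _ ?_
      have := hv.map (h.fiberι (h w)).continuous
      rwa [h.fiberι_asFiber] at this
    have h1 := (components_iff (k := T.residueField (h w)) (X := h.fiber (h w))
      (h.fiberToSpecResidueField (h w))).mp (hfib (h w)).1 _ hgen
    have h2 := CharCycDim.rd_fiber h (h w) (h.asFiber w)
    rw [h.fiberι_asFiber] at h2
    have h3 : FibDim.rd (h.fiberToSpecResidueField (h w)) (h.asFiber w) = 1 := h1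
    rw [FibDim.rd_comp, rd_etale, zero_add, ← h2, h3]
  refine ⟨hcomp, atWorstNodal_of_smooth_or_node fun y hy => ?_⟩
  let t := h y
  have hw : IsClosed ({h.asFiber y} : Set (h.fiber t)) := by
    have h1 : h.fiberι t ⁻¹' {y} = {h.asFiber y} :=
      Set.eq_singleton_iff_unique_mem.2 ⟨h.fiberι_asFiber y, fun z hz =>
        (h.fiberι t).isEmbedding.injective (hz.trans (h.fiberι_asFiber y).symm)⟩
    rw [← h1]
    exact hy.preimage (h.fiberι t).continuous
  letI : (h.fiber t).Over (Spec (CommRingCat.of (T.residueField t))) := ⟨h.fiberToSpecResidueField t⟩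
  haveI : LocallyOfFinitePresentation (h.fiber t ↘ Spec (CommRingCat.of (T.residueField t))) :=
    inferInstanceAs (LocallyOfFinitePresentation (h.fiberToSpecResidueField t))
  haveI : LocallyOfFiniteType (h.fiber t ↘ Spec (CommRingCat.of (T.residueField t))) :=
    inferInstanceAs (LocallyOfFiniteType (h.fiberToSpecResidueField t))
  rcases (hfib t).2 (h.asFiber y) hw with hs | hn
  · refine Or.inl ?_
    have h1 : h.asFiber y ∈ (h.fiberToSpecResidueField t).smoothLocus :=
      (exists_smooth_nhd_iff (k := T.residueField t) (X := h.fiber t) _).mp hs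
    rw [H1GeomRk.mem_fibre_smoothLocus_iff h t, h.fiberι_asFiber] at h1
    simp only [hq]
    rw [Scheme.Hom.mem_smoothLocus, Scheme.Hom.stalkMap_comp, CommRingCat.hom_comp]
    exact RingHom.FormallySmooth.stableUnderComposition _ _
      (Scheme.Hom.mem_smoothLocus.mp (τ.smoothLocus_eq_top ▸ TopologicalSpace.Opens.mem_top (h y)))
      (Scheme.Hom.mem_smoothLocus.mp h1)
  · refine Or.inr ?_
    let κ := T.residueField t
    let θ₀ : Spec (CommRingCat.of (AlgebraicClosure κ)) ⟶ Spec κ :=
      Spec.map (CommRingCat.ofHom (algebraMap κ (AlgebraicClosure κ)))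
    let θ := θ₀ ≫ T.fromSpecResidueField t
    have s₁ : IsPullback (pullback.fst (h.fiberToSpecResidueField t) θ₀)
        (pullback.snd (h.fiberToSpecResidueField t) θ₀) (h.fiberToSpecResidueField t) θ₀ :=
      IsPullback.of_hasPullback _ _
    obtain ⟨z, hz, -⟩ := Scheme.Pullback.exists_preimage_pullback (f := h.fiberToSpecResidueField t) (g := θ₀)
      (h.asFiber y) (closedPoint (AlgebraicClosure κ)) (Subsingleton.elim (α := Spec (CommRingCat.of κ)) _ _)
    have hnp := hasNodePair_of_isNode (k := κ) (X := h.fiber t) hn s₁ z hz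
    have s₂ : IsPullback (pullback.fst (h.fiberToSpecResidueField t) θ₀ ≫ h.fiberι t)
        (pullback.snd (h.fiberToSpecResidueField t) θ₀) h θ :=
      s₁.paste_horiz (IsPullback.of_hasPullback h (T.fromSpecResidueField t))
    let j := s₂.isoPullback.hom ≫ pullback.mapDesc h θ τ
    haveI : IsOpenImmersion (pullback.mapDesc h θ τ) :=
      MorphismProperty.of_isPullback (pullback_map_diagonal_isPullback h θ τ) inferInstance
    haveI : IsOpenImmersion j := inferInstance
    have sq : IsPullback (pullback.fst (h ≫ τ) (θ ≫ τ)) (pullback.snd (h ≫ τ) (θ ≫ τ))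
        (Y ↘ Spec (CommRingCat.of k)) (θ ≫ τ) := by rw [hq]; exact IsPullback.of_hasPullback _ _
    have hj : j ≫ pullback.fst (h ≫ τ) (θ ≫ τ) =
        pullback.fst (h.fiberToSpecResidueField t) θ₀ ≫ h.fiberι t := by
      simp only [j, Category.assoc, pullback.lift_fst, Category.comp_id,
        IsPullback.isoPullback_hom_fst]
    refine isNode_of_hasNodePair hy sq (j z) ?_
      (hnp.map_ringEquiv (asIso (j.stalkMap z)).commRingCatIsoToRingEquiv.symm)
    rw [← Scheme.Hom.comp_apply, hj, Scheme.Hom.comp_apply, hz, h.fiberι_asFiber]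

end Groth.Agent.NodeLib
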