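import Groth.Agent.NodeLib.NodeOpen

/-!
# The locus where a family is smooth or nodal
-/

set_option autoImplicit false
set_option linter.style.haveILetI false

universe u

open CategoryTheory CategoryTheory.Limits AlgebraicGeometry IsLocalRing

namespace Groth.Agent.NodeLib

variable {X S : Scheme.{u}} (f : X ⟶ S) [LocallyOfFinitePresentation f]

theorem exists_smooth_nhd_iff' (x : X) :
    (∃ U : X.Opens, x ∈ U ∧ Smooth (U.ι ≫ f)) ↔ x ∈ f.smoothLocus := by
  constructor
  · rintro ⟨U, hx, hU⟩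
    have h := Scheme.Hom.smoothLocus_eq_top (U.ι ≫ f)
    rw [← Scheme.Hom.preimage_smoothLocus_eq] at h
    have : (⟨x, hx⟩ : U) ∈ U.ι ⁻¹ᵁ f.smoothLocus := by rw [h]; trivial
    exact this
  · intro hx
    refine ⟨_, hx, ?_⟩
    rw [← Scheme.Hom.smoothLocus_eq_top_iff, ← Scheme.Hom.preimage_smoothLocus_eq]
    exact Scheme.Opens.ι_preimage_self _

theorem good_of_nodal_nhd [Flat f] {U : X.Opens} (hU : Curv2.IsNodalFamily (U.ι ≫ f)) {p : X} (hp : p ∈ U) :
    (∃ V : X.Opens, p ∈ V ∧ Smooth (V.ι ≫ f)) ∨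
      @Curv2.IsNode (S.residueField (f p)) _ (f.fiber (f p)) ⟨f.fiberToSpecResidueField (f p)⟩ (f.asFiber p) := by
  set s := f p
  obtain ⟨u, -, hu⟩ := Scheme.exists_preimage_of_isPullback (isPullback_fibreMap U.ι f s) (⟨p, hp⟩ : U)
    (f.asFiber p) (by rw [f.fiberι_asFiber]; rfl)
  haveI : Etale (fibreMap U.ι f s) := MorphismProperty.of_isPullback (isPullback_fibreMap U.ι f s) inferInstance
  haveI : LocallyOfFinitePresentation (f.fiberToSpecResidueField s) :=
    MorphismProperty.pullback_snd _ _ inferInstance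
  haveI : LocallyOfFinitePresentation ((U.ι ≫ f).fiberToSpecResidueField s) :=
    MorphismProperty.pullback_snd _ _ inferInstance
  letI iX : (f.fiber s).Over (Spec (CommRingCat.of (S.residueField s))) := ⟨f.fiberToSpecResidueField s⟩
  letI iY : ((U.ι ≫ f).fiber s).Over (Spec (CommRingCat.of (S.residueField s))) :=
    ⟨(U.ι ≫ f).fiberToSpecResidueField s⟩
  haveI : LocallyOfFinitePresentation ((U.ι ≫ f).fiber s ↘ Spec (CommRingCat.of (S.residueField s))) :=
    inferInstanceAs (LocallyOfFinitePresentation ((U.ι ≫ f).fiberToSpecResidueField s))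
  haveI : LocallyOfFiniteType ((U.ι ≫ f).fiber s ↘ Spec (CommRingCat.of (S.residueField s))) := inferInstance
  haveI : LocallyOfFinitePresentation (f.fiber s ↘ Spec (CommRingCat.of (S.residueField s))) :=
    inferInstanceAs (LocallyOfFinitePresentation (f.fiberToSpecResidueField s))
  haveI : LocallyOfFiniteType (f.fiber s ↘ Spec (CommRingCat.of (S.residueField s))) := inferInstance
  obtain ⟨-, -, hfib⟩ := hU
  have hd := dim_le_one_of_components (k := S.residueField s) (X := (U.ι ≫ f).fiber s)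
    ((U.ι ≫ f).fiber s ↘ Spec (CommRingCat.of (S.residueField s))) (hfib s).1
  rcases (atWorstNodal_iff (k := S.residueField s) (X := (U.ι ≫ f).fiber s) hd).mp (hfib s).2 u with hs | hn
  · refine Or.inl ((exists_smooth_nhd_iff' f p).mpr ?_)
    have h1 : u ∈ ((U.ι ≫ f).fiberToSpecResidueField s).smoothLocus := hs
    simp only [← fibreMap_toSpec] at h1
    have h2 := (mem_smoothLocus_comp_iff (k := S.residueField s) (f.fiberToSpecResidueField s)
      (fibreMap U.ι f s) u).mp h1
    rwa [hu, H1GeomRk.mem_fibre_smoothLocus_iff f s, f.fiberι_asFiber] at h2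
  · refine Or.inr ?_
    rw [← hu]
    exact (isNode_comp_iff (k := S.residueField s) (X := f.fiber s) _ (fibreMap U.ι f s) rfl
      (fibreMap_toSpec U.ι f s).symm u).mp hn

theorem isOpen_good [Flat f] :
    IsOpen {p : X | (∃ U : X.Opens, p ∈ U ∧ Smooth (U.ι ≫ f)) ∨
      @Curv2.IsNode (S.residueField (f p)) _ (f.fiber (f p)) ⟨f.fiberToSpecResidueField (f p)⟩ (f.asFiber p)} := by
  rw [isOpen_iff_forall_mem_open]
  rintro p (⟨U, hp, hU⟩ | hn)
  · exact ⟨U, fun q hq => Or.inl ⟨U, hq, hU⟩, U.isOpen, hp⟩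
  · obtain ⟨U, hp, hU⟩ := exists_nodal_nhd f p hn
    exact ⟨U, fun q hq => good_of_nodal_nhd f hU hq, U.isOpen, hp⟩

end Groth.Agent.NodeLib
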