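import Groth.Agent.NodeLib.Crit
import Mathlib

/-!
# Reduced one-dimensional quotients of node points

Such a quotient is either the whole local ring or a discrete valuation ring (one branch).
-/

set_option autoImplicit false
set_option linter.style.haveILetI false

universe u

namespace Groth.Agent.NodeLib

open IsLocalRing

theorem exists_mem_maximalIdeal_regular {B : Type u} [CommRing B] [IsLocalRing B] [IsNoetherianRing B]
    [IsReduced B] (h : maximalIdeal B ∉ minimalPrimes B) :
    ∃ t ∈ maximalIdeal B, ∀ b, t * b = 0 → b = 0 := by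
  classical
  by_contra hne
  push Not at hne
  have hfin : (minimalPrimes B).Finite := minimalPrimes.finite_of_isNoetherianRing B
  have hsub : (maximalIdeal B : Set B) ⊆ ⋃ p ∈ (hfin.toFinset : Set (Ideal B)), (p : Set B) := by
    intro t ht
    obtain ⟨b, hb, hb0⟩ := hne t ht
    have hb' : ¬ ∀ p ∈ minimalPrimes B, b ∈ p := fun hall => hb0 (by
      have : b ∈ nilradical B := by
        rw [nilradical_eq_sInf]
        refine Ideal.mem_sInf.2 fun {J} hJ => ?_
        have hJp : J.IsPrime := hJ
        obtain ⟨p, hp, hpJ⟩ := Ideal.exists_minimalPrimes_le (bot_le : (⊥ : Ideal B) ≤ J)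
        exact hpJ (hall p hp)
      rwa [nilradical_eq_zero, Ideal.zero_eq_bot, Ideal.mem_bot] at this)
    push Not at hb'
    obtain ⟨p, hp, hbp⟩ := hb'
    exact Set.mem_biUnion (hfin.mem_toFinset.2 hp) ((hp.1.1.mem_or_mem (hb ▸ zero_mem _)).resolve_right hbp)
  obtain ⟨p, hp, hle⟩ := (Ideal.subset_union_prime ⊥ ⊥
    (fun p hp _ _ => (hfin.mem_toFinset.1 hp).1.1)).1 hsub
  have hp' := hfin.mem_toFinset.1 hp
  exact h ((le_antisymm hle (le_maximalIdeal hp'.1.1.ne_top)) ▸ hp')

variable {C : Type u} [CommRing C] [IsLocalRing C] [IsNoetherianRing C]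

theorem IsNodePair.exists_unit_mul_pow {u v : C} (h : IsNodePair u v) (h0 : u * v = 0) (a : C) (i : ℕ)
    (hne : a * u ^ (i + 1) ≠ 0) : ∃ (a' : C) (j : ℕ), IsUnit a' ∧ a * u ^ (i + 1) = a' * u ^ (j + 1) := by
  by_contra hno
  push Not at hno
  have hstep : ∀ n, ∃ a', a * u ^ (i + 1) = a' * u ^ (n + i + 1) := by
    intro n
    induction n with
    | zero => exact ⟨a, by rw [zero_add]⟩
    | succ n ih =>
      obtain ⟨a', ha'⟩ := ih
      have hnu : ¬ IsUnit a' := fun hu => hno a' (n + i) hu ha'
      have hm : a' ∈ Ideal.span {u, v} := h.1 ▸ (mem_maximalIdeal _).mpr hnu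
      obtain ⟨p, q, e⟩ := Ideal.mem_span_pair.mp hm
      refine ⟨p, ?_⟩
      rw [ha', ← e, show (p * u + q * v) * u ^ (n + i + 1) =
        p * u ^ (n + 1 + i + 1) + q * u ^ (n + i) * (u * v) by ring, h0, mul_zero, add_zero]
  apply hne
  rw [← Ideal.mem_bot, ← Ideal.iInf_pow_eq_bot_of_isLocalRing (maximalIdeal C)
    (maximalIdeal.isMaximal C).ne_top, Submodule.mem_iInf]
  intro n
  obtain ⟨a', ha'⟩ := hstep n
  rw [ha']
  exact Ideal.mul_mem_left _ _ (Ideal.pow_le_pow_right (by omega) (Ideal.pow_mem_pow h.left_mem _))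

theorem IsNodePair.mem_of_regular {u v : C} (h : IsNodePair u v) (h0 : u * v = 0) (I : Ideal C)
    {c : C} (hc : c ∈ I) (hcu : c * u ≠ 0) {t : C} (ht : t ∈ maximalIdeal C)
    (hreg : ∀ z, t * z ∈ I → z ∈ I) : u ∈ I := by
  obtain ⟨a', j, ha', e⟩ := h.exists_unit_mul_pow h0 c 0 (by simpa using hcu)
  have hmem : u ^ (j + 1) ∈ I := by
    have : a' * u ^ (j + 1) ∈ I := by rw [← e]; exact Ideal.mul_mem_right _ _ hc
    exact (Ideal.unit_mul_mem_iff_mem I ha').mp this
  obtain ⟨α, β, ht'⟩ := Ideal.mem_span_pair.mp (h.1.le ht)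
  have key : ∀ i : ℕ, t ^ i * u = α ^ i * u ^ (i + 1) := by
    intro i
    induction i with
    | zero => simp
    | succ i ih =>
      rw [pow_succ, show t ^ i * t * u = t ^ i * u * t by ring, ih, ← ht',
        show α ^ i * u ^ (i + 1) * (α * u + β * v) =
          α ^ (i + 1) * u ^ (i + 1 + 1) + α ^ i * β * u ^ i * (u * v) by ring, h0, mul_zero, add_zero]
  have hregp : ∀ i : ℕ, ∀ z, t ^ i * z ∈ I → z ∈ I := by
    intro i
    induction i with
    | zero => intro z hz; simpa using hz
    | succ i ih => intro z hz; rw [pow_succ, mul_assoc] at hz; exact hreg _ (ih _ hz)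
  refine hregp j u ?_
  rw [key]
  exact Ideal.mul_mem_left _ _ hmem

theorem IsNodePair.eq_zero_of_mul_eq_zero {u v : C} (h : IsNodePair u v) (h0 : u * v = 0) {c : C}
    (hu : c * u = 0) (hv : c * v = 0) : c = 0 := by
  have hcm : c ∈ maximalIdeal C := by
    refine (mem_maximalIdeal _).mpr fun hc => ?_
    have : u = 0 := by simpa [hc.mul_right_eq_zero] using hu
    exact (mem_maximalIdeal _).mp (h.2.2 1 le_rfl 1 0 (by simp [this])).1 isUnit_one
  rw [← Ideal.mem_bot, ← Ideal.iInf_pow_eq_bot_of_isLocalRing (maximalIdeal C)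
    (maximalIdeal.isMaximal C).ne_top, Submodule.mem_iInf]
  intro n
  induction n with
  | zero => simp
  | succ n ih =>
    rcases Nat.eq_zero_or_pos n with rfl | hn
    · simpa using hcm
    have hspan : maximalIdeal C ^ n = Ideal.span {u ^ n, v ^ n} := by
      clear ih
      induction n, hn using Nat.le_induction with
      | base => simp only [pow_one]; exact h.1
      | succ n hn ihn =>
        rw [pow_succ, ihn, h.1, Ideal.span_pair_mul_span_pair]
        refine le_antisymm (Ideal.span_le.mpr ?_) (Ideal.span_le.mpr ?_)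
        · have e1 : u ^ n * v = 0 := by
            obtain ⟨m, rfl⟩ := Nat.exists_eq_add_of_le hn
            rw [show u ^ (1 + m) * v = u ^ m * (u * v) by ring, h0, mul_zero]
          have e2 : v ^ n * u = 0 := by
            obtain ⟨m, rfl⟩ := Nat.exists_eq_add_of_le hn
            rw [show v ^ (1 + m) * u = v ^ m * (u * v) by ring, h0, mul_zero]
          rintro z (rfl | rfl | rfl | rfl)
          · exact Ideal.subset_span (Or.inl (by ring))
          · rw [e1]; exact zero_mem _
          · rw [e2]; exact zero_mem _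
          · exact Ideal.subset_span (Or.inr (by simp only [Set.mem_singleton_iff]; ring))
        · rintro z (rfl | rfl)
          · exact Ideal.subset_span (Or.inl (by ring))
          · exact Ideal.subset_span (Or.inr (Or.inr (Or.inr (by simp only [Set.mem_singleton_iff]; ring))))
    obtain ⟨a, b, e⟩ := Ideal.mem_span_pair.mp (hspan.le ih)
    obtain ⟨m, rfl⟩ := Nat.exists_eq_add_of_le hn
    have ha : a ∈ maximalIdeal C := by
      refine (h.2.2 (1 + m + 1) (by omega) a 0 ?_).1
      rw [zero_mul, add_zero, show a * u ^ (1 + m + 1) = (a * u ^ (1 + m) + b * v ^ (1 + m)) * u -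
        b * v ^ m * (u * v) by ring, e, h0, mul_zero, sub_zero, hu]
      exact zero_mem _
    have hb : b ∈ maximalIdeal C := by
      refine (h.2.2 (1 + m + 1) (by omega) 0 b ?_).2
      rw [zero_mul, zero_add, show b * v ^ (1 + m + 1) = (a * u ^ (1 + m) + b * v ^ (1 + m)) * v -
        a * u ^ m * (u * v) by ring, e, h0, mul_zero, sub_zero, hv]
      exact zero_mem _
    rw [← e, pow_succ' (maximalIdeal C)]
    exact add_mem (Ideal.mul_mem_mul ha (Ideal.pow_mem_pow h.left_mem _))
      (Ideal.mul_mem_mul hb (Ideal.pow_mem_pow h.right_mem _))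

/-- A reduced positive dimensional proper quotient of a node point is regular. -/
theorem isRegularLocalRing_quot {A B : Type u} [CommRing A] [IsLocalRing A] [IsNoetherianRing A]
    [CommRing B] [IsLocalRing B] [IsReduced B] (π : A →+* B) (hπ : Function.Surjective π)
    (hA : HasNodePair A) (hker : RingHom.ker π ≠ ⊥) (hmin : maximalIdeal B ∉ minimalPrimes B) :
    IsRegularLocalRing B := by
  classical
  haveI : IsNoetherianRing B := isNoetherianRing_of_surjective A B π hπ
  obtain ⟨t', ht', hreg⟩ := exists_mem_maximalIdeal_regular hmin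
  obtain ⟨t, rfl⟩ := hπ t'
  have htm : t ∈ maximalIdeal A := (mem_maximalIdeal _).mpr fun hu => (mem_maximalIdeal _).mp ht' (hu.map π)
  set J := RingHom.ker π with hJ
  have hregJ : ∀ z, t * z ∈ J → z ∈ J := fun z hz => by
    rw [hJ, RingHom.mem_ker] at hz ⊢
    rw [map_mul] at hz
    exact hreg _ hz
  let Ah := AdicCompletion (maximalIdeal A) A
  haveI : IsNoetherianRing Ah := LC.Canon.isNoetherianRing_completion
  haveI := LC.Canon.faithfullyFlat_completion (R := A)
  set Jh := J.map (algebraMap A Ah) with hJh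
  have hregh : ∀ z, algebraMap A Ah t * z ∈ Jh → z ∈ Jh := by
    intro z hz
    -- regularity is preserved by flat base change
    let f : (A ⧸ J) →ₗ[A] (A ⧸ J) := LinearMap.lsmul A (A ⧸ J) t
    have hf : Function.Injective f := by
      refine (injective_iff_map_eq_zero f).mpr fun q hq => ?_
      obtain ⟨q, rfl⟩ := Ideal.Quotient.mk_surjective q
      have h2 : Ideal.Quotient.mk J (t * q) = 0 := hq
      rw [Ideal.Quotient.eq_zero_iff_mem] at h2 ⊢
      exact hregJ q h2
    have hF := Module.Flat.lTensor_preserves_injective_linearMap (M := Ah) f hf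
    have hz' : LinearMap.lTensor Ah f (z ⊗ₜ[A] (Ideal.Quotient.mk J 1)) = 0 := by
      rw [LinearMap.lTensor_tmul, show f (Ideal.Quotient.mk J 1) = t • (Ideal.Quotient.mk J 1) from rfl,
        TensorProduct.tmul_smul]
      apply ((TensorProduct.comm A Ah (A ⧸ J)).trans (TensorProduct.quotTensorEquivQuotSMul Ah J)).injective
      rw [map_zero]
      simp only [LinearEquiv.trans_apply, map_smul, TensorProduct.comm_tmul]
      erw [TensorProduct.quotTensorEquivQuotSMul_mk_tmul, one_smul]
      rw [← Submodule.Quotient.mk_smul, Submodule.Quotient.mk_eq_zero, Ideal.smul_top_eq_map,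
        Algebra.smul_def]
      exact hz
    have h0 := (injective_iff_map_eq_zero _).mp hF _ hz'
    have h2 := congrArg ((TensorProduct.comm A Ah (A ⧸ J)).trans (TensorProduct.quotTensorEquivQuotSMul Ah J)) h0
    rw [map_zero] at h2
    simp only [LinearEquiv.trans_apply, TensorProduct.comm_tmul] at h2
    erw [TensorProduct.quotTensorEquivQuotSMul_mk_tmul, one_smul] at h2
    rw [Submodule.Quotient.mk_eq_zero, Ideal.smul_top_eq_map] at h2
    exact h2
  obtain ⟨x, y, hxy⟩ := hasNodePair_completion_iff.mpr hA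
  obtain ⟨u, v, huv, h0⟩ := hxy.exists_mul_eq_zero
  obtain ⟨j, hj, hj0⟩ := J.ne_bot_iff.mp hker
  have hc : algebraMap A Ah j ∈ Jh := Ideal.mem_map_of_mem _ hj
  have hc0 : algebraMap A Ah j ≠ 0 := fun h => hj0
    (FaithfulSMul.algebraMap_injective A Ah (h.trans (map_zero _).symm))
  have hth : algebraMap A Ah t ∈ maximalIdeal Ah := by
    rw [AdicCompletion.maximalIdeal_eq_map]; exact Ideal.mem_map_of_mem _ htm
  obtain ⟨w, z, hwz, hw⟩ : ∃ w z : Ah, IsNodePair w z ∧ w ∈ Jh := by
    by_cases hcu : algebraMap A Ah j * u = 0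
    · have hcv : algebraMap A Ah j * v ≠ 0 := fun h => hc0 (huv.eq_zero_of_mul_eq_zero h0 hcu h)
      exact ⟨v, u, huv.symm, huv.symm.mem_of_regular (by rw [mul_comm]; exact h0) Jh hc hcv hth hregh⟩
    · exact ⟨u, v, huv, huv.mem_of_regular h0 Jh hc hcu hth hregh⟩
  -- descend: `𝔪_A = J + (y)`
  obtain ⟨s, hs⟩ := Adic7.exists_sub_algebraMap_mem (maximalIdeal A) (IsNoetherian.noetherian _) z 2
  rw [← AdicCompletion.maximalIdeal_eq_map] at hs
  have hJm : J ≤ maximalIdeal A := le_maximalIdeal (RingHom.ker_ne_top π)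
  have hsm : s ∈ maximalIdeal A := by
    have h1 : algebraMap A Ah s ∈ maximalIdeal Ah := by
      rw [← sub_sub_cancel z (algebraMap A Ah s)]
      exact sub_mem hwz.right_mem (Ideal.pow_le_self two_ne_zero hs)
    have := comap_pow_completion (A := A) 1
    rw [pow_one, pow_one] at this
    rw [← this]; exact h1
  have hm : maximalIdeal A = J ⊔ Ideal.span {s} := by
    refine le_antisymm ?_ (sup_le hJm (by rw [Ideal.span_singleton_le_iff_mem]; exact hsm))
    have hle : maximalIdeal Ah ≤ (J ⊔ Ideal.span {s}).map (algebraMap A Ah) := by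
      refine Submodule.le_of_le_smul_of_le_jacobson_bot (I := maximalIdeal Ah)
        (IsNoetherian.noetherian _) (IsLocalRing.maximalIdeal_le_jacobson _) ?_
      rw [smul_eq_mul, ← pow_two]
      conv_lhs => rw [hwz.1]
      refine Ideal.span_le.mpr ?_
      rintro q (rfl | rfl)
      · exact Ideal.mem_sup_left (Ideal.map_mono le_sup_left hw)
      · rw [SetLike.mem_coe, ← sub_add_cancel q (algebraMap A Ah s)]
        exact add_mem (Ideal.mem_sup_right hs)
          (Ideal.mem_sup_left (Ideal.mem_map_of_mem _ (Ideal.mem_sup_right (Ideal.mem_span_singleton_self s))))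
    rw [AdicCompletion.maximalIdeal_eq_map] at hle
    have h1 := Ideal.comap_mono (f := algebraMap A Ah) hle
    rwa [Ideal.comap_map_eq_self_of_faithfullyFlat, Ideal.comap_map_eq_self_of_faithfullyFlat] at h1
  have hmB : maximalIdeal B = Ideal.span {π s} := by
    rw [← map_maximalIdeal_of_surjective π hπ, hm, Ideal.map_sup, hJ,
      (Ideal.map_eq_bot_iff_le_ker _).mpr le_rfl, bot_sup_eq, Ideal.map_span, Set.image_singleton]
  haveI : IsLocalHom π := IsLocalHom.of_surjective π hπ
  refine IsRegularLocalRing.of_spanFinrank_maximalIdeal_le B ?_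
  have h1 : (maximalIdeal B).spanFinrank ≤ 1 := by
    rw [hmB]
    exact (Submodule.spanFinrank_span_le_ncard_of_finite (Set.finite_singleton _)).trans (by simp)
  have h2 : (1 : WithBot ℕ∞) ≤ ringKrullDim B := by
    rw [← not_lt]
    intro hlt
    refine hmin ?_
    haveI : Ring.KrullDimLE 0 B := Ring.krullDimLE_iff.mpr (by
      rcases eq_or_ne (ringKrullDim B) ⊥ with h | h
      · rw [h]; exact bot_le
      · obtain ⟨d, hd⟩ := WithBot.ne_bot_iff_exists.mp h
        rw [← hd] at hlt ⊢
        have : d < 1 := WithBot.coe_lt_coe.mp hlt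
        exact WithBot.coe_le_coe.mpr (Order.lt_one_iff.mp this).le)
    obtain ⟨p, hp, hple⟩ := Ideal.exists_minimalPrimes_le (bot_le : (⊥ : Ideal B) ≤ maximalIdeal B)
    haveI := hp.1.1
    rwa [← (Ideal.isMaximal_of_isPrime p).eq_of_le (maximalIdeal.isMaximal B).ne_top hple]
  exact le_trans (by exact_mod_cast h1) h2

end Groth.Agent.NodeLib
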