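import Groth.Agent.NodeLib.NodalLocal
import Groth.Agent.NodeLib.NodalEtale
import Groth.Agent.NodeLib.NodeQuot
import Groth.Agent.GeomField.Reduced
import Groth.Agent.DimFormula.ClosedSub

/-!
# Reduced curves inside nodal curves
-/

set_option autoImplicit false
set_option linter.style.haveILetI false

universe u

open CategoryTheory CategoryTheory.Limits AlgebraicGeometry IsLocalRing TopologicalSpace

namespace Groth.Agent.NodeLib

/-- A reduced, positive dimensional quotient of a one-dimensional domain is the domain itself. -/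
theorem ker_eq_bot_of_domain {A B : Type u} [CommRing A] [IsDomain A] [IsLocalRing A] [Ring.KrullDimLE 1 A]
    [CommRing B] [IsLocalRing B] (π : A →+* B) (hπ : Function.Surjective π)
    {q : Ideal B} [q.IsPrime] (hq : q ≠ maximalIdeal B) : RingHom.ker π = ⊥ := by
  by_contra hne
  have hp : q.comap π ≠ ⊥ := fun h => hne (le_bot_iff.mp (h ▸ Ideal.comap_mono bot_le))
  have hmax : (q.comap π).IsMaximal := Ideal.IsPrime.isMaximal_of_ne_bot inferInstance hp
  refine hq ?_
  haveI : IsLocalHom π := IsLocalHom.of_surjective π hπ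
  rw [← Ideal.map_comap_of_surjective π hπ q, IsLocalRing.eq_maximalIdeal hmax,
    map_maximalIdeal_of_surjective π hπ]

theorem exists_prime_ne_maximalIdeal {X : Scheme.{u}} {x : X} (hx : ¬ DimOne.IsGen x) :
    ∃ q : Ideal (X.presheaf.stalk x), q.IsPrime ∧ q ≠ maximalIdeal (X.presheaf.stalk x) := by
  obtain ⟨y, hyx, hne⟩ : ∃ y, y ⤳ x ∧ y ≠ x := by
    simpa only [DimOne.IsGen, not_forall, exists_prop] using hx
  obtain ⟨p, hp⟩ : y ∈ Set.range (X.fromSpecStalk x) := by rw [Scheme.range_fromSpecStalk]; exact hyx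
  refine ⟨p.asIdeal, p.isPrime, fun h => hne ?_⟩
  have hpc : p = IsLocalRing.closedPoint (X.presheaf.stalk x) := PrimeSpectrum.ext h
  rw [← hp, hpc, Scheme.fromSpecStalk_closedPoint]

theorem maximalIdeal_notMem_minimalPrimes {B : Type u} [CommRing B] [IsLocalRing B] {q : Ideal B}
    [q.IsPrime] (hq : q ≠ maximalIdeal B) : maximalIdeal B ∉ minimalPrimes B := fun h =>
  hq (le_antisymm (le_maximalIdeal (Ideal.IsPrime.ne_top inferInstance))
    (h.2 ⟨inferInstance, bot_le⟩ (le_maximalIdeal (Ideal.IsPrime.ne_top inferInstance))))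

section AlgClosed

variable {K : Type u} [Field K] [IsAlgClosed K] {X Y : Scheme.{u}} [X.Over (Spec (CommRingCat.of K))]
  [Y.Over (Spec (CommRingCat.of K))] [LocallyOfFinitePresentation (X ↘ Spec (CommRingCat.of K))]
  [LocallyOfFinitePresentation (Y ↘ Spec (CommRingCat.of K))]

theorem smooth_or_node_of_closedImmersion (ι : Y ⟶ X) [IsClosedImmersion ι]
    (hdim : topologicalKrullDim X ≤ 1) (hX : Curv2.AtWorstNodal K X)
    (y : Y) (hy : IsClosed ({y} : Set Y)) (hyg : ¬ DimOne.IsGen y)
    [_root_.IsReduced (Y.presheaf.stalk y)] :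
    y ∈ (Y ↘ Spec (CommRingCat.of K)).smoothLocus ∨ Curv2.IsNode K Y y := by
  haveI := LocallyOfFiniteType.isLocallyNoetherian (X ↘ Spec (CommRingCat.of K))
  haveI := LocallyOfFiniteType.isLocallyNoetherian (Y ↘ Spec (CommRingCat.of K))
  obtain ⟨q, hq, hqne⟩ := exists_prime_ne_maximalIdeal hyg
  have hsurj : Function.Surjective (ι.stalkMap y).hom := ι.stalkMap_surjective y
  have key : RingHom.ker (ι.stalkMap y).hom = ⊥ →
      Nonempty ((X.presheaf.stalk (ι y)) ≃+* Y.presheaf.stalk y) := fun h =>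
    ⟨RingEquiv.ofBijective _ ⟨(RingHom.injective_iff_ker_eq_bot _).mpr h, hsurj⟩⟩
  have hnode : HasNodePair (Y.presheaf.stalk y) → Curv2.IsNode K Y y := fun h =>
    isNode_of_hasNodePair hy (IsPullback.of_id_fst (f := Y ↘ Spec (CommRingCat.of K))) y (by simp) h
  have hsmooth : IsRegularLocalRing (Y.presheaf.stalk y) → y ∈ (Y ↘ Spec (CommRingCat.of K)).smoothLocus :=
    fun h => (SmoothReg.mem_smoothLocus_iff_isRegularLocalRing _ y).mpr h
  rcases (atWorstNodal_iff hdim).mp hX (ι y) with hs | hn
  · haveI := SmoothReg.isRegularLocalRing_stalk_of_mem_smoothLocus _ hs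
    haveI : IsDomain (X.presheaf.stalk (ι y)) := RegLoc6.isDomain_of_isRegularLocalRing _
    haveI : Ring.KrullDimLE 1 (X.presheaf.stalk (ι y)) := Ring.krullDimLE_iff.mpr
      (by simpa using (CurveCohLib.ringKrullDim_stalk_le_topologicalKrullDim (ι y)).trans hdim)
    obtain ⟨e⟩ := key (ker_eq_bot_of_domain _ hsurj hqne)
    exact .inl (hsmooth (IsRegularLocalRing.of_ringEquiv e))
  · have hA : HasNodePair (X.presheaf.stalk (ι y)) :=
      hasNodePair_of_isNode hn (IsPullback.of_id_fst (f := X ↘ Spec (CommRingCat.of K))) (ι y) (by simp)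
    rcases eq_or_ne (RingHom.ker (ι.stalkMap y).hom) ⊥ with h | h
    · obtain ⟨e⟩ := key h
      exact .inr (hnode (hA.map_ringEquiv e))
    · exact .inl (hsmooth (isRegularLocalRing_quot _ hsurj hA h (maximalIdeal_notMem_minimalPrimes hqne)))

end AlgClosed

section General

variable {k : Type u} [Field k] {X Y : Scheme.{u}} [X.Over (Spec (CommRingCat.of k))]
  [Y.Over (Spec (CommRingCat.of k))]

attribute [local instance] Curv2.stalkAlgebra

theorem stalkMap_comm (ι : Y ⟶ X) (hι : ι ≫ (X ↘ Spec (CommRingCat.of k)) = (Y ↘ Spec (CommRingCat.of k)))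
    (y : Y) (c : k) : (ι.stalkMap y).hom (Curv2.stalkMap k X (ι y) c) = Curv2.stalkMap k Y y c := by
  simp only [Curv2.stalkMap, RingHom.comp_apply, ← hι, Coh.toGlobal]
  rw [Scheme.Hom.germ_stalkMap_apply]
  rfl

theorem geometricallyReduced_closedImmersion [LocallyOfFiniteType (X ↘ Spec (CommRingCat.of k))]
    [LocallyOfFiniteType (Y ↘ Spec (CommRingCat.of k))] (ι : Y ⟶ X) [IsClosedImmersion ι]
    (hι : ι ≫ (X ↘ Spec (CommRingCat.of k)) = (Y ↘ Spec (CommRingCat.of k)))
    [AlgebraicGeometry.IsReduced Y] (hdim : topologicalKrullDim X ≤ 1)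
    (hX : GeometricallyReduced (X ↘ Spec (CommRingCat.of k)))
    (hY : ∀ Z ∈ irreducibleComponents (Y : Type u), topologicalKrullDim Z = 1) :
    GeometricallyReduced (Y ↘ Spec (CommRingCat.of k)) := by
  rw [GeomField.geometricallyReduced_iff] at hX ⊢
  intro y
  refine GeomField.isGeomReducedAt_of_generic y fun η _ hη => ?_
  have hrd : FibDim.rd (X ↘ Spec (CommRingCat.of k)) (ι η) = 1 := by
    rw [← DimFormula.rd_closedSub (X ↘ Spec (CommRingCat.of k)) ι η, hι]
    exact (components_iff (Y ↘ Spec (CommRingCat.of k))).mp hY η hη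
  have hgen : DimOne.IsGen (ι η) := fun v hv => by
    by_contra hne
    have h1 := FibDim.rd_lt (X ↘ Spec (CommRingCat.of k)) hv hne (Subsingleton.elim _ _)
    have h2 := (CharCycDim.dim_le_iff' (X ↘ Spec (CommRingCat.of k)) 1).mp hdim v
    omega
  have hg := (GeomField.isGeomReducedAt_iff (ι η)).mp (hX (ι η))
  haveI : _root_.IsReduced (X.presheaf.stalk (ι η)) := Algebra.isReduced_of_isGeometricallyReduced k
  haveI : Ring.KrullDimLE 0 (X.presheaf.stalk (ι η)) := by
    have := S16428.ringKrullDim_stalk_le_zero (ι η) hgen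
    exact Ring.krullDimLE_iff.mpr (by simpa using this)
  have hf : IsField (X.presheaf.stalk (ι η)) := Ring.KrullDimLE.isField_of_isReduced
  let f : X.presheaf.stalk (ι η) →ₐ[k] Y.presheaf.stalk η :=
    { (ι.stalkMap η).hom with commutes' := fun c => stalkMap_comm ι hι η c }
  have hinj : Function.Injective f := by
    letI := hf.toField
    exact (f : X.presheaf.stalk (ι η) →+* Y.presheaf.stalk η).injective
  let e : X.presheaf.stalk (ι η) ≃ₐ[k] Y.presheaf.stalk η :=
    AlgEquiv.ofBijective f ⟨hinj, ι.stalkMap_surjective η⟩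
  rw [GeomField.isGeomReducedAt_iff]
  exact Algebra.IsGeometricallyReduced.of_injective e.symm.toAlgHom e.symm.injective

theorem atWorstNodal_closedImmersion [LocallyOfFiniteType (X ↘ Spec (CommRingCat.of k))]
    [LocallyOfFiniteType (Y ↘ Spec (CommRingCat.of k))] (ι : Y ⟶ X) [IsClosedImmersion ι]
    (hι : ι ≫ (X ↘ Spec (CommRingCat.of k)) = (Y ↘ Spec (CommRingCat.of k)))
    [AlgebraicGeometry.IsReduced Y]
    (hequi : ∀ Z ∈ irreducibleComponents (X : Type u), topologicalKrullDim Z = 1) (hX : Curv2.AtWorstNodal k X)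
    (hY : ∀ Z ∈ irreducibleComponents (Y : Type u), topologicalKrullDim Z = 1) :
    Curv2.AtWorstNodal k Y := by
  haveI : LocallyOfFinitePresentation (X ↘ Spec (CommRingCat.of k)) :=
    LocallyOfFinitePresentation.iff_locallyOfFiniteType.2 inferInstance
  have hdX := dim_le_one_of_components (X ↘ Spec (CommRingCat.of k)) hequi
  have hdY := dim_le_one_of_components (Y ↘ Spec (CommRingCat.of k)) hY
  haveI := geometricallyReduced_closedImmersion ι hι hdX (gorenstein_and_geometricallyReduced hdX hX).2 hY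
  let σ : Spec (CommRingCat.of (AlgebraicClosure k)) ⟶ Spec (CommRingCat.of k) :=
    Spec.map (CommRingCat.ofHom (algebraMap k (AlgebraicClosure k)))
  let X' := pullback (X ↘ Spec (CommRingCat.of k)) σ
  let Y' := pullback (Y ↘ Spec (CommRingCat.of k)) σ
  letI : X'.Over (Spec (CommRingCat.of (AlgebraicClosure k))) := ⟨pullback.snd _ _⟩
  letI : Y'.Over (Spec (CommRingCat.of (AlgebraicClosure k))) := ⟨pullback.snd _ _⟩
  have sX : IsPullback (pullback.fst (X ↘ Spec (CommRingCat.of k)) σ)
      (X' ↘ Spec (CommRingCat.of (AlgebraicClosure k))) (X ↘ Spec (CommRingCat.of k)) σ := IsPullback.of_hasPullback _ _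
  have sY : IsPullback (pullback.fst (Y ↘ Spec (CommRingCat.of k)) σ)
      (Y' ↘ Spec (CommRingCat.of (AlgebraicClosure k))) (Y ↘ Spec (CommRingCat.of k)) σ := IsPullback.of_hasPullback _ _
  let j : Y' ⟶ X' := sX.lift (pullback.fst _ _ ≫ ι) (pullback.snd _ _) (by rw [Category.assoc, hι]; exact sY.w)
  have hj : IsPullback j (pullback.fst _ _) (pullback.fst _ _) ι := by
    refine IsPullback.flip (IsPullback.of_bot ?_ (sX.lift_fst _ _ _).symm sX)
    rw [hι, sX.lift_snd]
    exact sY
  haveI : IsClosedImmersion j := MorphismProperty.of_isPullback hj.flip inferInstance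
  haveI : LocallyOfFinitePresentation (Y ↘ Spec (CommRingCat.of k)) :=
    LocallyOfFinitePresentation.iff_locallyOfFiniteType.2 inferInstance
  haveI : LocallyOfFinitePresentation (X' ↘ Spec (CommRingCat.of (AlgebraicClosure k))) :=
    MorphismProperty.of_isPullback sX inferInstance
  haveI : LocallyOfFinitePresentation (Y' ↘ Spec (CommRingCat.of (AlgebraicClosure k))) :=
    MorphismProperty.of_isPullback sY inferInstance
  haveI : AlgebraicGeometry.IsReduced Y' :=
    pullback_of_geometrically (GeometricallyReduced.geometrically_isReduced) (AlgebraicClosure k) _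
  have hX' := (atWorstNodal_iff_of_isPullback hdX sX).mp hX
  have hdX' : topologicalKrullDim X' ≤ 1 := by
    simpa using dim_le_of_isPullback _ sX (n := 1) (by simpa using hdX)
  refine (atWorstNodal_iff_of_isPullback hdY sY).mpr (atWorstNodal_of_smooth_or_node fun y hy => ?_)
  refine smooth_or_node_of_closedImmersion j hdX' hX' y hy fun hg => ?_
  have hc := GeomField.genericPoint_of_maximal hg
  rw [hy.closure_eq] at hc
  haveI : Surjective σ := ⟨fun x => ⟨Classical.arbitrary _, Subsingleton.elim _ _⟩⟩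
  haveI : Flat σ := flat_spec_field σ
  obtain ⟨Z, hZ, hZd⟩ := (FibDim.component_dims_baseChange sY).le ⟨_, hc, rfl⟩
  dsimp only at hZd
  rw [hY Z hZ] at hZd
  have h0 : topologicalKrullDim ({y} : Set Y') ≤ 0 := by
    haveI : Subsingleton (IrreducibleCloseds ({y} : Set Y')) := ⟨fun a c => IrreducibleCloseds.ext (by
      rw [Set.Subsingleton.eq_singleton_of_mem Set.subsingleton_of_subsingleton a.isIrreducible.nonempty.choose_spec,
        Set.Subsingleton.eq_singleton_of_mem Set.subsingleton_of_subsingleton c.isIrreducible.nonempty.choose_spec]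
      exact congrArg _ (Subsingleton.elim _ _))⟩
    exact Order.krullDim_nonpos_of_subsingleton
  rw [← hZd] at h0
  exact absurd h0 (by decide)

end General

end Groth.Agent.NodeLib
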