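import Groth.Agent.NodeLib.Hessian
import Groth.Agent.NodeLib.GoodCurve
import Groth.Agent.NodeLib.NodalBC
import Groth.Agent.FibFlat.Descent

/-!
# Nodal charts

For `V(F, g) ⊆ 𝔸^{r+2}_A` the open set where the minor of `F` and one of `D₀ g`, `D₁ g`, `hess g` do not vanish
has fibres which are curves with at worst nodes.
-/

set_option autoImplicit false
set_option linter.style.haveILetI false

universe u

open CategoryTheory CategoryTheory.Limits AlgebraicGeometry IsLocalRing MvPolynomial

namespace Groth.Agent.NodeLib.Hess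

variable {A : Type u} [CommRing A] {r : ℕ} (F : Fin r → MvPolynomial (Fin r ⊕ Fin 2) A)
  (g : MvPolynomial (Fin r ⊕ Fin 2) A)

/-- The equations of the chart. -/
noncomputable abbrev eqs : Ideal (MvPolynomial (Fin r ⊕ Fin 2) A) :=
  Ideal.span (Set.range F) ⊔ Ideal.span {g}

/-- The ring of the chart. -/
abbrev chartRing : Type u := MvPolynomial (Fin r ⊕ Fin 2) A ⧸ eqs F g

noncomputable abbrev chartStr :
    Spec (CommRingCat.of (chartRing F g)) ⟶ Spec (CommRingCat.of A) :=
  Spec.map (CommRingCat.ofHom ((Ideal.Quotient.mk (eqs F g)).comp C))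

/-- The good open subset of the chart. -/
noncomputable def goodOpen : (Spec (CommRingCat.of (chartRing F g))).Opens :=
  (PrimeSpectrum.basicOpen (Ideal.Quotient.mk (eqs F g) (minor F))) ⊓
    (PrimeSpectrum.basicOpen (Ideal.Quotient.mk (eqs F g) (D F 0 g)) ⊔
      PrimeSpectrum.basicOpen (Ideal.Quotient.mk (eqs F g) (D F 1 g)) ⊔
      PrimeSpectrum.basicOpen (Ideal.Quotient.mk (eqs F g) (hess F g)))

variable {F g}

theorem mem_goodOpen_iff (P : PrimeSpectrum (chartRing F g)) :
    (P : ↥(Spec (CommRingCat.of (chartRing F g)))) ∈ goodOpen F g ↔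
      Ideal.Quotient.mk (eqs F g) (minor F) ∉ P.asIdeal ∧
        ((∃ i, Ideal.Quotient.mk (eqs F g) (D F i g) ∉ P.asIdeal) ∨
          Ideal.Quotient.mk (eqs F g) (hess F g) ∉ P.asIdeal) := by
  simp only [goodOpen, Fin.exists_fin_two]
  rfl

theorem eqs_map {B : Type u} [CommRing B] (φ : A →+* B) :
    (eqs F g).map (MvPolynomial.map φ) = eqs (fun m => MvPolynomial.map φ (F m)) (MvPolynomial.map φ g) := by
  rw [Ideal.map_sup, Ideal.map_span, Ideal.map_span, Set.image_singleton, ← Set.range_comp]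
  rfl

section Field

variable {k : Type u} [Field k] [IsAlgClosed k] {G : Fin r → MvPolynomial (Fin r ⊕ Fin 2) k}
  {h : MvPolynomial (Fin r ⊕ Fin 2) k}

theorem curve_facts {c : Fin r ⊕ Fin 2 → k} {O S : Type u} [CommRing O] [IsLocalRing O] [IsNoetherianRing O]
    [CommRing S] [IsLocalRing S] {ψ : MvPolynomial (Fin r ⊕ Fin 2) k →+* O} (hS : IsSurf G c ψ)
    (hG : ∀ m, eval c (G m) = 0) (hM : eval c (minor G) ≠ 0) (hh : eval c h = 0)
    (hgood : (∃ i, eval c (D G i h) ≠ 0) ∨ eval c (hess G h) ≠ 0)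
    (χ : O →+* S) (hχ : Function.Surjective χ) (hker : RingHom.ker χ = Ideal.span {ψ h}) :
    ringKrullDim S = 1 ∧ (IsRegularLocalRing S ∨ HasNodePair S) := by
  let e : (O ⧸ Ideal.span {ψ h}) ≃+* S :=
    (Ideal.quotEquivOfEq hker.symm).trans (RingHom.quotientKerEquivOfSurjective hχ)
  haveI : IsLocalRing (O ⧸ Ideal.span {ψ h}) := RingEquiv.isLocalRing e.symm
  obtain ⟨hne, hrn⟩ := regular_or_hasNodePair hS hG hM hh hgood
  have hp := isParamPair hS hG hM
  have hmh : ψ h ∈ maximalIdeal O := by rw [← hS.map_mc]; exact Ideal.mem_map_of_mem _ hh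
  haveI := hp.isRegularLocalRing
  haveI := RegLoc6.isDomain_of_isRegularLocalRing O
  refine ⟨(ringKrullDim_eq_of_ringEquiv e).symm.trans (le_antisymm ?_ (hp.one_le_dim_quot hmh)), ?_⟩
  · have h1 := ringKrullDim_quotient_succ_le_of_nonZeroDivisor (mem_nonZeroDivisors_of_ne_zero hne)
    have h3 : ringKrullDim O ≤ ((2 : ℕ) : WithBot ℕ∞) := by
      rw [← IsRegularLocalRing.spanFinrank_maximalIdeal (R := O), hp.1]
      exact_mod_cast (Submodule.spanFinrank_span_le_ncard_of_finite (Set.toFinite _)).trans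
        ((Set.ncard_insert_le _ _).trans (by simp))
    have h4 := h1.trans h3
    generalize ringKrullDim (O ⧸ Ideal.span {ψ h}) = q at h4 ⊢
    induction q using WithBot.recBotCoe with
    | bot => exact bot_le
    | coe d =>
      have h5 : d + 1 ≤ (1 : ℕ∞) + 1 := WithBot.coe_le_coe.mp
        (show ((d + 1 : ℕ∞) : WithBot ℕ∞) ≤ (((1 : ℕ∞) + 1 : ℕ∞) : WithBot ℕ∞) from h4)
      exact WithBot.coe_le_coe.mpr ((WithTop.add_le_add_iff_right (ENat.coe_ne_top 1)).mp h5)
  rcases hrn with hr | hn
  · exact .inl (IsRegularLocalRing.of_ringEquiv e)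
  · exact .inr (hn.map_ringEquiv e)

theorem stalk_facts (P : PrimeSpectrum (chartRing G h)) (hmax : P.asIdeal.IsMaximal)
    (hP : (P : ↥(Spec (CommRingCat.of (chartRing G h)))) ∈ goodOpen G h) {S : Type u} [CommRing S] [IsLocalRing S]
    [Algebra (chartRing G h) S] [IsLocalization.AtPrime S P.asIdeal] :
    ringKrullDim S = 1 ∧ (IsRegularLocalRing S ∨ HasNodePair S) := by
  let π := Ideal.Quotient.mk (eqs G h)
  have hπ : Function.Surjective π := Ideal.Quotient.mk_surjective
  haveI := Ideal.comap_isMaximal_of_surjective π hπ (K := P.asIdeal)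
  obtain ⟨c, hc⟩ := MvPolynomial.isMaximal_iff_eq_vanishingIdeal_singleton.mp (inferInstance : (P.asIdeal.comap π).IsMaximal)
  have hmc : P.asIdeal.comap π = mc c := by
    rw [hc]
    ext p
    simp [mc, RingHom.mem_ker, MvPolynomial.aeval_eq_eval]
  have hle : eqs G h ≤ mc c := by
    rw [← hmc]
    exact fun p hp => by rw [Ideal.mem_comap, Ideal.Quotient.eq_zero_iff_mem.mpr hp]; exact zero_mem _
  have hG : ∀ m, eval c (G m) = 0 := fun m => hle (Ideal.mem_sup_left (Ideal.subset_span ⟨m, rfl⟩))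
  have hh : eval c h = 0 := hle (Ideal.mem_sup_right (Ideal.mem_span_singleton_self h))
  have hmem : ∀ p, π p ∉ P.asIdeal → eval c p ≠ 0 := fun p hp h0 => hp (by
    have : p ∈ mc c := h0
    rw [← hmc] at this; exact this)
  obtain ⟨hM, hgood⟩ := (mem_goodOpen_iff P).mp hP
  have hgood' : (∃ i, eval c (D G i h) ≠ 0) ∨ eval c (hess G h) ≠ 0 :=
    hgood.imp (fun ⟨i, hi⟩ => ⟨i, hmem _ hi⟩) (hmem _)
  set L := Localization.AtPrime (mc c)
  set IL := (eqs G h).map (algebraMap (MvPolynomial (Fin r ⊕ Fin 2) k) L) with hIL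
  set J := (IF G).map (algebraMap (MvPolynomial (Fin r ⊕ Fin 2) k) L) with hJ
  haveI hloc : IsLocalization.AtPrime (L ⧸ IL) P.asIdeal := by
    have hsub : Algebra.algebraMapSubmonoid (chartRing G h) (mc c).primeCompl = P.asIdeal.primeCompl := by
      ext z
      constructor
      · rintro ⟨p, hp, rfl⟩
        exact fun hz => hp (hmc ▸ hz)
      · intro hz
        obtain ⟨p, rfl⟩ := hπ z
        exact ⟨p, fun hp => hz (hmc.symm ▸ hp : p ∈ P.asIdeal.comap π), rfl⟩
    have h1 : IsLocalization (Algebra.algebraMapSubmonoid (chartRing G h) (mc c).primeCompl) (L ⧸ IL) :=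
      inferInstance
    rwa [hsub] at h1
  let e₁ : S ≃+* L ⧸ IL := (IsLocalization.algEquiv P.asIdeal.primeCompl S (L ⧸ IL)).toRingEquiv
  let lam : L →+* S := e₁.symm.toRingHom.comp (Ideal.Quotient.mk IL)
  have hlam : RingHom.ker lam = IL := by
    ext a
    simp only [RingHom.mem_ker, lam, RingHom.comp_apply]
    exact (map_eq_zero_iff _ e₁.symm.injective).trans Ideal.Quotient.eq_zero_iff_mem
  have hJI : J ≤ RingHom.ker lam := hlam.ge.trans' (Ideal.map_mono le_sup_left)
  haveI := isLocalRing_quot_map (IF_le G c hG)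
  let χ : L ⧸ J →+* S := Ideal.Quotient.lift J lam fun a ha => hJI ha
  refine curve_facts (isSurf_quot (F := G) (c := c) hG) hG (hmem _ hM) hh hgood' χ
    (Ideal.Quotient.lift_surjective_of_surjective _ _ (e₁.symm.surjective.comp Ideal.Quotient.mk_surjective)) ?_
  rw [Ideal.ker_quotient_lift, hlam, hIL, Ideal.map_sup, Ideal.map_sup,
    (Ideal.map_quotient_self J : Ideal.map (Ideal.Quotient.mk J) (Ideal.map (algebraMap _ L) (Ideal.span (Set.range G))) = ⊥),
    bot_sup_eq]
  exact (Ideal.map_map _ _).trans (by rw [Ideal.map_span, Set.image_singleton])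

variable (G h) in
theorem good_chart (q : (goodOpen G h : Scheme.{u}) ⟶ Spec (CommRingCat.of k))
    (hq : q = (goodOpen G h).ι ≫ chartStr G h) :
    letI : (goodOpen G h : Scheme.{u}).Over (Spec (CommRingCat.of k)) := ⟨q⟩
    (∀ Z ∈ irreducibleComponents ((goodOpen G h : Scheme.{u}) : Type u), topologicalKrullDim Z = 1) ∧
      Curv2.AtWorstNodal k (goodOpen G h : Scheme.{u}) := by
  letI : (goodOpen G h : Scheme.{u}).Over (Spec (CommRingCat.of k)) := ⟨q⟩
  haveI : LocallyOfFinitePresentation (chartStr G h) := by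
    rw [chartStr, HasRingHomProperty.Spec_iff (P := @LocallyOfFinitePresentation)]
    refine RingHom.FinitePresentation.comp (RingHom.FinitePresentation.of_surjective _ Ideal.Quotient.mk_surjective ?_) ?_
    · rw [Ideal.mk_ker]; exact IsNoetherian.noetherian _
    · exact (RingHom.finitePresentation_algebraMap (A := k) (B := MvPolynomial (Fin r ⊕ Fin 2) k)).mpr inferInstance
  haveI : LocallyOfFinitePresentation ((goodOpen G h : Scheme.{u}) ↘ Spec (CommRingCat.of k)) := by
    show LocallyOfFinitePresentation q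
    rw [hq]; infer_instance
  refine good_of_closed_points fun y hy => ?_
  haveI : JacobsonSpace ↥(Spec (CommRingCat.of (chartRing G h))) := by
    haveI : IsJacobsonRing (chartRing G h) := inferInstance
    exact inferInstanceAs (JacobsonSpace (PrimeSpectrum (chartRing G h)))
  let P : PrimeSpectrum (chartRing G h) := (goodOpen G h).ι y
  have hmax : P.asIdeal.IsMaximal := (PrimeSpectrum.isClosed_singleton_iff_isMaximal P).mp
    ((goodOpen G h).ι.closePoints_subset_preimage_closedPoints hy)
  let R : CommRingCat := CommRingCat.of (chartRing G h)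
  letI : Algebra (chartRing G h) ((Spec R).presheaf.stalk P) :=
    (CommRingCat.Hom.hom (StructureSheaf.toStalk (chartRing G h) P)).toAlgebra
  haveI : IsLocalization.AtPrime ((Spec R).presheaf.stalk P) P.asIdeal :=
    inferInstanceAs (IsLocalization.AtPrime ((Spec.structureSheaf (chartRing G h)).presheaf.stalk P) P.asIdeal)
  obtain ⟨hd, hr⟩ := stalk_facts (S := (Spec R).presheaf.stalk P) P hmax y.2
  let e := (asIso ((goodOpen G h).ι.stalkMap y)).commRingCatIsoToRingEquiv
  refine ⟨(ringKrullDim_eq_of_ringEquiv e).symm.trans hd, hr.imp (fun hr => ?_) fun hn => hn.map_ringEquiv e⟩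
  haveI := hr
  exact IsRegularLocalRing.of_ringEquiv e

end Field

theorem goodOpen_comap {B : Type u} [CommRing B] (φ : A →+* B)
    (j : chartRing F g →+* chartRing (fun m => MvPolynomial.map φ (F m)) (MvPolynomial.map φ g))
    (hj : ∀ x, j (Ideal.Quotient.mk _ x) = Ideal.Quotient.mk _ (MvPolynomial.map φ x)) :
    Spec.map (CommRingCat.ofHom j) ⁻¹ᵁ goodOpen F g =
      goodOpen (fun m => MvPolynomial.map φ (F m)) (MvPolynomial.map φ g) := by
  refine TopologicalSpace.Opens.ext (Set.ext fun P => ?_)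
  refine (mem_goodOpen_iff _).trans (Iff.trans ?_ (mem_goodOpen_iff P).symm)
  simp only [minor_map, D_map, hess_map, ← hj]
  rfl

variable (F g)

/-- Base change of the chart ring is a pushout. -/
theorem exists_isPushout_chart {B : Type u} [CommRing B] (φ : A →+* B) :
    ∃ j : chartRing F g →+* chartRing (fun m => MvPolynomial.map φ (F m)) (MvPolynomial.map φ g),
      (∀ x, j (Ideal.Quotient.mk _ x) = Ideal.Quotient.mk _ (MvPolynomial.map φ x)) ∧
      CategoryTheory.IsPushout (CommRingCat.ofHom φ) (CommRingCat.ofHom ((Ideal.Quotient.mk (eqs F g)).comp C))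
        (CommRingCat.ofHom ((Ideal.Quotient.mk (eqs (fun m => MvPolynomial.map φ (F m)) (MvPolynomial.map φ g))).comp C))
        (CommRingCat.ofHom j) := by
  let e : Fin r ⊕ Fin 2 ≃ Fin (r + 2) := finSumFinEquiv
  let eA := (renameEquiv A e).toRingEquiv
  let eB := (renameEquiv B e).toRingEquiv
  let I' := eqs (fun m => MvPolynomial.map φ (F m)) (MvPolynomial.map φ g)
  let π : MvPolynomial (Fin (r + 2)) B →+* MvPolynomial (Fin r ⊕ Fin 2) B ⧸ I' :=
    (Ideal.Quotient.mk I').comp eB.symm.toRingHom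
  have hπ : Function.Surjective π := Ideal.Quotient.mk_surjective.comp eB.symm.surjective
  have hc : (MvPolynomial.map φ).comp eA.toRingHom = eB.toRingHom.comp (MvPolynomial.map φ) := by
    refine MvPolynomial.ringHom_ext (fun a => ?_) fun i => ?_ <;> simp [eA, eB]
  have hk : RingHom.ker π = ((eqs F g).map eA.toRingHom).map (MvPolynomial.map φ) := by
    rw [Ideal.map_map, hc, ← Ideal.map_map, eqs_map, ← RingHom.comap_ker, Ideal.mk_ker]
    exact (Ideal.map_comap_of_equiv eB).symm
  obtain ⟨j, hj, hpo⟩ := FibFlat.exists_isPushout_presentation φ π hπ ((eqs F g).map eA.toRingHom) hk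
  let e₀ : chartRing F g ≃+* MvPolynomial (Fin (r + 2)) A ⧸ (eqs F g).map eA.toRingHom :=
    Ideal.quotientEquiv (eqs F g) _ eA rfl
  refine ⟨j.comp e₀.toRingHom, fun x => ?_, ?_⟩
  · show j (e₀ (Ideal.Quotient.mk _ x)) = _
    rw [Ideal.quotientEquiv_mk, hj]
    show Ideal.Quotient.mk I' (eB.symm (MvPolynomial.map φ (eA x))) = _
    rw [show MvPolynomial.map φ (eA x) = eB (MvPolynomial.map φ x) from RingHom.congr_fun hc x,
      RingEquiv.symm_apply_apply]
  refine hpo.of_iso (Iso.refl _) (Iso.refl _) e₀.symm.toCommRingCatIso (Iso.refl _) ?_ ?_ ?_ ?_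
  · simp
  · refine CommRingCat.hom_ext (RingHom.ext fun a => ?_)
    apply e₀.injective
    show e₀ (e₀.symm (Ideal.Quotient.mk _ (C a))) = e₀ (Ideal.Quotient.mk _ (C a))
    rw [RingEquiv.apply_symm_apply, Ideal.quotientEquiv_mk]
    simp [eA]
  · ext a
    simp [π, eB, I']
  · refine CommRingCat.hom_ext (RingHom.ext fun a => ?_)
    exact (congrArg j (e₀.apply_symm_apply a)).symm


theorem fibreCond_chart (s : ↥(Spec (CommRingCat.of A))) :
    FibreCond ((goodOpen F g).ι ≫ chartStr F g) s := by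
  haveI : LocallyOfFinitePresentation (chartStr F g) := by
    rw [chartStr, HasRingHomProperty.Spec_iff (P := @LocallyOfFinitePresentation)]
    refine RingHom.FinitePresentation.comp (RingHom.FinitePresentation.of_surjective _ Ideal.Quotient.mk_surjective ?_) ?_
    · rw [Ideal.mk_ker]
      exact (Submodule.fg_span (Set.finite_range F)).sup (Submodule.fg_span_singleton g)
    · exact (RingHom.finitePresentation_algebraMap (A := A) (B := MvPolynomial (Fin r ⊕ Fin 2) A)).mpr inferInstance
  let f := (goodOpen F g).ι ≫ chartStr F g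
  let κ := (Spec (CommRingCat.of A)).residueField s
  let K : Type u := AlgebraicClosure κ
  let σ₀ : Spec (CommRingCat.of K) ⟶ Spec κ := Spec.map (CommRingCat.ofHom (algebraMap κ K))
  obtain ⟨φ', hφ'⟩ := Spec.map_surjective (σ₀ ≫ (Spec (CommRingCat.of A)).fromSpecResidueField s)
  let φ : A →+* K := φ'.hom
  let G := fun m => MvPolynomial.map φ (F m)
  let h := MvPolynomial.map φ g
  obtain ⟨j₀, hj₀, hpush⟩ : ∃ j : chartRing F g →+* chartRing G h,
      (∀ x, j (Ideal.Quotient.mk _ x) = Ideal.Quotient.mk _ (MvPolynomial.map φ x)) ∧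
      CategoryTheory.IsPushout (CommRingCat.ofHom φ) (CommRingCat.ofHom ((Ideal.Quotient.mk (eqs F g)).comp C))
        (CommRingCat.ofHom ((Ideal.Quotient.mk (eqs G h)).comp C)) (CommRingCat.ofHom j) :=
    exists_isPushout_chart F g φ
  have sqA : IsPullback (Spec.map (CommRingCat.ofHom j₀)) (chartStr G h) (chartStr F g)
      (σ₀ ≫ (Spec (CommRingCat.of A)).fromSpecResidueField s) := by
    rw [← hφ']
    exact (isPullback_SpecMap_of_isPushout _ _ _ _ hpush).flip
  have hU := goodOpen_comap φ j₀ hj₀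
  let jU : (goodOpen G h : Scheme.{u}) ⟶ (goodOpen F g : Scheme.{u}) :=
    ((Spec (CommRingCat.of (chartRing G h))).isoOfEq hU.symm).hom ≫ (Spec.map (CommRingCat.ofHom j₀) ∣_ goodOpen F g)
  have sqU : IsPullback jU (goodOpen G h).ι (goodOpen F g).ι (Spec.map (CommRingCat.ofHom j₀)) := by
    refine IsPullback.of_iso (isPullback_morphismRestrict (Spec.map (CommRingCat.ofHom j₀)) (goodOpen F g))
      ((Spec (CommRingCat.of (chartRing G h))).isoOfEq hU) (Iso.refl _) (Iso.refl _) (Iso.refl _) ?_ ?_ ?_ ?_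
    · rw [← cancel_mono (goodOpen F g).ι]
      simp [jU]
      erw [Scheme.isoOfEq_hom_ι_assoc]
    all_goals simp [jU]
  have sq : IsPullback jU ((goodOpen G h).ι ≫ chartStr G h) f
      (σ₀ ≫ (Spec (CommRingCat.of A)).fromSpecResidueField s) := sqU.paste_vert sqA
  have sqF : IsPullback (f.fiberι s) (f.fiberToSpecResidueField s) f
      ((Spec (CommRingCat.of A)).fromSpecResidueField s) := IsPullback.of_hasPullback _ _
  let π := sqF.lift jU (((goodOpen G h).ι ≫ chartStr G h) ≫ σ₀) (by rw [sq.w, Category.assoc, Category.assoc, Category.assoc])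
  have sqπ : IsPullback π ((goodOpen G h).ι ≫ chartStr G h) (f.fiberToSpecResidueField s) σ₀ :=
    IsPullback.of_right (by rw [sqF.lift_fst]; exact sq) (sqF.lift_snd _ _ _) sqF
  obtain ⟨hcomp, hnod⟩ := good_chart G h ((goodOpen G h).ι ≫ chartStr G h) rfl
  letI : (goodOpen G h : Scheme.{u}).Over (Spec (CommRingCat.of K)) := ⟨(goodOpen G h).ι ≫ chartStr G h⟩
  letI : (f.fiber s).Over (Spec (CommRingCat.of ↥κ)) := ⟨f.fiberToSpecResidueField s⟩
  haveI : LocallyOfFinitePresentation (f.fiber s ↘ Spec (CommRingCat.of ↥κ)) := by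
    show LocallyOfFinitePresentation (f.fiberToSpecResidueField s)
    exact MorphismProperty.pullback_snd _ _ inferInstance
  haveI : LocallyOfFinitePresentation f := by dsimp [f]; infer_instance
  haveI : LocallyOfFinitePresentation (f.fiberToSpecResidueField s) := MorphismProperty.pullback_snd _ _ inferInstance
  haveI : LocallyOfFiniteType (f.fiberToSpecResidueField s) := inferInstance
  haveI : LocallyOfFiniteType ((goodOpen G h).ι ≫ chartStr G h) := MorphismProperty.of_isPullback sqπ inferInstance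
  haveI : Flat σ₀ := flat_spec_field σ₀
  haveI : Surjective σ₀ := ⟨fun x => ⟨Classical.arbitrary _, Subsingleton.elim _ _⟩⟩
  haveI : Subsingleton ↥(Spec κ) := inferInstanceAs (Subsingleton (PrimeSpectrum κ))
  have hcomp' : ∀ Z ∈ irreducibleComponents (f.fiber s : Type u), topologicalKrullDim Z = 1 := fun Z hZ => by
    obtain ⟨Z', hZ', e⟩ := (FibDim.component_dims_baseChange sqπ).ge ⟨Z, hZ, rfl⟩
    dsimp only at e
    rw [← e]
    exact hcomp Z' hZ'
  refine ⟨hcomp', ?_⟩
  exact (atWorstNodal_iff_of_isPullback (k := κ) (X := f.fiber s)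
    (dim_le_one_of_components (f.fiber s ↘ Spec (CommRingCat.of ↥κ)) hcomp') sqπ).mpr hnod

end Groth.Agent.NodeLib.Hess
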