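import Mathlib

/-!
# Descending an equality of ideals from a geometric point
-/

set_option autoImplicit false
set_option linter.style.haveILetI false

universe u v

namespace Groth.Agent.NodeLib.Hess

open MvPolynomial

section Field

variable {κ K : Type u} [Field κ] [Field K] (j : κ →+* K) {σ : Type}

theorem exists_coeffMap (v : MvPolynomial σ K) (c : σ → K) (hv : eval c v ≠ 0) :
    ∃ Λ : MvPolynomial σ K → MvPolynomial σ κ, (∀ p q, Λ (p + q) = Λ p + Λ q) ∧
      (∀ (q : MvPolynomial σ κ) (p : MvPolynomial σ K), Λ (map j q * p) = q * Λ p) ∧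
      eval c (map j (Λ v)) ≠ 0 := by
  classical
  letI := j.toAlgebra
  let b := Module.Basis.ofVectorSpace κ K
  let Λ : _ → MvPolynomial σ K → MvPolynomial σ κ := fun β p => ∑ d ∈ p.support, monomial d (b.repr (coeff d p) β)
  have hco : ∀ β p d, coeff d (Λ β p) = b.repr (coeff d p) β := fun β p d => by
    simp only [Λ, coeff_sum, coeff_monomial, Finset.sum_ite_eq']
    split_ifs with h
    · rfl
    · simp [MvPolynomial.notMem_support_iff.mp h]
  suffices h : ∃ β, eval c (map j (Λ β v)) ≠ 0 by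
    obtain ⟨β, hβ⟩ := h
    refine ⟨Λ β, fun p q => MvPolynomial.ext _ _ fun d => ?_, fun q p => MvPolynomial.ext _ _ fun d => ?_, hβ⟩
    · simp [hco]
    · rw [hco, coeff_mul, coeff_mul, map_sum, Finsupp.finsetSum_apply]
      refine Finset.sum_congr rfl fun x _ => ?_
      rw [coeff_map, hco, show j (coeff x.1 q) * coeff x.2 p = coeff x.1 q • coeff x.2 p from (Algebra.smul_def _ _).symm,
        map_smul, Finsupp.smul_apply, smul_eq_mul]
  by_contra hall
  push Not at hall
  refine hv ?_
  let s := v.support.biUnion fun d => (b.repr (coeff d v)).support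
  have key : v = ∑ β ∈ s, C (b β) * map j (Λ β v) := by
    refine MvPolynomial.ext _ _ fun d => ?_
    simp only [coeff_sum, coeff_C_mul, coeff_map, hco]
    by_cases hd : d ∈ v.support
    · conv_lhs => rw [← b.linearCombination_repr (coeff d v), Finsupp.linearCombination_apply, Finsupp.sum]
      refine (Finset.sum_subset (Finset.subset_biUnion_of_mem (fun d => (b.repr (coeff d v)).support) hd)
        (fun β _ hβ => by simp [Finsupp.notMem_support_iff.mp hβ])).trans ?_
      exact Finset.sum_congr rfl fun β _ => by rw [Algebra.smul_def, mul_comm]; rfl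
    · simp [MvPolynomial.notMem_support_iff.mp hd]
  rw [key, map_sum]
  exact Finset.sum_eq_zero fun β _ => by rw [map_mul, hall β, mul_zero]

/-- Membership in an ideal, up to a unit at the point, descends along field extensions. -/
theorem exists_mul_mem_of_field (E : Ideal (MvPolynomial σ κ)) (t : MvPolynomial σ κ) (c : σ → K)
    {v : MvPolynomial σ K} (hv : eval c v ≠ 0) (h : v * map j t ∈ E.map (map j)) :
    ∃ w, eval c (map j w) ≠ 0 ∧ w * t ∈ E := by
  obtain ⟨Λ, hadd, hmul, hne⟩ := exists_coeffMap j v c hv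
  refine ⟨Λ v, hne, ?_⟩
  have hE : ∀ z ∈ E.map (map j), Λ z ∈ E := by
    intro z hz
    have hz0 : Λ 0 = 0 := by simpa using hadd 0 0
    have key : ∀ a : MvPolynomial σ K, Λ (a * z) ∈ E := by
      induction hz using Submodule.span_induction with
      | mem w hw =>
        obtain ⟨e, he, rfl⟩ := hw
        intro a
        rw [mul_comm, hmul]; exact Ideal.mul_mem_right _ _ he
      | zero => intro a; rw [mul_zero, hz0]; exact zero_mem _
      | add w w' _ _ ih ih' => intro a; rw [mul_add, hadd]; exact add_mem (ih a) (ih' a)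
      | smul r w _ ih => intro a; rw [smul_eq_mul, ← mul_assoc]; exact ih _
    simpa using key 1
  rw [mul_comm (Λ v), ← hmul, mul_comm (map j t)]
  exact hE _ h

end Field

section Flat

variable {A : Type u} [CommRing A] {σ : Type}

theorem mem_mul_of_flat (I : Ideal (MvPolynomial σ A)) [Module.Flat A (MvPolynomial σ A ⧸ I)] (a : Ideal A)
    {z : MvPolynomial σ A} (hz : z ∈ I) (hza : z ∈ a.map C) : z ∈ a.map C * I := by
  obtain ⟨m, w, g, hw⟩ := Submodule.mem_span_set'.mp (show z ∈ Submodule.span (MvPolynomial σ A) (C '' (a : Set A)) from hza)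
  choose x hx hxg using fun i => (g i).2
  have h0 : ∑ i, x i • Ideal.Quotient.mk I (w i) = 0 := by
    have : ∑ i, Ideal.Quotient.mk I (C (x i) * w i) = 0 := by
      rw [← map_sum, Ideal.Quotient.eq_zero_iff_mem]
      convert hz using 1
      rw [← hw]
      exact Finset.sum_congr rfl fun i _ => by rw [hxg i, smul_eq_mul, mul_comm]
    refine Eq.trans (Finset.sum_congr rfl fun i _ => ?_) this
    rw [MvPolynomial.C_mul']; exact (map_smul (Ideal.Quotient.mkₐ A I) (x i) (w i)).symm
  obtain ⟨l, b, y, hy, hb⟩ := Module.Flat.isTrivialRelation_of_sum_smul_eq_zero h0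
  choose Y hY using fun i => Ideal.Quotient.mk_surjective (y i)
  have ht : ∀ i, w i - ∑ j, C (b i j) * Y j ∈ I := fun i => by
    rw [← Ideal.Quotient.eq_zero_iff_mem, map_sub, map_sum, sub_eq_zero]
    refine (hy i).trans (Finset.sum_congr rfl fun j _ => ?_)
    rw [MvPolynomial.C_mul', ← hY j]; exact (map_smul (Ideal.Quotient.mkₐ A I) (b i j) (Y j)).symm
  have hz' : z = ∑ i, C (x i) * (w i - ∑ j, C (b i j) * Y j) := by
    simp only [mul_sub, Finset.sum_sub_distrib, Finset.mul_sum, ← mul_assoc, ← map_mul]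
    rw [Finset.sum_comm (f := fun i j => C (x i * b i j) * Y j)]
    simp only [← Finset.sum_mul, ← map_sum, hb, map_zero, zero_mul, Finset.sum_const_zero, sub_zero]
    rw [← hw]
    exact Finset.sum_congr rfl fun i _ => by rw [hxg i, smul_eq_mul, mul_comm]
  rw [hz']
  exact Ideal.sum_mem _ fun i _ => Ideal.mul_mem_mul (Ideal.mem_map_of_mem _ (hx i)) (ht i)

theorem exists_clear {κ : Type u} [Field κ] (ι : A →+* κ)
    (hι : ∀ x : κ, ∃ a b : A, ι a ≠ 0 ∧ ι a * x = ι b) (E : Ideal (MvPolynomial σ A)) :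
    (∀ z : MvPolynomial σ κ, ∃ (a : A) (p : MvPolynomial σ A), ι a ≠ 0 ∧ map ι p = C (ι a) * z) ∧
      ∀ z ∈ E.map (map ι), ∃ (a : A) (p : MvPolynomial σ A), ι a ≠ 0 ∧ p ∈ E ∧ map ι p = C (ι a) * z := by
  have hmon : ∀ z : MvPolynomial σ κ, ∃ (a : A) (p : MvPolynomial σ A), ι a ≠ 0 ∧ map ι p = C (ι a) * z := by
    intro z
    induction z using MvPolynomial.induction_on' with
    | monomial d x =>
      obtain ⟨a, b, ha, e⟩ := hι x
      exact ⟨a, monomial d b, ha, by rw [map_monomial, C_mul_monomial, e]⟩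
    | add z z' ih ih' =>
      obtain ⟨a, p, ha, e⟩ := ih
      obtain ⟨a', p', ha', e'⟩ := ih'
      exact ⟨a * a', C a' * p + C a * p', by rw [map_mul]; exact mul_ne_zero ha ha', by
        simp only [map_add, map_mul, map_C, e, e']; ring⟩
  refine ⟨hmon, fun z hz => ?_⟩
  induction hz using Submodule.span_induction with
  | mem w hw => obtain ⟨p, hp, rfl⟩ := hw; exact ⟨1, p, by simp, hp, by simp⟩
  | zero => exact ⟨1, 0, by simp, zero_mem _, by simp⟩
  | add z z' _ _ ih ih' =>
    obtain ⟨a, p, ha, hp, e⟩ := ih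
    obtain ⟨a', p', ha', hp', e'⟩ := ih'
    exact ⟨a * a', C a' * p + C a * p', by rw [map_mul]; exact mul_ne_zero ha ha',
      add_mem (Ideal.mul_mem_left _ _ hp) (Ideal.mul_mem_left _ _ hp'), by
      simp only [map_add, map_mul, map_C, e, e']; ring⟩
  | smul r z _ ih =>
    obtain ⟨a, p, ha, hp, e⟩ := ih
    obtain ⟨a', q, ha', e'⟩ := hmon r
    exact ⟨a * a', q * p, by rw [map_mul]; exact mul_ne_zero ha ha', Ideal.mul_mem_left _ _ hp, by
      simp only [map_mul, e, e', smul_eq_mul]; ring⟩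

/-- An inclusion `E ≤ I` with `A[σ] ⧸ I` flat is an equality near a point if it is one at the geometric point. -/
theorem exists_mul_mem_of_geometric {κ K : Type u} [Field κ] [Field K] (ι : A →+* κ) (j : κ →+* K)
    (hι : ∀ x : κ, ∃ a b : A, ι a ≠ 0 ∧ ι a * x = ι b)
    (I E : Ideal (MvPolynomial σ A)) (hI : I.FG) (hEI : E ≤ I) [Module.Flat A (MvPolynomial σ A ⧸ I)]
    (c : σ → K)
    (h : ∀ t ∈ I, ∃ v, eval c v ≠ 0 ∧ v * map (j.comp ι) t ∈ E.map (map (j.comp ι))) :
    ∃ u, eval c (map (j.comp ι) u) ≠ 0 ∧ ∀ t ∈ I, u * t ∈ E := by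
  classical
  let θ : MvPolynomial σ A →+* K := (eval c).comp (map (j.comp ι))
  let q := RingHom.ker θ
  haveI : q.IsPrime := RingHom.ker_isPrime θ
  let L := Localization.AtPrime q
  let al := algebraMap (MvPolynomial σ A) L
  obtain ⟨hclear, hclearE⟩ := exists_clear ι hι E
  have hθC : ∀ a, θ (C a) = j (ι a) := fun a => by simp [θ]
  have hle : I.map al ≤ E.map al ⊔ (RingHom.ker ι).map (al.comp C) • I.map al := by
    rw [Ideal.map_le_iff_le_comap]
    intro t ht
    obtain ⟨v, hv, hvt⟩ := h t ht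
    rw [← MvPolynomial.map_map, show E.map (map (j.comp ι)) = (E.map (map ι)).map (map j) by
      rw [Ideal.map_map]; congr 1; exact (MvPolynomial.ringHom_ext (by simp) (by simp))] at hvt
    obtain ⟨w, hw, hwt⟩ := exists_mul_mem_of_field j (E.map (map ι)) (map ι t) c hv hvt
    obtain ⟨a, p, ha, ep⟩ := hclear w
    obtain ⟨a', e, ha', heE, ee⟩ := hclearE _ hwt
    have hz : C a' * p * t - C a * e ∈ RingHom.ker (map ι) := by
      rw [RingHom.mem_ker, map_sub, map_mul, map_mul, map_mul, map_C, map_C, ep, ee]; ring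
    rw [MvPolynomial.ker_map] at hz
    have hz' := mem_mul_of_flat I _ (sub_mem (Ideal.mul_mem_left _ _ ht) (Ideal.mul_mem_left _ _ (hEI heE))) hz
    have hu : IsUnit (al (C a' * p)) := by
      refine IsLocalization.map_units L (⟨C a' * p, fun hm => ?_⟩ : q.primeCompl)
      have hp : θ p = j (ι a) * eval c (map j w) := by
        show eval c (map (j.comp ι) p) = _
        rw [← MvPolynomial.map_map, ep, map_mul, map_mul, map_C, eval_C]
      rw [SetLike.mem_coe, RingHom.mem_ker, map_mul, hθC, hp] at hm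
      exact mul_ne_zero ((map_ne_zero j).mpr ha') (mul_ne_zero ((map_ne_zero j).mpr ha) hw) hm
    rw [Ideal.mem_comap]
    refine (Ideal.unit_mul_mem_iff_mem _ hu).mp ?_
    rw [← map_mul, show C a' * p * t = C a * e + (C a' * p * t - C a * e) by ring, map_add]
    refine add_mem (Ideal.mem_sup_left (Ideal.mem_map_of_mem _ (Ideal.mul_mem_left _ _ heE))) (Ideal.mem_sup_right ?_)
    have := Ideal.mem_map_of_mem al hz'
    rwa [Ideal.map_mul, Ideal.map_map] at this
  have hL : I.map al ≤ E.map al := by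
    refine Submodule.le_of_le_smul_of_le_jacobson_bot (hI.map al) ?_ hle
    refine le_trans ?_ (IsLocalRing.maximalIdeal_le_jacobson _)
    rw [Ideal.map_le_iff_le_comap]
    intro a ha
    refine (IsLocalization.AtPrime.to_map_mem_maximal_iff L q _).mpr ?_
    show θ (C a) = 0
    rw [hθC, show ι a = 0 from ha, map_zero]
  obtain ⟨s, hs⟩ := hI
  have hex : ∀ t : s, ∃ u, θ u ≠ 0 ∧ u * (t : MvPolynomial σ A) ∈ E := fun t => by
    have h2 : al t ∈ E.map al := hL (Ideal.mem_map_of_mem _ (hs ▸ Ideal.subset_span t.2))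
    rw [IsLocalization.algebraMap_mem_map_algebraMap_iff q.primeCompl] at h2
    obtain ⟨u, hu, hu2⟩ := h2
    exact ⟨u, hu, hu2⟩
  choose u hu hu2 using hex
  refine ⟨∏ t, u t, ?_, fun t ht => ?_⟩
  · show θ (∏ t, u t) ≠ 0
    rw [map_prod]; exact Finset.prod_ne_zero_iff.mpr fun t _ => hu t
  rw [← hs] at ht
  induction ht using Submodule.span_induction with
  | mem w hw =>
    rw [← Finset.prod_erase_mul _ _ (Finset.mem_univ (⟨w, hw⟩ : s)), mul_assoc]
    exact Ideal.mul_mem_left _ _ (hu2 ⟨w, hw⟩)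
  | zero => simp
  | add w w' _ _ ih ih' => rw [mul_add]; exact add_mem ih ih'
  | smul r w _ ih => rw [smul_eq_mul, mul_left_comm]; exact Ideal.mul_mem_left _ _ ih

end Flat

end Groth.Agent.NodeLib.Hess
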