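import Groth.Agent.NodeLib.Hessian
import Mathlib

/-!
# Expansion of an equation along a section of its singular scheme
-/

set_option autoImplicit false
set_option linter.style.haveILetI false

universe u

namespace Groth.Agent.NodeLib.Hess

open MvPolynomial

variable {A : Type u} [CommRing A] {r : ℕ}

theorem exists_taylor {σ : Type} [Fintype σ] [DecidableEq σ] (c : σ → A) (p : MvPolynomial σ A) :
    ∃ G : σ → MvPolynomial σ A, p - C (eval c p) = ∑ s, G s * (X s - C (c s)) ∧
      ∀ s, eval c (G s) = eval c (pderiv s p) := by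
  induction p using MvPolynomial.induction_on with
  | C a => exact ⟨0, by simp, by simp⟩
  | add p q hp hq =>
    obtain ⟨G, e, hG⟩ := hp
    obtain ⟨G', e', hG'⟩ := hq
    refine ⟨G + G', ?_, fun s => by simp [hG, hG']⟩
    simp only [map_add, Pi.add_apply, add_mul, Finset.sum_add_distrib, ← e, ← e']
    ring
  | mul_X p t hp =>
    obtain ⟨G, e, hG⟩ := hp
    refine ⟨fun s => G s * X t + if s = t then C (eval c p) else 0, ?_, fun s => ?_⟩
    · simp only [add_mul, Finset.sum_add_distrib, ite_mul, zero_mul, Finset.sum_ite_eq', Finset.mem_univ, if_true,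
        map_mul, eval_X]
      rw [show ∑ s, G s * X t * (X s - C (c s)) = X t * ∑ s, G s * (X s - C (c s)) by
        rw [Finset.mul_sum]; exact Finset.sum_congr rfl fun s _ => by ring, ← e]
      ring
    · rw [Derivation.leibniz, pderiv_X]
      by_cases h : s = t
      · subst h; simp [hG]; ring
      · simp [hG, h, Ne.symm h]; ring

variable (F : Fin r → MvPolynomial (Fin r ⊕ Fin 2) A) (c : Fin r ⊕ Fin 2 → A)

/-- The free coordinates along the section. -/
noncomputable abbrev tsec (i : Fin 2) : MvPolynomial (Fin r ⊕ Fin 2) A :=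
  X (Sum.inr i) - C (c (Sum.inr i))

variable {F c}

theorem eval_span_eq_zero (hF : ∀ m, eval c (F m) = 0) {p : MvPolynomial (Fin r ⊕ Fin 2) A}
    (hp : p ∈ Ideal.span (Set.range F)) : eval c p = 0 :=
  (Ideal.span_le.mpr (by rintro _ ⟨m, rfl⟩; exact hF m) :
    Ideal.span (Set.range F) ≤ RingHom.ker (eval c)) hp

theorem eval_D_C (i : Fin 2) (a : A) : D F i (C a) = 0 := (D F i).map_algebraMap a

theorem D_tsec (i j : Fin 2) : D F i (tsec c j) = if i = j then minor F else 0 := by
  rw [map_sub, D_X, eval_D_C, sub_zero]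

/-- Near the section the functions vanishing on it are combinations of the free coordinates. -/
theorem exists_reduce (hF : ∀ m, eval c (F m) = 0) :
    ∃ s : MvPolynomial (Fin r ⊕ Fin 2) A, eval c s = eval c (minor F) ∧
      ∀ p, eval c p = 0 → ∃ α : Fin 2 → MvPolynomial (Fin r ⊕ Fin 2) A,
        s * p - (α 0 * tsec c 0 + α 1 * tsec c 1) ∈ Ideal.span (Set.range F) := by
  classical
  choose G hG hG' using fun m => exists_taylor c (F m)
  let M : Matrix (Fin r) (Fin r) (MvPolynomial (Fin r ⊕ Fin 2) A) := Matrix.of fun m l => G m (Sum.inl l)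
  refine ⟨M.det, ?_, ?_⟩
  · rw [minor, RingHom.map_det, RingHom.map_det]
    congr 1
    refine Matrix.ext fun m l => ?_
    exact hG' m (Sum.inl l)
  have hw : ∀ m, (∑ l, M m l * (X (Sum.inl l) - C (c (Sum.inl l)))) =
      F m - ∑ i, G m (Sum.inr i) * tsec c i := fun m => by
    have := hG m
    rw [hF m, map_zero, sub_zero, Fintype.sum_sum_type] at this
    rw [this]
    simp [M, tsec]
  let J : Ideal (MvPolynomial (Fin r ⊕ Fin 2) A) := Ideal.span {tsec c 0, tsec c 1} ⊔ Ideal.span (Set.range F)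
  have ht : ∀ i, tsec c i ∈ J := fun i => Ideal.mem_sup_left (Ideal.subset_span (by fin_cases i <;> simp))
  have hz : ∀ s, M.det * (X s - C (c s)) ∈ J := by
    rintro (l | i)
    · have key : M.det * (X (Sum.inl l) - C (c (Sum.inl l))) =
          ∑ m, M.adjugate l m * (F m - ∑ i, G m (Sum.inr i) * tsec c i) := by
        have h1 : Matrix.mulVec M.adjugate (Matrix.mulVec M fun l => X (Sum.inl l) - C (c (Sum.inl l))) =
            M.det • fun l => (X (Sum.inl l) - C (c (Sum.inl l)) : MvPolynomial (Fin r ⊕ Fin 2) A) := by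
          rw [Matrix.mulVec_mulVec, Matrix.adjugate_mul, Matrix.smul_mulVec, Matrix.one_mulVec]
        have h2 := congrFun h1 l
        simp only [Matrix.mulVec, dotProduct, Pi.smul_apply, smul_eq_mul] at h2
        rw [← h2]
        exact Finset.sum_congr rfl fun m _ => by rw [← hw m]
      rw [key]
      exact Ideal.sum_mem _ fun m _ => Ideal.mul_mem_left _ _
        (sub_mem (Ideal.mem_sup_right (Ideal.subset_span ⟨m, rfl⟩)) (Ideal.sum_mem _ fun i _ => Ideal.mul_mem_left _ _ (ht i)))
    · exact Ideal.mul_mem_left _ _ (ht i)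
  intro p hp
  obtain ⟨H, hH, -⟩ := exists_taylor c p
  rw [hp, map_zero, sub_zero] at hH
  have hpJ : M.det * p ∈ J := by
    rw [hH, Finset.mul_sum]
    exact Ideal.sum_mem _ fun s _ => by rw [mul_left_comm]; exact Ideal.mul_mem_left _ _ (hz s)
  obtain ⟨y, hy, z, hz', e⟩ := Submodule.mem_sup.mp hpJ
  obtain ⟨a, b, rfl⟩ := Ideal.mem_span_pair.mp hy
  refine ⟨![a, b], ?_⟩
  rw [← e]
  simpa using hz'

/-- The quadratic expansion of `g` along a section of its critical scheme. -/
theorem exists_quadratic_section (g : MvPolynomial (Fin r ⊕ Fin 2) A) (hF : ∀ m, eval c (F m) = 0)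
    (hM : IsUnit (eval c (minor F))) (hD : ∀ i, eval c (D F i g) = 0) :
    ∃ s a b e : MvPolynomial (Fin r ⊕ Fin 2) A, eval c s = eval c (minor F) ∧
      s ^ 2 * (g - C (eval c g)) - (a * tsec c 0 ^ 2 + b * (tsec c 0 * tsec c 1) + e * tsec c 1 ^ 2) ∈
        Ideal.span (Set.range F) ∧
      4 * eval c a * eval c e - eval c b ^ 2 = eval c (hess F g) := by
  classical
  obtain ⟨s, hs, hred⟩ := exists_reduce hF
  set p := g - C (eval c g) with hpdef
  have hp0 : eval c p = 0 := by simp [p]
  have hpD : ∀ i, eval c (D F i p) = 0 := fun i => by rw [hpdef, map_sub, eval_D_C, sub_zero]; exact hD i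
  have hDI : ∀ i {z}, z ∈ Ideal.span (Set.range F) → eval c (D F i z) = 0 := fun i {z} hz =>
    eval_span_eq_zero hF (D_mem_span F hz)
  have hev : ∀ i (x y : MvPolynomial (Fin r ⊕ Fin 2) A), eval c (D F i (x * y)) =
      eval c x * eval c (D F i y) + eval c y * eval c (D F i x) := fun i x y => by
    rw [Derivation.leibniz, smul_eq_mul, smul_eq_mul, map_add, map_mul, map_mul]
  have ht0 : ∀ i, eval c (tsec c i) = 0 := fun i => by simp [tsec]
  obtain ⟨α, hα⟩ := hred p hp0
  have hα0 : ∀ i, eval c (α i) = 0 := by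
    intro i
    have h1 := hDI i hα
    rw [map_sub, map_sub, map_add, map_add, hev, hev, hev, hp0, hpD, ht0, ht0] at h1
    refine (hM.mul_left_eq_zero).mp ?_
    rw [D_tsec, D_tsec] at h1
    fin_cases i <;> simpa using h1
  obtain ⟨β₀, hβ₀⟩ := hred _ (hα0 0)
  obtain ⟨β₁, hβ₁⟩ := hred _ (hα0 1)
  set a := β₀ 0 with ha
  set b := β₀ 1 + β₁ 0 with hb
  set e := β₁ 1 with he
  have hmem : s ^ 2 * p - (a * tsec c 0 ^ 2 + b * (tsec c 0 * tsec c 1) + e * tsec c 1 ^ 2) ∈
      Ideal.span (Set.range F) := by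
    have := add_mem (Ideal.mul_mem_left _ s hα)
      (add_mem (Ideal.mul_mem_left _ (tsec c 0) hβ₀) (Ideal.mul_mem_left _ (tsec c 1) hβ₁))
    convert this using 1
    rw [ha, hb, he]; ring
  refine ⟨s, a, b, e, hs, hmem, ?_⟩
  have key : ∀ i j, eval c (D F i (D F j (s ^ 2 * p))) = eval c (D F i (D F j
      (a * tsec c 0 ^ 2 + b * (tsec c 0 * tsec c 1) + e * tsec c 1 ^ 2))) := fun i j => by
    rw [← sub_eq_zero, ← map_sub, ← map_sub, ← map_sub]
    exact hDI i (D_mem_span F hmem)
  have lhs : ∀ i j, eval c (D F i (D F j (s ^ 2 * p))) = eval c s ^ 2 * eval c (D F i (D F j g)) := fun i j => by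
    have e' : D F j p = D F j g := by rw [hpdef, map_sub, eval_D_C, sub_zero]
    rw [Derivation.leibniz, smul_eq_mul, smul_eq_mul, map_add, map_add, hev, hev]
    simp only [hpD, hp0, e', hD, map_pow]
    ring
  have h4 : eval c (hess F g) * eval c s ^ 4 =
      eval c (minor F) ^ 4 * (4 * eval c a * eval c e - eval c b ^ 2) := by
    have h5 : eval c (hess F g) * eval c s ^ 4 =
        eval c (D F 0 (D F 0 (s ^ 2 * p))) * eval c (D F 1 (D F 1 (s ^ 2 * p))) -
          eval c (D F 0 (D F 1 (s ^ 2 * p))) * eval c (D F 1 (D F 0 (s ^ 2 * p))) := by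
      simp only [lhs, hess, Matrix.det_fin_two, Matrix.of_apply, map_sub, map_mul]
      ring
    rw [h5, key, key, key, key]
    simp only [map_add, Derivation.leibniz, smul_eq_mul, pow_two, D_tsec]
    simp [ht0]
    ring
  rw [hs, mul_comm (eval c (minor F) ^ 4)] at h4
  exact ((hM.pow 4).mul_left_inj.mp h4).symm

end Groth.Agent.NodeLib.Hess
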