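import Groth.Agent.NodeLib.NodeSplit
import Groth.Agent.NodeLib.NodeSection
import Mathlib

/-!
# The local model of a node in a chart
-/

set_option autoImplicit false
set_option linter.style.haveILetI false

universe u

open CategoryTheory AlgebraicGeometry MvPolynomial

namespace Groth.Agent.NodeLib.Hess

variable {A : Type u} [CommRing A] {r : ℕ} {F : Fin r → MvPolynomial (Fin r ⊕ Fin 2) A}
  {g : MvPolynomial (Fin r ⊕ Fin 2) A}

section Kernel

variable {K : Type u} [Field K] (φ : A →+* K) (c : Fin r ⊕ Fin 2 → K)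

theorem kernel_rows {ξ : Fin r ⊕ Fin 2 → K}
    (hξ : ∀ m, ∑ t, eval₂Hom φ c (pderiv t (F m)) * ξ t = 0) (p : MvPolynomial (Fin r ⊕ Fin 2) A) :
    eval₂Hom φ c (minor F) * ∑ t, eval₂Hom φ c (pderiv t p) * ξ t =
      ∑ i, eval₂Hom φ c (D F i p) * ξ (Sum.inr i) := by
  classical
  have hl : ∀ l, eval₂Hom φ c (minor F) * ξ (Sum.inl l) =
      - ∑ i, eval₂Hom φ c (coef F i l) * ξ (Sum.inr i) := by
    intro l
    have h1 : ∀ m, ∑ l', eval₂Hom φ c (jac F m l') * ξ (Sum.inl l') =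
        - ∑ i, eval₂Hom φ c (pderiv (Sum.inr i) (F m)) * ξ (Sum.inr i) := fun m => by
      rw [eq_neg_iff_add_eq_zero]
      have := hξ m
      rw [Fintype.sum_sum_type] at this
      exact this
    have h2 : eval₂Hom φ c (minor F) * ξ (Sum.inl l) =
        ∑ m, eval₂Hom φ c ((jac F).adjugate l m) * ∑ l', eval₂Hom φ c (jac F m l') * ξ (Sum.inl l') := by
      have : ∀ l', ∑ m, eval₂Hom φ c ((jac F).adjugate l m) * eval₂Hom φ c (jac F m l') =
          if l = l' then eval₂Hom φ c (minor F) else 0 := fun l' => by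
        simp only [← map_mul, ← map_sum]
        rw [← Matrix.mul_apply, Matrix.adjugate_mul, Matrix.smul_apply, Matrix.one_apply, minor]
        split_ifs <;> simp
      simp only [Finset.mul_sum]
      rw [Finset.sum_comm]
      simp only [← mul_assoc, ← Finset.sum_mul, this, ite_mul, zero_mul, Finset.sum_ite_eq, Finset.mem_univ, if_true]
    rw [h2]
    simp only [h1, mul_neg, Finset.sum_neg_distrib, Finset.mul_sum]
    rw [Finset.sum_comm]
    congr 1
    refine Finset.sum_congr rfl fun i _ => ?_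
    rw [coef]
    simp only [Matrix.mulVec, dotProduct, map_sum, map_mul, Finset.sum_mul, mul_assoc]
  rw [Fintype.sum_sum_type, mul_add, Finset.mul_sum, Finset.mul_sum]
  simp only [D_apply, map_sub, map_mul, map_sum, sub_mul, Finset.sum_mul, Finset.sum_sub_distrib]
  have : ∀ l, eval₂Hom φ c (minor F) * (eval₂Hom φ c (pderiv (Sum.inl l) p) * ξ (Sum.inl l)) =
      - ∑ i, eval₂Hom φ c (coef F i l) * eval₂Hom φ c (pderiv (Sum.inl l) p) * ξ (Sum.inr i) := fun l => by
    rw [mul_left_comm, hl, mul_neg, Finset.mul_sum]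
    congr 1
    exact Finset.sum_congr rfl fun i _ => by ring
  rw [Finset.sum_congr rfl fun l _ => this l, Finset.sum_neg_distrib, Finset.sum_comm, neg_add_eq_sub]
  congr 1
  exact Finset.sum_congr rfl fun i _ => (mul_assoc _ _ _).symm

theorem eq_zero_of_kernel (hM : eval₂Hom φ c (minor F) ≠ 0) {ξ : Fin r ⊕ Fin 2 → K}
    (hξ : ∀ m, ∑ t, eval₂Hom φ c (pderiv t (F m)) * ξ t = 0) (h0 : ξ (Sum.inr 0) = 0) (h1 : ξ (Sum.inr 1) = 0) :
    ξ = 0 := by
  classical
  funext t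
  rcases t with l | i
  · have h := kernel_rows φ c hξ (X (Sum.inl l))
    simp only [Fin.sum_univ_two, h0, h1, mul_zero, add_zero] at h
    have h' := (mul_eq_zero.mp h).resolve_left hM
    simpa [pderiv_X, Pi.single_apply] using h'
  · fin_cases i
    · exact h0
    · exact h1

end Kernel

/-- The equations of the singular scheme of a chart. -/
noncomputable def singEqs (F : Fin r → MvPolynomial (Fin r ⊕ Fin 2) A) (g : MvPolynomial (Fin r ⊕ Fin 2) A) :
    Fin r ⊕ Fin 2 → MvPolynomial (Fin r ⊕ Fin 2) A :=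
  Sum.elim F fun i => D F i g

/-- What is inverted on the singular scheme. -/
noncomputable def singUnit (F : Fin r → MvPolynomial (Fin r ⊕ Fin 2) A) (g : MvPolynomial (Fin r ⊕ Fin 2) A) :
    MvPolynomial (Fin r ⊕ Fin 2) A :=
  (Matrix.of fun i j => pderiv j (singEqs F g i)).det * minor F

theorem singUnit_ne_zero {K : Type u} [Field K] (φ : A →+* K) (c : Fin r ⊕ Fin 2 → K)
    (hM : eval₂Hom φ c (minor F) ≠ 0) (hH : eval₂Hom φ c (hess F g) ≠ 0) :
    eval₂Hom φ c (singUnit F g) ≠ 0 := by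
  classical
  rw [singUnit, map_mul]
  refine mul_ne_zero ?_ hM
  rw [RingHom.map_det]
  intro h0
  obtain ⟨ξ, hξ, hξ0⟩ := Matrix.exists_mulVec_eq_zero_iff.mpr h0
  refine hξ ?_
  have hrow : ∀ i, ∑ j, eval₂Hom φ c (pderiv j (singEqs F g i)) * ξ j = 0 := fun i => congrFun hξ0 i
  have hF : ∀ m, ∑ t, eval₂Hom φ c (pderiv t (F m)) * ξ t = 0 := fun m => hrow (Sum.inl m)
  have hd : ∀ j, ∑ i, eval₂Hom φ c (D F i (D F j g)) * ξ (Sum.inr i) = 0 := fun j => by
    rw [← kernel_rows φ c hF]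
    exact mul_eq_zero_of_right _ (hrow (Sum.inr j))
  have e0 := hd 0
  have e1 := hd 1
  rw [Fin.sum_univ_two] at e0 e1
  simp only [hess, Matrix.det_fin_two, Matrix.of_apply, map_sub, map_mul] at hH
  refine eq_zero_of_kernel φ c hM hF ?_ ?_
  · refine (mul_eq_zero.mp ?_).resolve_left hH
    linear_combination (eval₂Hom φ c (D F 1 (D F 1 g))) * e0 - (eval₂Hom φ c (D F 1 (D F 0 g))) * e1
  · refine (mul_eq_zero.mp ?_).resolve_left hH
    linear_combination (eval₂Hom φ c (D F 0 (D F 0 g))) * e1 - (eval₂Hom φ c (D F 0 (D F 1 g))) * e0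

theorem exists_coords {A : Type u} [CommRing A] (F : Fin r → MvPolynomial (Fin r ⊕ Fin 2) A)
    (c' : Fin r ⊕ Fin 2 → A) (a b e : MvPolynomial (Fin r ⊕ Fin 2) A) {K : Type u} [Field K] (φ : A →+* K)
    (c : Fin r ⊕ Fin 2 → K) (hc : ∀ t, φ (c' t) = c t) (hM : eval₂Hom φ c (minor F) ≠ 0)
    (hd : 4 * eval₂Hom φ c a * eval₂Hom φ c e - eval₂Hom φ c b ^ 2 ≠ 0) :
    ∃ a' b' e' u v : MvPolynomial (Fin r ⊕ Fin 2) A,
      a' * u ^ 2 + b' * (u * v) + e' * v ^ 2 =
        a * tsec c' 0 ^ 2 + b * (tsec c' 0 * tsec c' 1) + e * tsec c' 1 ^ 2 ∧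
      eval₂Hom φ c a' ≠ 0 ∧ 4 * eval₂Hom φ c a' * eval₂Hom φ c e' - eval₂Hom φ c b' ^ 2 ≠ 0 ∧
      eval₂Hom φ c u = 0 ∧ eval₂Hom φ c v = 0 ∧
      ∀ ξ : Fin r ⊕ Fin 2 → K, (∀ m, ∑ t, eval₂Hom φ c (pderiv t (F m)) * ξ t = 0) →
        (∑ t, eval₂Hom φ c (pderiv t u) * ξ t = 0) → (∑ t, eval₂Hom φ c (pderiv t v) * ξ t = 0) → ξ = 0 := by
  classical
  have ht : ∀ i, eval₂Hom φ c (tsec c' i) = 0 := fun i => by simp [tsec, hc]
  have hdt : ∀ i (ξ : Fin r ⊕ Fin 2 → K), ∑ t, eval₂Hom φ c (pderiv t (tsec c' i)) * ξ t = ξ (Sum.inr i) :=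
    fun i ξ => by simp [tsec, pderiv_X, Pi.single_apply]
  by_cases ha : eval₂Hom φ c a ≠ 0
  · exact ⟨a, b, e, _, _, rfl, ha, hd, ht 0, ht 1, fun ξ hξ h0 h1 =>
      eq_zero_of_kernel φ c hM hξ (by rwa [hdt] at h0) (by rwa [hdt] at h1)⟩
  by_cases he : eval₂Hom φ c e ≠ 0
  · refine ⟨e, b, a, tsec c' 1, tsec c' 0, by ring, he, fun h => hd (by linear_combination h), ht 1, ht 0,
      fun ξ hξ h0 h1 => eq_zero_of_kernel φ c hM hξ (by rwa [hdt] at h1) (by rwa [hdt] at h0)⟩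
  push Not at ha he
  refine ⟨a + b + e, b + 2 * e, e, tsec c' 0, tsec c' 1 - tsec c' 0, by ring, ?_, ?_, ht 0, ?_, fun ξ hξ h0 h1 => ?_⟩
  · intro h
    refine hd ?_
    rw [map_add, map_add, ha, he, zero_add, add_zero] at h
    rw [ha, he, h]; ring
  · intro h
    refine hd ?_
    simp only [map_add, map_mul, map_ofNat] at h
    linear_combination h
  · rw [map_sub, ht, ht, sub_zero]
  · rw [hdt] at h0
    have e1 : ∑ t, eval₂Hom φ c (pderiv t (tsec c' 1 - tsec c' 0)) * ξ t = ξ (Sum.inr 1) - ξ (Sum.inr 0) := by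
      simp [tsec, pderiv_X, Pi.single_apply, sub_mul]
    rw [e1, h0, sub_zero] at h1
    exact eq_zero_of_kernel φ c hM hξ h0 h1

variable (F g) in
/-- An étale local model. -/
theorem exists_local_model {K : Type u} [Field K] [IsAlgClosed K] (φ : A →+* K) (c : Fin r ⊕ Fin 2 → K)
    (hF : ∀ m, eval₂Hom φ c (F m) = 0) (hg : eval₂Hom φ c g = 0) (hM : eval₂Hom φ c (minor F) ≠ 0)
    (hD : ∀ i, eval₂Hom φ c (D F i g) = 0) (hH : eval₂Hom φ c (hess F g) ≠ 0) :
    ∃ (A' : Type u) (_ : CommRing A') (α : A →+* A') (a₀ : A') (U : Type u) (_ : CommRing U)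
      (φR : chartRing F g →+* U) (β : Split.Base a₀ →+* U) (φK : U →+* K),
      α.Etale ∧ Etale (Spec.map (CommRingCat.ofHom φR)) ∧ β.Etale ∧
      φR.comp ((Ideal.Quotient.mk (eqs F g)).comp C) = (β.comp (Split.baseC a₀)).comp α ∧
      ∀ p, φK (φR (Ideal.Quotient.mk (eqs F g) p)) = eval₂Hom φ c p := by
  classical
  let A' := Sys A (singEqs F g) (singUnit F g)
  let ofA : MvPolynomial (Fin r ⊕ Fin 2) A →+* A' := Sys.of A (singEqs F g) (singUnit F g)
  let α : A →+* A' := algebraMap A A'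
  let c' : Fin r ⊕ Fin 2 → A' := fun t => ofA (X t)
  have hev : ∀ p, MvPolynomial.eval c' (MvPolynomial.map α p) = ofA p := fun p => by
    rw [MvPolynomial.eval_map]
    show eval₂Hom α c' p = ofA p
    refine RingHom.congr_fun (MvPolynomial.ringHom_ext (fun x => ?_) (fun t => ?_)) p
    · rw [eval₂Hom_C]; exact Sys.algebraMap_eq x
    · rw [eval₂Hom_X']
  let F' := fun m => MvPolynomial.map α (F m)
  let g' := MvPolynomial.map α g
  have hF' : ∀ m, MvPolynomial.eval c' (F' m) = 0 := fun m => (hev _).trans (Sys.of_rel (Sum.inl m))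
  have hD' : ∀ i, MvPolynomial.eval c' (D F' i g') = 0 := fun i => by
    rw [D_map, hev]; exact Sys.of_rel (f := singEqs F g) (h := singUnit F g) (Sum.inr i)
  have hM' : IsUnit (MvPolynomial.eval c' (minor F')) := by
    rw [minor_map, hev]
    have h := Sys.isUnit_of (R := A) (f := singEqs F g) (h := singUnit F g)
    rw [singUnit, map_mul] at h
    exact isUnit_of_mul_isUnit_right h
  obtain ⟨s, a, b, e, hs, hq, hdisc⟩ := exists_quadratic_section g' hF' hM' hD'
  obtain ⟨φ', hφ'⟩ := Sys.exists_lift (R := A) (f := singEqs F g) (h := singUnit F g) φ c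
    (by rintro (m | i); exacts [hF m, hD i]) (isUnit_iff_ne_zero.mpr (singUnit_ne_zero φ c hM hH))
  have hc : ∀ t, φ' (c' t) = c t := fun t => (hφ' _).trans (eval₂Hom_X' _ _ _)
  have hα : φ'.comp α = φ := RingHom.ext fun x => by
    show φ' (algebraMap A A' x) = φ x
    rw [Sys.algebraMap_eq, hφ', eval₂Hom_C]
  have hK : ∀ q, eval₂Hom φ' c q = φ' (MvPolynomial.eval c' q) := fun q => by
    have : eval₂Hom φ' c = φ'.comp (MvPolynomial.eval c') :=
      MvPolynomial.ringHom_ext (fun x => by simp) (fun t => by simp [hc])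
    rw [this]; rfl
  have hKmap : ∀ p, eval₂Hom φ' c (MvPolynomial.map α p) = eval₂Hom φ c p := fun p => by
    rw [hK, hev]; exact hφ' p
  have hMK : eval₂Hom φ' c (minor F') ≠ 0 := by rw [minor_map, hKmap]; exact hM
  have hdK : 4 * eval₂Hom φ' c a * eval₂Hom φ' c e - eval₂Hom φ' c b ^ 2 ≠ 0 := by
    rw [hK, hK, hK, ← map_pow φ', ← map_ofNat φ' 4, ← map_mul, ← map_mul, ← map_sub, hdisc, ← hK, hess_map, hKmap]
    exact hH
  obtain ⟨a', b', e', u, v, hform, ha', hd', hu, hv, hker⟩ := exists_coords F' c' a b e φ' c hc hMK hdK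
  have hq' : s ^ 2 * (g' - C (MvPolynomial.eval c' g')) - (a' * u ^ 2 + b' * (u * v) + e' * v ^ 2) ∈ Ideal.span (Set.range F') := by
    rw [hform]; exact hq
  have hsK : eval₂Hom φ' c s ≠ 0 := by rw [hK, hs, ← hK]; exact hMK
  obtain ⟨U, iU, φR', β, φK, hRe, hβ, hcomm, hKU⟩ := Split.exists_cover hq' φ' c
    (fun m => (hKmap _).trans (hF m)) ((hKmap _).trans hg) hsK ha' hd' hu hv hker
  obtain ⟨j, hj, hpo⟩ := exists_isPushout_chart F g α
  have hαe : α.Etale := RingHom.etale_algebraMap.mpr (Sys.etale (dvd_mul_right _ _))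
  refine ⟨A', inferInstance, α, MvPolynomial.eval c' g', U, iU, φR'.comp j, β, φK, hαe, ?_, hβ, ?_, fun p => ?_⟩
  · haveI : Etale (Spec.map (CommRingCat.ofHom φR')) := (HasRingHomProperty.Spec_iff (P := @Etale)).mpr hRe
    haveI : Etale (Spec.map (CommRingCat.ofHom α)) := (HasRingHomProperty.Spec_iff (P := @Etale)).mpr hαe
    haveI : Etale (Spec.map (CommRingCat.ofHom j)) :=
      MorphismProperty.of_isPullback (isPullback_SpecMap_of_isPushout _ _ _ _ hpo) inferInstance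
    rw [CommRingCat.ofHom_comp, Spec.map_comp]
    infer_instance
  · refine RingHom.ext fun x => ?_
    show φR' (j (Ideal.Quotient.mk _ (C x))) = β (Split.baseC _ (α x))
    rw [hj, map_C]
    exact RingHom.congr_fun hcomm (α x)
  · show φK (φR' (j (Ideal.Quotient.mk _ p))) = _
    rw [hj, hKU, hKmap]

end Groth.Agent.NodeLib.Hess
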