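import Groth.Agent.NodeLib.NodeOpen
import Groth.Agent.NodeLib.NodeLocalModel

/-!
# The étale local structure of a family at a node of a fibre
-/

set_option autoImplicit false
set_option linter.style.haveILetI false

universe u

open CategoryTheory CategoryTheory.Limits AlgebraicGeometry IsLocalRing MvPolynomial

namespace Groth.Agent.NodeLib

theorem exists_etale_model {X S : Scheme.{u}} (f : X ⟶ S) [Flat f] [LocallyOfFinitePresentation f] (p : X)
    (hn : @Curv2.IsNode (S.residueField (f p)) _ (f.fiber (f p)) ⟨f.fiberToSpecResidueField (f p)⟩ (f.asFiber p)) :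
    ∃ (A' : Type u) (_ : CommRing A') (a₀ : A') (U : Scheme.{u}) (gU : U ⟶ X)
      (gV : Spec (CommRingCat.of A') ⟶ S) (e : U ⟶ Spec (CommRingCat.of (Split.Base a₀))),
      Etale gU ∧ Etale gV ∧ Etale e ∧
      gU ≫ f = (e ≫ Spec.map (CommRingCat.ofHom (Split.baseC a₀))) ≫ gV ∧ p ∈ Set.range gU.base := by
  classical
  letI : (f.fiber (f p)).Over (Spec (CommRingCat.of (S.residueField (f p)))) := ⟨f.fiberToSpecResidueField (f p)⟩
  obtain ⟨_, ⟨V, hV₀, rfl⟩, hpV, -⟩ := S.isBasis_affineOpens.exists_subset_of_mem_open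
    (Set.mem_univ (f p)) isOpen_univ
  obtain ⟨_, ⟨W, hW, rfl⟩, hpW, hWV⟩ := X.isBasis_affineOpens.exists_subset_of_mem_open
    (show p ∈ f ⁻¹ᵁ V from hpV) (f ⁻¹ᵁ V).isOpen
  have hWV' : W ≤ f ⁻¹ᵁ V := hWV
  have hV : IsAffineOpen V := hV₀
  let A : Type u := Γ(S, V)
  let B : Type u := Γ(X, W)
  let φ₀ : A →+* B := (f.appLE V W hWV').hom
  letI : Algebra A B := φ₀.toAlgebra
  haveI : Algebra.FinitePresentation A B :=
    RingHom.finitePresentation_algebraMap.mp (HasRingHomProperty.appLE @LocallyOfFinitePresentation f inferInstance ⟨V, hV⟩ ⟨W, hW⟩ hWV')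
  haveI : Module.Flat A B :=
    RingHom.flat_algebraMap_iff.mp (HasRingHomProperty.appLE @Flat f inferInstance ⟨V, hV⟩ ⟨W, hW⟩ hWV')
  obtain ⟨n, π, hπ, ⟨G, hG⟩⟩ := ‹Algebra.FinitePresentation A B›.out
  let N := G.card
  let fs : Fin N → MvPolynomial (Fin n) A := fun i => (G.equivFin.symm i : MvPolynomial (Fin n) A)
  have hI : Ideal.span (Set.range fs) = RingHom.ker π.toRingHom := by
    rw [show Set.range fs = (G : Set _) from ?_]
    · exact hG
    · ext z; exact ⟨fun ⟨i, hi⟩ => hi ▸ (G.equivFin.symm i).2, fun hz => ⟨G.equivFin ⟨z, hz⟩, by simp [fs]⟩⟩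
  let ρ : (MvPolynomial (Fin n) A ⧸ Ideal.span (Set.range fs)) ≃ₐ[A] B :=
    (Ideal.quotientEquivAlgOfEq A hI).trans (Ideal.quotientKerAlgEquivOfSurjective hπ)
  haveI : Module.Flat A (MvPolynomial (Fin n) A ⧸ Ideal.span (Set.range fs)) :=
    Module.Flat.of_linearEquiv ρ.toLinearEquiv
  let Q0 := MvPolynomial (Fin n) A ⧸ Ideal.span (Set.range fs)
  let str : Spec (CommRingCat.of Q0) ⟶ Spec (CommRingCat.of A) :=
    Spec.map (CommRingCat.ofHom ((Ideal.Quotient.mk (Ideal.span (Set.range fs))).comp C))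
  let iW : Spec (CommRingCat.of Q0) ⟶ X := Spec.map ρ.toRingEquiv.toCommRingCatIso.inv ≫ hW.fromSpec
  have hcomm : iW ≫ f = str ≫ hV.fromSpec := by
    rw [Category.assoc, ← hV.SpecMap_appLE_fromSpec f hW hWV', ← Category.assoc, ← Spec.map_comp]
    congr 2
    ext a
    exact (ρ.symm.commutes a)
  obtain ⟨P₀, hP₀⟩ : p ∈ Set.range iW.base := by
    have hsur : Function.Surjective (Spec.map ρ.toRingEquiv.toCommRingCatIso.inv).base :=
      (Spec.map ρ.toRingEquiv.toCommRingCatIso.inv).homeomorph.surjective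
    obtain ⟨q, hq⟩ : p ∈ Set.range hW.fromSpec.base := by rw [hW.range_fromSpec]; exact hpW
    obtain ⟨q', rfl⟩ := hsur q
    exact ⟨q', hq⟩
  let s₀ : PrimeSpectrum A := str P₀
  have hs₀ : hV.fromSpec s₀ = f p := by
    rw [← hP₀]; show (str ≫ hV.fromSpec) P₀ = (iW ≫ f) P₀; rw [hcomm]
  let κ := s₀.asIdeal.ResidueField
  let K := AlgebraicClosure κ
  let ι : A →+* κ := algebraMap A κ
  let j : κ →+* K := algebraMap κ K
  have hι : ∀ x : κ, ∃ a b : A, ι a ≠ 0 ∧ ι a * x = ι b := fun x => by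
    obtain ⟨a, ⟨b, hb⟩, rfl⟩ := IsLocalization.exists_mk'_eq (nonZeroDivisors (A ⧸ s₀.asIdeal)) x
    obtain ⟨a, rfl⟩ := Ideal.Quotient.mk_surjective a
    obtain ⟨b, rfl⟩ := Ideal.Quotient.mk_surjective b
    refine ⟨b, a, fun h => nonZeroDivisors.ne_zero hb (Ideal.Quotient.eq_zero_iff_mem.mpr
      (Ideal.algebraMap_residueField_eq_zero.mp h)), ?_⟩
    exact IsLocalization.mk'_spec' κ (Ideal.Quotient.mk _ a) ⟨Ideal.Quotient.mk _ b, hb⟩
  let φ : A →+* K := j.comp ι
  let θA : Spec (CommRingCat.of K) ⟶ Spec (CommRingCat.of A) := Spec.map (CommRingCat.ofHom φ)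
  let θ := θA ≫ hV.fromSpec
  have hθA : ∀ x, θA x = s₀ := fun x => by
    refine PrimeSpectrum.ext ?_
    show x.asIdeal.comap φ = s₀.asIdeal
    rw [(Ideal.eq_bot_or_top (x.asIdeal : Ideal K)).resolve_right x.isPrime.ne_top,
      ← Ideal.comap_comap, Ideal.comap_bot_of_injective _ j.injective]
    exact (RingHom.ker_eq_comap_bot ι).symm.trans (Ideal.ker_algebraMap_residueField _)
  obtain ⟨s', ψ, hθ⟩ : ∃ (s' : S) (ψ : S.residueField s' ⟶ CommRingCat.of K), Spec.map ψ ≫ S.fromSpecResidueField s' = θ :=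
    ⟨_, _, (Scheme.SpecToEquivOfField K S).symm_apply_apply θ⟩
  have hs' : s' = f p := by
    have h1 : θ (closedPoint K) = s' := by
      rw [← hθ]
      show S.fromSpecResidueField s' ((Spec.map ψ) (closedPoint K)) = s'
      exact Scheme.fromSpecResidueField_apply s' _
    rw [← h1]
    show hV.fromSpec (θA (closedPoint K)) = f p
    rw [hθA, hs₀]
  subst hs'
  -- geometric fibre
  let G' : Fin N → MvPolynomial (Fin n) K := fun i => map φ (fs i)
  let IK := Ideal.span (Set.range G')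
  have hIK : RingHom.ker (Ideal.Quotient.mk IK) = (Ideal.span (Set.range fs)).map (map φ) := by
    rw [Ideal.mk_ker, Ideal.map_span, ← Set.range_comp]; rfl
  obtain ⟨j₀, hj₀, hpo⟩ := FibFlat.exists_isPushout_presentation φ (Ideal.Quotient.mk IK)
    Ideal.Quotient.mk_surjective (Ideal.span (Set.range fs)) hIK
  let R' := MvPolynomial (Fin n) K ⧸ IK
  let strK : Spec (CommRingCat.of R') ⟶ Spec (CommRingCat.of K) := Spec.map (CommRingCat.ofHom ((Ideal.Quotient.mk IK).comp C))
  have sqA : IsPullback (Spec.map (CommRingCat.ofHom j₀)) strK str θA :=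
    (isPullback_SpecMap_of_isPushout _ _ _ _ hpo).flip
  let X' := pullback f θ
  let jX : Spec (CommRingCat.of R') ⟶ X' := pullback.lift (Spec.map (CommRingCat.ofHom j₀) ≫ iW) strK (by
    rw [Category.assoc, hcomm, ← Category.assoc, sqA.w, Category.assoc])
  haveI : IsOpenImmersion iW := inferInstance
  haveI : IsOpenImmersion jX := by
    -- base change of `iW`
    have sq1 : IsPullback (Spec.map (CommRingCat.ofHom j₀)) strK (str ≫ hV.fromSpec) θ := by
      have := sqA.paste_vert (IsPullback.of_vert_isIso_mono (fst := θA) (snd := 𝟙 _) (f := hV.fromSpec) (g := θ) ⟨by simp [θ]⟩)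
      simpa using this
    have sq2 : IsPullback jX (Spec.map (CommRingCat.ofHom j₀)) (pullback.fst f θ) iW :=
      (IsPullback.of_bot (by rw [pullback.lift_snd, hcomm]; exact sq1) (pullback.lift_fst _ _ _).symm
        (IsPullback.of_hasPullback f θ)).flip
    exact MorphismProperty.of_isPullback sq2.flip inferInstance
  obtain ⟨Q, hQ, -⟩ := Scheme.exists_preimage_of_isPullback sqA P₀ (closedPoint K)
    ((hθA (closedPoint K)).trans rfl).symm
  let π' : X' ⟶ f.fiber (f p) := pullback.lift (pullback.fst f θ) (pullback.snd f θ ≫ Spec.map ψ) (by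
    rw [Category.assoc, hθ]; exact pullback.condition)
  have sqF : IsPullback (f.fiberι (f p)) (f.fiberToSpecResidueField (f p)) f (S.fromSpecResidueField (f p)) :=
    IsPullback.of_hasPullback _ _
  have sqX : IsPullback π' (pullback.snd f θ) (f.fiber (f p) ↘ Spec (CommRingCat.of (S.residueField (f p)))) (Spec.map ψ) := by
    refine IsPullback.of_right ?_ (pullback.lift_snd _ _ _) sqF
    rw [show π' ≫ f.fiberι (f p) = pullback.fst f θ from pullback.lift_fst _ _ _, hθ]
    exact IsPullback.of_hasPullback f θ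
  have hz : π' (jX Q) = f.asFiber p := by
    refine (f.fiberι (f p)).isEmbedding.injective ?_
    rw [f.fiberι_asFiber, ← Scheme.Hom.comp_apply, show π' ≫ f.fiberι (f p) = pullback.fst f θ from pullback.lift_fst _ _ _,
      ← Scheme.Hom.comp_apply, show jX ≫ pullback.fst f θ = Spec.map (CommRingCat.ofHom j₀) ≫ iW from pullback.lift_fst _ _ _,
      Scheme.Hom.comp_apply, hQ]
    exact hP₀
  haveI : LocallyOfFiniteType (f.fiber (f p) ↘ Spec (CommRingCat.of (S.residueField (f p)))) :=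
    MorphismProperty.pullback_snd _ _ inferInstance
  have hnp := hasNodePair_of_isNode hn sqX (jX Q) hz
  have hQc : IsClosed ({Q} : Set ↥(Spec (CommRingCat.of R'))) := by
    have h1 := RGLib.FibClosed.isClosed_singleton_of_field_ext π' _ _ _ sqX (jX Q) (hz ▸ hn.1)
    have h2 := h1.preimage jX.continuous
    rwa [show jX ⁻¹' {jX Q} = {Q} from Set.eq_singleton_iff_unique_mem.2
      ⟨rfl, fun z hz' => jX.isOpenEmbedding.injective hz'⟩] at h2
  obtain ⟨d, χ, hχ, hQd⟩ := Hess.exists_isPtQuot_stalk IK Q hQc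
  obtain ⟨r, eq, m, i₀, hM, ⟨hD, hH⟩, hmem⟩ := Hess.exists_selection d G' hχ
    (hnp.map_ringEquiv (asIso (jX.stalkMap Q)).commRingCatIsoToRingEquiv)
  have hP₀' : ∀ q, Ideal.Quotient.mk _ q ∈ (P₀ : PrimeSpectrum Q0).asIdeal ↔ eval d (MvPolynomial.map φ q) = 0 :=
    fun q => by rw [← hQd, ← hj₀, ← hQ]; rfl
  let F : Fin r → MvPolynomial (Fin r ⊕ Fin 2) A := fun l => rename eq.symm (fs (m l))
  let g : MvPolynomial (Fin r ⊕ Fin 2) A := rename eq.symm (fs i₀)
  let f' : Fin N → MvPolynomial (Fin r ⊕ Fin 2) A := fun i => rename eq.symm (fs i)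
  let c := d ∘ eq
  have hmapr : ∀ p, MvPolynomial.map φ (rename eq.symm p) = rename eq.symm (MvPolynomial.map φ p) := fun p =>
    MvPolynomial.map_rename φ _ p
  have heval : ∀ q, eval₂Hom φ c q = eval c (MvPolynomial.map φ q) := fun q => by
    rw [MvPolynomial.eval_map]; rfl
  have hfs : ∀ i, eval d (MvPolynomial.map φ (fs i)) = 0 := fun i =>
    hχ.eval_eq_zero (Ideal.subset_span ⟨i, rfl⟩)
  have hf' : ∀ i, eval₂Hom φ c (f' i) = 0 := fun i => by
    rw [heval, hmapr, eval_rename]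
    rw [show c ∘ eq.symm = d by funext t; simp [c]]
    exact hfs i
  have e1 : ∀ q, eval₂Hom φ c q = eval (d ∘ eq) (MvPolynomial.map φ q) := heval
  have hMA : eval₂Hom φ c (Hess.minor F) ≠ 0 := by
    rw [heval, ← Hess.minor_map]; simp only [F, hmapr]; exact hM
  have hDA : ∀ i, eval₂Hom φ c (Hess.D F i g) = 0 := fun i => by
    rw [heval, ← Hess.D_map]; simp only [F, g, hmapr]; exact hD i
  have hHA : eval₂Hom φ c (Hess.hess F g) ≠ 0 := by
    rw [heval, ← Hess.hess_map]; simp only [F, g, hmapr]; exact hH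
  set I' := Ideal.span (Set.range f') with hI'
  let ρq : Q0 ≃ₐ[A] (MvPolynomial (Fin r ⊕ Fin 2) A ⧸ I') :=
    Ideal.quotientEquivAlg _ _ (renameEquiv A eq.symm) (by
      rw [hI', Ideal.map_span, ← Set.range_comp]; rfl)
  haveI : Module.Flat A (MvPolynomial (Fin r ⊕ Fin 2) A ⧸ I') := Module.Flat.of_linearEquiv ρq.toLinearEquiv.symm
  have hEI : Hess.eqs F g ≤ I' := sup_le (Ideal.span_le.mpr (by rintro _ ⟨l, rfl⟩; exact Ideal.subset_span ⟨m l, rfl⟩))
    ((Ideal.span_singleton_le_iff_mem _).mpr (Ideal.subset_span ⟨i₀, rfl⟩))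
  obtain ⟨u, hu, huI⟩ := Hess.exists_mul_mem_of_geometric ι j hι I' (Hess.eqs F g)
    (Submodule.fg_span (Set.finite_range f')) hEI c (by
      intro t ht
      induction ht using Submodule.span_induction with
      | mem w hw =>
        obtain ⟨i, rfl⟩ := hw
        obtain ⟨s, hs, hs2⟩ := hmem i
        refine ⟨s, hs, ?_⟩
        rw [Hess.eqs_map, hmapr]
        convert hs2 using 4
        all_goals first | exact hmapr _ | (funext l; exact hmapr _)
      | zero => exact ⟨1, by simp, by simp⟩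
      | add w w' _ _ ih ih' =>
        obtain ⟨v, hv, h⟩ := ih
        obtain ⟨v', hv', h'⟩ := ih'
        refine ⟨v * v', by rw [map_mul]; exact mul_ne_zero hv hv', ?_⟩
        rw [map_add, show v * v' * (MvPolynomial.map φ w + MvPolynomial.map φ w') =
          v' * (v * MvPolynomial.map φ w) + v * (v' * MvPolynomial.map φ w') by ring]
        exact add_mem (Ideal.mul_mem_left _ _ h) (Ideal.mul_mem_left _ _ h')
      | smul a w _ ih =>
        obtain ⟨v, hv, h⟩ := ih
        refine ⟨v, hv, ?_⟩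
        rw [smul_eq_mul, map_mul, mul_left_comm]
        exact Ideal.mul_mem_left _ _ h)
  obtain ⟨A', _, α, a₀, U₁, _, φR, β, φK, hαe, hRe, hβe, hcommU, hKU⟩ :=
    Hess.exists_local_model F g φ c (fun l => hf' (m l)) (hf' i₀) hMA hDA hHA
  -- the common open piece
  let B' := MvPolynomial (Fin r ⊕ Fin 2) A ⧸ I'
  let ub : B' := Ideal.Quotient.mk I' u
  let Bu := Localization.Away ub
  let cl : Hess.chartRing F g →+* B' := Ideal.Quotient.factor hEI
  letI : Algebra (Hess.chartRing F g) Bu := ((algebraMap B' Bu).comp cl).toAlgebra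
  haveI : IsLocalization.Away (Ideal.Quotient.mk (Hess.eqs F g) u) Bu := by
    refine IsLocalization.Away.mk (Ideal.Quotient.mk (Hess.eqs F g) u) ?_ (fun z => ?_) (fun a b hab => ?_)
    · exact IsLocalization.Away.algebraMap_isUnit ub
    · obtain ⟨k, b, hb⟩ := IsLocalization.Away.surj ub z
      obtain ⟨q, rfl⟩ := Ideal.Quotient.mk_surjective b
      exact ⟨k, Ideal.Quotient.mk (Hess.eqs F g) q, hb⟩
    · obtain ⟨a, rfl⟩ := Ideal.Quotient.mk_surjective a
      obtain ⟨b, rfl⟩ := Ideal.Quotient.mk_surjective b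
      obtain ⟨k, hk⟩ := IsLocalization.Away.exists_of_eq (R := B') ub (show algebraMap B' Bu (Ideal.Quotient.mk I' a) = algebraMap B' Bu (Ideal.Quotient.mk I' b) from hab)
      refine ⟨k + 1, ?_⟩
      rw [← map_pow, ← map_mul, ← map_mul, Ideal.Quotient.eq]
      rw [← map_pow, ← map_mul, ← map_mul, Ideal.Quotient.eq] at hk
      rw [show u ^ (k + 1) * a - u ^ (k + 1) * b = u * (u ^ k * a - u ^ k * b) by ring]
      exact huI _ hk
  let q₁ : Spec (CommRingCat.of Bu) ⟶ Spec (CommRingCat.of B') := Spec.map (CommRingCat.ofHom (algebraMap B' Bu))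
  haveI : IsOpenImmersion q₁ := IsOpenImmersion.of_isLocalization (S := Bu) ub
  let q₂ : Spec (CommRingCat.of Bu) ⟶ Spec (CommRingCat.of (Hess.chartRing F g)) :=
    Spec.map (CommRingCat.ofHom (algebraMap (Hess.chartRing F g) Bu))
  haveI : IsOpenImmersion q₂ := IsOpenImmersion.of_isLocalization (S := Bu) (Ideal.Quotient.mk (Hess.eqs F g) u)
  let ρ' : Spec (CommRingCat.of B') ⟶ Spec (CommRingCat.of Q0) := Spec.map ρq.toRingEquiv.toCommRingCatIso.hom
  have hρ : ρ' ≫ str = Spec.map (CommRingCat.ofHom ((Ideal.Quotient.mk I').comp C)) := by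
    rw [← Spec.map_comp]
    congr 1
    ext a
    exact ρq.commutes a
  let sφR : Spec (CommRingCat.of U₁) ⟶ Spec (CommRingCat.of (Hess.chartRing F g)) := Spec.map (CommRingCat.ofHom φR)
  haveI : Etale sφR := hRe
  haveI : Etale (Spec.map (CommRingCat.ofHom β)) := (HasRingHomProperty.Spec_iff (P := @Etale)).mpr hβe
  haveI : Etale (Spec.map (CommRingCat.ofHom α)) := (HasRingHomProperty.Spec_iff (P := @Etale)).mpr hαe
  have hcA : sφR ≫ Hess.chartStr F g = (Spec.map (CommRingCat.ofHom β) ≫ Spec.map (CommRingCat.ofHom (Split.baseC a₀))) ≫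
      Spec.map (CommRingCat.ofHom α) := by
    rw [← Spec.map_comp, ← Spec.map_comp, ← Spec.map_comp, ← CommRingCat.ofHom_comp, ← CommRingCat.ofHom_comp,
      ← CommRingCat.ofHom_comp, hcommU]
  let U := pullback sφR q₂
  refine ⟨A', inferInstance, a₀, U, (pullback.snd sφR q₂ ≫ q₁ ≫ ρ') ≫ iW,
    Spec.map (CommRingCat.ofHom α) ≫ hV.fromSpec, pullback.fst sφR q₂ ≫ Spec.map (CommRingCat.ofHom β),
    inferInstance, inferInstance, inferInstance, ?_, ?_⟩
  · have hq12 : q₁ ≫ Spec.map (CommRingCat.ofHom ((Ideal.Quotient.mk I').comp C)) = q₂ ≫ Hess.chartStr F g := by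
      rw [← Spec.map_comp, ← Spec.map_comp]; rfl
    calc ((pullback.snd sφR q₂ ≫ q₁ ≫ ρ') ≫ iW) ≫ f
        = (pullback.snd sφR q₂ ≫ q₁ ≫ ρ' ≫ str) ≫ hV.fromSpec := by simp only [Category.assoc, hcomm]
      _ = (pullback.snd sφR q₂ ≫ q₂ ≫ Hess.chartStr F g) ≫ hV.fromSpec := by rw [hρ, hq12]
      _ = (pullback.fst sφR q₂ ≫ sφR ≫ Hess.chartStr F g) ≫ hV.fromSpec := by rw [← pullback.condition_assoc]
      _ = _ := by rw [hcA]; simp only [Category.assoc]
  · -- the point
    let z : ↥(Spec (CommRingCat.of U₁)) := Spec.map (CommRingCat.ofHom φK) (closedPoint K)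
    have hz : ∀ q, Ideal.Quotient.mk (Hess.eqs F g) q ∈ (PrimeSpectrum.comap φR
        (PrimeSpectrum.comap φK (closedPoint K))).asIdeal ↔ eval₂Hom φ c q = 0 := fun q => by
      show φK (φR _) ∈ (closedPoint K).asIdeal ↔ _
      rw [hKU]
      rw [(Ideal.eq_bot_or_top ((closedPoint K).asIdeal : Ideal K)).resolve_right (closedPoint K).isPrime.ne_top]
      exact Ideal.mem_bot
    obtain ⟨P₂, hP₂⟩ : sφR z ∈ Set.range q₂.base := by
      have hr : Set.range (PrimeSpectrum.comap (algebraMap (Hess.chartRing F g) Bu)) =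
          ↑(PrimeSpectrum.basicOpen (Ideal.Quotient.mk (Hess.eqs F g) u)) :=
        PrimeSpectrum.localization_away_comap_range Bu _
      show PrimeSpectrum.comap φR (PrimeSpectrum.comap φK (closedPoint K)) ∈
        Set.range (PrimeSpectrum.comap (algebraMap (Hess.chartRing F g) Bu))
      rw [hr]
      exact fun h => hu ((heval u).symm.trans ((hz u).mp h))
    obtain ⟨w, hw1, hw2⟩ := Scheme.Pullback.exists_preimage_pullback (f := sφR) (g := q₂) z P₂ hP₂.symm
    refine ⟨w, ?_⟩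
    show iW (ρ' (q₁ (pullback.snd sφR q₂ w))) = p
    rw [hw2]
    refine (congrArg iW ?_).trans hP₀
    show PrimeSpectrum.comap ρq.toRingEquiv.toRingHom (PrimeSpectrum.comap (algebraMap B' Bu) P₂) = P₀
    refine PrimeSpectrum.ext (Ideal.ext fun x => ?_)
    obtain ⟨q, rfl⟩ := Ideal.Quotient.mk_surjective x
    refine Iff.trans ?_ (hP₀' q).symm
    show Ideal.Quotient.mk (Hess.eqs F g) (rename eq.symm q) ∈ (PrimeSpectrum.comap (algebraMap (Hess.chartRing F g) Bu) P₂).asIdeal ↔ _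
    rw [show PrimeSpectrum.comap (algebraMap (Hess.chartRing F g) Bu) P₂ = PrimeSpectrum.comap φR (PrimeSpectrum.comap φK (closedPoint K)) from hP₂]
    rw [hz, heval, hmapr, eval_rename, show c ∘ eq.symm = d by funext t; simp [c]]

end Groth.Agent.NodeLib
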