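import Groth.Agent.NodeLib.NodeEtaleLocal
import Mathlib

/-!
# The universal node `uv = a`
-/

set_option autoImplicit false
set_option linter.style.haveILetI false

universe u

open CategoryTheory CategoryTheory.Limits AlgebraicGeometry MvPolynomial

namespace Groth.Agent.NodeLib

/-- The integers in a universe. -/
abbrev ZU : Type u := ULift.{u} ℤ

theorem ulift_int_ext {T : Type u} [CommRing T] (φ ψ : ZU.{u} →+* T) : φ = ψ := by
  refine RingHom.ext fun x => ?_
  have h : φ.comp ULift.ringEquiv.symm.toRingHom = ψ.comp ULift.ringEquiv.symm.toRingHom := RingHom.ext_int _ _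
  exact RingHom.congr_fun h x.down

/-- The ideal of the universal node. -/
noncomputable abbrev univIdeal : Ideal (MvPolynomial (Fin 3) ZU.{u}) :=
  Ideal.span {(X 0 * X 1 - X 2 : MvPolynomial (Fin 3) ZU.{u})}

/-- The parameter of the universal node. -/
noncomputable abbrev univParam : MvPolynomial (Fin 1) ZU.{u} →+* MvPolynomial (Fin 3) ZU.{u} ⧸ univIdeal.{u} :=
  (Ideal.Quotient.mk _).comp (aeval (fun _ : Fin 1 => (X 2 : MvPolynomial (Fin 3) ZU.{u}))).toRingHom

theorem exists_isPullback_model (A' : Type u) [CommRing A'] (a₀ : A') :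
    ∃ (h : Spec (CommRingCat.of A') ⟶ Spec (CommRingCat.of (MvPolynomial (Fin 1) ZU.{u})))
      (r : Spec (CommRingCat.of (Split.Base a₀)) ⟶ Spec (CommRingCat.of (MvPolynomial (Fin 3) ZU.{u} ⧸ univIdeal.{u}))),
      IsPullback r (Spec.map (CommRingCat.ofHom (Split.baseC a₀))) (Spec.map (CommRingCat.ofHom univParam.{u})) h := by
  let i : ZU.{u} →+* A' := (Int.castRingHom A').comp ULift.ringEquiv.toRingHom
  let hh : MvPolynomial (Fin 1) ZU.{u} →+* A' := eval₂Hom i fun _ => -a₀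
  let X' : Fin 2 → Split.Base a₀ := fun j => Ideal.Quotient.mk _ (X j)
  have hrel : X' 0 * X' 1 = Split.baseC a₀ (-a₀) := by
    rw [map_neg, eq_neg_iff_add_eq_zero]
    exact Ideal.Quotient.eq_zero_iff_mem.mpr (Ideal.mem_span_singleton_self _)
  let rr : MvPolynomial (Fin 3) ZU.{u} ⧸ univIdeal.{u} →+* Split.Base a₀ :=
    Ideal.Quotient.lift _ (eval₂Hom ((Split.baseC a₀).comp i) ![X' 0, X' 1, Split.baseC a₀ (-a₀)]) fun p hp => by
      obtain ⟨w, rfl⟩ := Ideal.mem_span_singleton'.mp hp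
      rw [map_mul, map_sub, map_mul, eval₂Hom_X', eval₂Hom_X', eval₂Hom_X']
      refine mul_eq_zero_of_right _ ?_
      simp [hrel]
  refine ⟨Spec.map (CommRingCat.ofHom hh), Spec.map (CommRingCat.ofHom rr), ?_⟩
  refine isPullback_SpecMap_of_isPushout _ _ _ _ ?_
  have hsq : rr.comp univParam = (Split.baseC a₀).comp hh :=
    MvPolynomial.ringHom_ext (fun x => by
      exact RingHom.congr_fun (ulift_int_ext ((rr.comp univParam).comp C) (((Split.baseC a₀).comp hh).comp C)) x)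
      (fun j => by
        show rr (Ideal.Quotient.mk _ (aeval (fun _ : Fin 1 => (X 2 : MvPolynomial (Fin 3) ZU.{u})) (X j))) = Split.baseC a₀ (hh (X j))
        rw [aeval_X, eval₂Hom_X']
        show eval₂Hom _ _ (X 2) = _
        rw [eval₂Hom_X']
        rfl)
  refine IsPushout.of_isColimit' ⟨by rw [← CommRingCat.ofHom_comp, ← CommRingCat.ofHom_comp, hsq]⟩ ?_
  refine PushoutCocone.isColimitAux' _ fun s => ?_
  let k₁ : MvPolynomial (Fin 3) ZU.{u} ⧸ univIdeal.{u} →+* s.pt := s.inl.hom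
  let k₂ : A' →+* s.pt := s.inr.hom
  have hk : k₁.comp univParam = k₂.comp hh := congrArg CommRingCat.Hom.hom s.condition
  have h2 : k₁ (Ideal.Quotient.mk _ (X 2)) = k₂ (-a₀) := by
    have := RingHom.congr_fun hk (X 0)
    simpa [hh] using this
  let d : Split.Base a₀ →+* s.pt := Ideal.Quotient.lift _
    (eval₂Hom k₂ fun j => k₁ (Ideal.Quotient.mk _ (![X 0, X 1] j))) fun p hp => by
      obtain ⟨w, rfl⟩ := Ideal.mem_span_singleton'.mp hp
      rw [map_mul, map_add, map_mul, eval₂Hom_X', eval₂Hom_X', eval₂Hom_C]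
      refine mul_eq_zero_of_right _ ?_
      rw [← map_mul, ← map_mul]
      have : Ideal.Quotient.mk univIdeal.{u} (![X 0, X 1] 0 * ![X 0, X 1] 1) = Ideal.Quotient.mk _ (X 2) :=
        Ideal.Quotient.eq.mpr (by simpa using Ideal.mem_span_singleton_self _)
      rw [this, h2, map_neg, neg_add_cancel]
  refine ⟨CommRingCat.ofHom d, ?_, ?_, fun {m} hm₁ hm₂ => ?_⟩
  · refine CommRingCat.hom_ext (Ideal.Quotient.ringHom_ext (MvPolynomial.ringHom_ext (fun x => ?_) fun j => ?_))
    · exact RingHom.congr_fun (ulift_int_ext (((d.comp rr).comp (Ideal.Quotient.mk univIdeal.{u})).comp C)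
        ((k₁.comp (Ideal.Quotient.mk univIdeal.{u})).comp C)) x
    · show d (eval₂Hom _ _ (X j)) = k₁ (Ideal.Quotient.mk _ (X j))
      rw [eval₂Hom_X']
      fin_cases j
      · show eval₂Hom _ _ (X 0) = _; rw [eval₂Hom_X']; rfl
      · show eval₂Hom _ _ (X 1) = _; rw [eval₂Hom_X']; rfl
      · show eval₂Hom _ _ (C (-a₀)) = _; rw [eval₂Hom_C]; exact h2.symm
  · refine CommRingCat.hom_ext (RingHom.ext fun x => ?_)
    show eval₂Hom _ _ (C x) = _
    rw [eval₂Hom_C]
  · refine CommRingCat.hom_ext (Ideal.Quotient.ringHom_ext (MvPolynomial.ringHom_ext (fun x => ?_) fun j => ?_))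
    · show m.hom (Split.baseC a₀ x) = eval₂Hom _ _ (C x)
      rw [eval₂Hom_C]
      exact RingHom.congr_fun (congrArg CommRingCat.Hom.hom hm₂) x
    · show m.hom (X' j) = eval₂Hom _ _ (X j)
      rw [eval₂Hom_X']
      have h := RingHom.congr_fun (congrArg CommRingCat.Hom.hom hm₁) (Ideal.Quotient.mk _ (![X 0, X 1] j))
      refine Eq.trans ?_ h
      refine congrArg m.hom ?_
      fin_cases j
      · exact (eval₂Hom_X' ((Split.baseC a₀).comp i) ![X' 0, X' 1, Split.baseC a₀ (-a₀)] 0).symm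
      · exact (eval₂Hom_X' ((Split.baseC a₀).comp i) ![X' 0, X' 1, Split.baseC a₀ (-a₀)] 1).symm

theorem exists_etale_local_structure {X S : Scheme.{u}} (f : X ⟶ S) [Flat f] [LocallyOfFinitePresentation f] (x : X)
    (hx : @Curv2.IsNode (S.residueField (f x)) _ (f.fiber (f x)) ⟨f.fiberToSpecResidueField (f x)⟩ (f.asFiber x)) :
    ∃ (U V W : Scheme.{u}) (gU : U ⟶ X) (gV : V ⟶ S) (p : U ⟶ V) (e : U ⟶ W) (q : W ⟶ V)
      (h : V ⟶ Spec (CommRingCat.of (MvPolynomial (Fin 1) ZU.{u})))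
      (r : W ⟶ Spec (CommRingCat.of (MvPolynomial (Fin 3) ZU.{u} ⧸ univIdeal.{u}))),
      Etale gU ∧ Etale gV ∧ Etale e ∧ gU ≫ f = p ≫ gV ∧ e ≫ q = p ∧
      IsPullback r q (Spec.map (CommRingCat.ofHom univParam.{u})) h ∧ x ∈ Set.range gU.base := by
  obtain ⟨A', _, a₀, U, gU, gV, e, h1, h2, h3, h4, h5⟩ := exists_etale_model f x hx
  obtain ⟨h, r, hpb⟩ := exists_isPullback_model A' a₀
  exact ⟨U, _, _, gU, gV, _, e, _, h, r, h1, h2, h3, h4, rfl, hpb, h5⟩

end Groth.Agent.NodeLib
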