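import Groth.Agent.NodeLib.Hessian
import Mathlib

/-!
# Choosing equations at a node

At a node of `V(f₁, …, f_N) ⊆ 𝔸ⁿ` some `n - 2` of the equations cut out a smooth surface and one more generates the
ideal of the curve in it, with nonzero Hessian.
-/

set_option autoImplicit false
set_option linter.style.haveILetI false

universe u

namespace Groth.Agent.NodeLib.Hess

open MvPolynomial IsLocalRing

section Linear

variable {k : Type u} [Field k] {τ : Type} [Fintype τ] (d : τ → k)

/-- The gradient at the point. -/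
noncomputable def grad : MvPolynomial τ k →ₗ[k] (τ → k) :=
  LinearMap.pi fun s => (MvPolynomial.aeval d).toLinearMap.comp (pderiv s).toLinearMap

theorem grad_apply (p : MvPolynomial τ k) (s : τ) : grad d p s = eval d (pderiv s p) := by
  simp [grad, MvPolynomial.aeval_eq_eval]

theorem grad_mul (p q : MvPolynomial τ k) : grad d (p * q) = eval d p • grad d q + eval d q • grad d p := by
  funext s
  simp only [grad_apply, Derivation.leibniz, smul_eq_mul, map_add, map_mul, Pi.add_apply, Pi.smul_apply]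

theorem grad_eq_zero {p : MvPolynomial τ k} (hp : p ∈ RingHom.ker (eval d) ^ 2) : grad d p = 0 := by
  funext s
  rw [grad_apply, Pi.zero_apply]
  simpa [RingHom.mem_ker] using derivation_mem_pow (pderiv s) (RingHom.ker (eval d)) 1 p hp

theorem taylor' (p : MvPolynomial τ k) :
    p - C (eval d p) - ∑ s, C (eval d (pderiv s p)) * (X s - C (d s)) ∈ RingHom.ker (eval d) ^ 2 := by
  classical
  induction p using MvPolynomial.induction_on with
  | C a => simp
  | add p q hp hq =>
    convert add_mem hp hq using 1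
    simp only [map_add, add_mul, Finset.sum_add_distrib]
    ring
  | mul_X p s hp =>
    have h1 : (p - C (eval d p)) * (X s - C (d s)) ∈ RingHom.ker (eval d) ^ 2 := by
      rw [pow_two]
      exact Ideal.mul_mem_mul (by simp [RingHom.mem_ker]) (by simp [RingHom.mem_ker])
    convert add_mem h1 (Ideal.mul_mem_left _ (C (d s)) hp) using 1
    have : ∀ t, C (eval d (pderiv t (p * X s))) * (X t - C (d t)) =
        C (d s) * (C (eval d (pderiv t p)) * (X t - C (d t))) +
          (if t = s then C (eval d p) * (X s - C (d s)) else 0) := fun t => by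
      rw [Derivation.leibniz, pderiv_X, Pi.single_apply]
      by_cases h : t = s
      · subst h; simp; ring
      · simp [h, Ne.symm h]; ring
    rw [Finset.sum_congr rfl fun t _ => this t, Finset.sum_add_distrib, Finset.sum_ite_eq',
      ← Finset.mul_sum, map_mul, eval_X, map_mul]
    simp
    ring

theorem mem_of_grad {ι : Type*} [Fintype ι] (a : ι → MvPolynomial τ k) (ha : ∀ i, eval d (a i) = 0)
    {p : MvPolynomial τ k} (hp : eval d p = 0) (h : grad d p ∈ Submodule.span k (Set.range fun i => grad d (a i))) :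
    p ∈ Ideal.span (Set.range a) ⊔ RingHom.ker (eval d) ^ 2 := by
  obtain ⟨w, hw⟩ := (Submodule.mem_span_range_iff_exists_fun k).mp h
  have hq : grad d (p - ∑ i, C (w i) * a i) = 0 := by
    rw [map_sub, map_sum, ← hw, sub_eq_zero]
    refine Finset.sum_congr rfl fun i _ => ?_
    rw [MvPolynomial.C_mul', map_smul]
  have hq0 : eval d (p - ∑ i, C (w i) * a i) = 0 := by simp [hp, ha]
  have h2 := taylor' d (p - ∑ i, C (w i) * a i)
  rw [hq0, map_zero, sub_zero] at h2
  have h3 : ∀ s, eval d (pderiv s (p - ∑ i, C (w i) * a i)) = 0 := fun s => by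
    rw [← grad_apply, hq]; rfl
  simp only [h3, map_zero, zero_mul, Finset.sum_const_zero, sub_zero] at h2
  rw [show p = ∑ i, C (w i) * a i + (p - ∑ i, C (w i) * a i) by ring]
  exact add_mem (Ideal.mem_sup_left (Ideal.sum_mem _ fun i _ => Ideal.mul_mem_left _ _ (Ideal.subset_span ⟨i, rfl⟩)))
    (Ideal.mem_sup_right h2)

theorem grad_mem_span {ι : Type*} (a : ι → MvPolynomial τ k) (ha : ∀ i, eval d (a i) = 0)
    {p : MvPolynomial τ k} (hp : p ∈ Ideal.span (Set.range a) ⊔ RingHom.ker (eval d) ^ 2) :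
    grad d p ∈ Submodule.span k (Set.range fun i => grad d (a i)) := by
  obtain ⟨z, hz, w, hw, rfl⟩ := Submodule.mem_sup.mp hp
  rw [map_add, grad_eq_zero d hw, add_zero]
  clear hp
  have key : eval d z = 0 ∧ grad d z ∈ Submodule.span k (Set.range fun i => grad d (a i)) := by
    induction hz using Submodule.span_induction with
    | mem v hv => obtain ⟨i, rfl⟩ := hv; exact ⟨ha i, Submodule.subset_span ⟨i, rfl⟩⟩
    | zero => simp
    | add v v' _ _ ih ih' => exact ⟨by rw [map_add, ih.1, ih'.1, add_zero], by rw [map_add]; exact add_mem ih.2 ih'.2⟩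
    | smul r v _ ih =>
      refine ⟨by rw [smul_eq_mul, map_mul, ih.1, mul_zero], ?_⟩
      rw [smul_eq_mul, grad_mul, ih.1, zero_smul, add_zero]
      exact Submodule.smul_mem _ _ ih.2
  exact key.2

theorem grad_X_sub (s : τ) [DecidableEq τ] : grad d (X s - C (d s)) = Pi.single s 1 := by
  funext t
  rw [grad_apply]
  simp [pderiv_X, Pi.single_apply, eq_comm]
--   split_ifs <;> simp_all

end Linear

section PtQuot

variable {k : Type u} [Field k] {τ : Type}

/-- `χ` makes `S` the local ring at `d` of the zero locus of `I`. -/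
structure IsPtQuot (I : Ideal (MvPolynomial τ k)) (d : τ → k) {S : Type u} [CommRing S]
    (χ : MvPolynomial τ k →+* S) : Prop where
  isUnit : ∀ s, eval d s ≠ 0 → IsUnit (χ s)
  surj : ∀ z, ∃ p s, eval d s ≠ 0 ∧ χ s * z = χ p
  ker : ∀ p, χ p = 0 ↔ ∃ s, eval d s ≠ 0 ∧ s * p ∈ I

theorem IsPtQuot.eval_eq_zero {I : Ideal (MvPolynomial τ k)} {d : τ → k} {S : Type u} [CommRing S] [Nontrivial S]
    {χ : MvPolynomial τ k →+* S} (h : IsPtQuot I d χ) {p : MvPolynomial τ k} (hp : p ∈ I) : eval d p = 0 := by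
  by_contra hne
  have h0 : χ p = 0 := (h.ker p).mpr ⟨1, by simp, by simpa using hp⟩
  exact not_isUnit_zero (h0 ▸ h.isUnit p hne)

theorem IsPtQuot.mem_maximalIdeal_iff {I : Ideal (MvPolynomial τ k)} {d : τ → k} {S : Type u} [CommRing S]
    [IsLocalRing S] {χ : MvPolynomial τ k →+* S} (h : IsPtQuot I d χ) (p : MvPolynomial τ k) :
    χ p ∈ maximalIdeal S ↔ eval d p = 0 := by
  refine ⟨fun hm => by_contra fun hne => (mem_maximalIdeal _).mp hm (h.isUnit p hne), fun hp => ?_⟩
  refine (mem_maximalIdeal _).mpr fun hu => ?_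
  obtain ⟨z, hz⟩ := hu.exists_right_inv
  obtain ⟨q, s, hs, e⟩ := h.surj z
  have h0 : χ (p * q - s) = 0 := by
    rw [map_sub, map_mul, ← e, mul_left_comm, hz, mul_one, sub_self]
  obtain ⟨t, ht, htI⟩ := (h.ker _).mp h0
  have := h.eval_eq_zero htI
  simp [hp, hs, ht] at this

theorem IsPtQuot.map_pow {I : Ideal (MvPolynomial τ k)} {d : τ → k} {S : Type u} [CommRing S]
    [IsLocalRing S] {χ : MvPolynomial τ k →+* S} (h : IsPtQuot I d χ) (N : ℕ) :
    (RingHom.ker (eval d) ^ N).map χ = maximalIdeal S ^ N := by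
  rw [Ideal.map_pow]
  congr 1
  refine le_antisymm (Ideal.map_le_iff_le_comap.mpr fun p hp => (h.mem_maximalIdeal_iff p).mpr hp) fun z hz => ?_
  obtain ⟨p, s, hs, e⟩ := h.surj z
  have hp : eval d p = 0 := (h.mem_maximalIdeal_iff p).mp (e ▸ Ideal.mul_mem_left _ _ hz)
  exact (Ideal.unit_mul_mem_iff_mem _ (h.isUnit s hs)).mp (e ▸ Ideal.mem_map_of_mem _ hp)

end PtQuot

theorem pow_le_cross {O : Type u} [CommRing O] [IsLocalRing O] {u v : O} (h : maximalIdeal O = Ideal.span {u, v}) :
    ∀ n : ℕ, maximalIdeal O ^ (n + 2) ≤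
      Ideal.span {u ^ (n + 2), v ^ (n + 2)} ⊔ Ideal.span {u * v} * maximalIdeal O ^ n := by
  intro n
  induction n with
  | zero =>
    rw [pow_zero, mul_one, pow_two (maximalIdeal O), h, Ideal.span_pair_mul_span_pair, Ideal.span_le]
    rintro z (rfl | rfl | rfl | rfl)
    · exact Ideal.mem_sup_left (Ideal.subset_span (Or.inl (by ring)))
    · exact Ideal.mem_sup_right (Ideal.mem_span_singleton_self _)
    · exact Ideal.mem_sup_right (by rw [mul_comm v u]; exact Ideal.mem_span_singleton_self _)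
    · exact Ideal.mem_sup_left (Ideal.subset_span (Or.inr (by simp only [Set.mem_singleton_iff]; ring)))
  | succ n ih =>
    have hu : u ∈ maximalIdeal O := h ▸ Ideal.subset_span (by simp)
    have hv : v ∈ maximalIdeal O := h ▸ Ideal.subset_span (by simp)
    calc maximalIdeal O ^ (n + 1 + 2) = maximalIdeal O ^ (n + 2) * maximalIdeal O := by rw [← pow_succ]
      _ ≤ (Ideal.span {u ^ (n + 2), v ^ (n + 2)} ⊔ Ideal.span {u * v} * maximalIdeal O ^ n) * maximalIdeal O :=
        Ideal.mul_mono_left ih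
      _ ≤ _ := by
        rw [Ideal.sup_mul, mul_assoc, ← pow_succ]
        refine sup_le ?_ le_sup_right
        conv_lhs => rw [h, Ideal.span_pair_mul_span_pair]
        rw [Ideal.span_le]
        rintro z (rfl | rfl | rfl | rfl)
        · exact Ideal.mem_sup_left (Ideal.subset_span (Or.inl (by ring)))
        · refine Ideal.mem_sup_right ?_
          rw [show u ^ (n + 2) * v = (u * v) * u ^ (n + 1) by ring]
          exact Ideal.mul_mem_mul (Ideal.mem_span_singleton_self _) (Ideal.pow_mem_pow hu _)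
        · refine Ideal.mem_sup_right ?_
          rw [show v ^ (n + 2) * u = (u * v) * v ^ (n + 1) by ring]
          exact Ideal.mul_mem_mul (Ideal.mem_span_singleton_self _) (Ideal.pow_mem_pow hv _)
        · exact Ideal.mem_sup_left (Ideal.subset_span (Or.inr (by simp only [Set.mem_singleton_iff]; ring)))

/-- A surjection from a two-dimensional regular ring onto a node point has principal kernel. -/
theorem exists_ker_eq_span {O S : Type u} [CommRing O] [IsLocalRing O] [IsNoetherianRing O] [CommRing S]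
    [IsLocalRing S] (χ : O →+* S) (hχ : Function.Surjective χ) {u v : O} (huv : IsParamPair u v)
    (hS : IsNodePair (χ u) (χ v)) : ∃ G, G ≠ 0 ∧ RingHom.ker χ = Ideal.span {G} := by
  have hmap : ∀ N, maximalIdeal S ^ N = (maximalIdeal O ^ N).map χ := fun N => by
    rw [Ideal.map_pow, map_maximalIdeal_of_surjective χ hχ]
  have h3 := hS.2.1
  rw [hmap, ← map_mul, Ideal.mem_map_iff_of_surjective χ hχ] at h3
  obtain ⟨w, hw, ew⟩ := h3
  have hG : χ (u * v - w) = 0 := by rw [map_sub, ew, sub_self]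
  refine ⟨u * v - w, fun h0 => ?_, le_antisymm (fun z hz => ?_) (by rw [Ideal.span_singleton_le_iff_mem]; exact hG)⟩
  · have h1 : (0 : O) * u ^ 2 + 1 * (u * v) + 0 * v ^ 2 ∈ maximalIdeal O ^ 3 := by
      rw [zero_mul, zero_mul, add_zero, zero_add, one_mul, sub_eq_zero.mp h0]; exact hw
    exact (mem_maximalIdeal _).mp (huv.coeff_two h1).2.1 isUnit_one
  set I := Ideal.span {u * v - w} with hI
  have hIm : I ≤ RingHom.ker χ := by rw [hI, Ideal.span_singleton_le_iff_mem]; exact hG
  have hall : ∀ N, z ∈ I ⊔ maximalIdeal O ^ N := by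
    intro N
    induction N with
    | zero => simp
    | succ N ih =>
      obtain ⟨i, hi, y, hy, rfl⟩ := Submodule.mem_sup.mp ih
      have hy0 : χ y = 0 := by
        have : χ (i + y) = 0 := hz
        rwa [map_add, show χ i = 0 from hIm hi, zero_add] at this
      rw [add_comm i]
      refine add_mem ?_ (Ideal.mem_sup_left hi)
      match N, hy with
      | 0, _ =>
        refine Ideal.mem_sup_right ?_
        rw [pow_one]
        by_contra hu
        exact not_isUnit_zero (hy0 ▸ ((notMem_maximalIdeal.mp hu).map χ))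
      | 1, hy =>
        refine Ideal.mem_sup_right ?_
        rw [pow_one, huv.1] at hy
        obtain ⟨a, b, rfl⟩ := Ideal.mem_span_pair.mp hy
        obtain ⟨ha, hb⟩ := hS.2.2 1 le_rfl (χ a) (χ b) (by rw [pow_one, pow_one, ← map_mul, ← map_mul, ← map_add, hy0]; exact zero_mem _)
        have hc : ∀ t, χ t ∈ maximalIdeal S → t ∈ maximalIdeal O := fun t ht =>
          (mem_maximalIdeal _).mpr fun hu => (mem_maximalIdeal _).mp ht (hu.map χ)
        rw [pow_two]
        exact add_mem (Ideal.mul_mem_mul (hc a ha) huv.left_mem) (Ideal.mul_mem_mul (hc b hb) huv.right_mem)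
      | n + 2, hy =>
        obtain ⟨q, hq, q', hq', rfl⟩ := Submodule.mem_sup.mp (pow_le_cross huv.1 n hy)
        obtain ⟨a, b, rfl⟩ := Ideal.mem_span_pair.mp hq
        obtain ⟨t, ht, rfl⟩ := Ideal.mem_span_singleton_mul.mp hq'
        have hwt : w * t ∈ maximalIdeal O ^ (n + 2 + 1) := by
          rw [show n + 2 + 1 = 3 + n by omega, pow_add]; exact Ideal.mul_mem_mul hw ht
        have hy' : χ (a * u ^ (n + 2) + b * v ^ (n + 2)) + χ (w * t) = 0 := by
          rw [← map_add, show a * u ^ (n + 2) + b * v ^ (n + 2) + w * t =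
            (a * u ^ (n + 2) + b * v ^ (n + 2) + u * v * t) - (u * v - w) * t by ring, map_sub, hy0, map_mul, hG,
            zero_mul, sub_zero]
        obtain ⟨ha, hb⟩ := hS.2.2 (n + 2) (by omega) (χ a) (χ b) (by
          rw [hmap, ← map_pow, ← map_pow, ← map_mul, ← map_mul, ← map_add, eq_neg_of_add_eq_zero_left hy']
          exact neg_mem (Ideal.mem_map_of_mem _ hwt))
        have hc : ∀ t, χ t ∈ maximalIdeal S → t ∈ maximalIdeal O := fun t ht =>
          (mem_maximalIdeal _).mpr fun hu => (mem_maximalIdeal _).mp ht (hu.map χ)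
        rw [show a * u ^ (n + 2) + b * v ^ (n + 2) + u * v * t =
          (u * v - w) * t + (a * u ^ (n + 2) + b * v ^ (n + 2) + w * t) by ring]
        refine add_mem (Ideal.mem_sup_left (Ideal.mul_mem_right _ _ (Ideal.mem_span_singleton_self _)))
          (Ideal.mem_sup_right (add_mem (add_mem ?_ ?_) hwt))
        · rw [pow_succ' (maximalIdeal O)]; exact Ideal.mul_mem_mul (hc a ha) (Ideal.pow_mem_pow huv.left_mem _)
        · rw [pow_succ' (maximalIdeal O)]; exact Ideal.mul_mem_mul (hc b hb) (Ideal.pow_mem_pow huv.right_mem _)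
  haveI : Nontrivial (O ⧸ I) := Ideal.Quotient.nontrivial_iff.mpr fun ht =>
    (RingHom.ker_ne_top χ) (top_le_iff.mp (ht.ge.trans hIm))
  haveI : IsLocalRing (O ⧸ I) := IsLocalRing.of_surjective' (Ideal.Quotient.mk _) Ideal.Quotient.mk_surjective
  rw [← Ideal.Quotient.eq_zero_iff_mem, ← Ideal.mem_bot,
    ← Ideal.iInf_pow_eq_bot_of_isLocalRing (maximalIdeal (O ⧸ I)) (maximalIdeal.isMaximal _).ne_top, Submodule.mem_iInf]
  intro N
  obtain ⟨i, hi, y, hy, e⟩ := Submodule.mem_sup.mp (hall N)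
  rw [← map_maximalIdeal_of_surjective (Ideal.Quotient.mk I) Ideal.Quotient.mk_surjective, ← Ideal.map_pow, ← e,
    map_add, Ideal.Quotient.eq_zero_iff_mem.mpr hi, zero_add]
  exact Ideal.mem_map_of_mem _ hy

theorem exists_minor {k : Type u} [Field k] {r n : ℕ} (M : Fin r → Fin n → k) (hM : LinearIndependent k M) :
    ∃ e : Fin r → Fin n, Function.Injective e ∧ (Matrix.of fun m l => M m (e l)).det ≠ 0 := by
  classical
  let A : Matrix (Fin r) (Fin n) k := Matrix.of M
  have hspan : Submodule.span k (Set.range A.col) = ⊤ := by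
    apply Submodule.eq_top_of_finrank_eq
    rw [← Matrix.rank_eq_finrank_span_cols, Module.finrank_fin_fun]
    exact (LinearIndependent.rank_matrix (M := A) hM).trans (Fintype.card_fin r)
  obtain ⟨s, hs, hspan', hli⟩ := exists_linearIndependent k (Set.range A.col)
  have hsf : s.Finite := (Set.finite_range _).subset hs
  haveI := hsf.fintype
  let b : Module.Basis s k (Fin r → k) := Module.Basis.mk hli (by
    rw [Subtype.range_coe_subtype, Set.setOf_mem_eq, hspan', hspan])
  let ε : Fin r ≃ s := (Pi.basisFun k (Fin r)).indexEquiv b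
  choose j hj using fun l : Fin r => hs (ε l).2
  refine ⟨j, fun l l' h => ε.injective (Subtype.ext (by rw [← hj l, ← hj l', h])), ?_⟩
  have hcols : LinearIndependent k (Matrix.of fun m l => M m (j l)).col := by
    have : (Matrix.of fun m l => M m (j l)).col = ((↑) : s → Fin r → k) ∘ ε := by
      funext l m
      exact congrFun (hj l) m
    rw [this]
    exact hli.comp ε ε.injective
  exact ((Matrix.isUnit_iff_isUnit_det _).mp (Matrix.linearIndependent_cols_iff_isUnit.mp hcols)).ne_zero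

/-- The rows and the coordinates at a node. -/
theorem exists_rows {k : Type u} [Field k] {n N : ℕ} (d : Fin n → k)
    (f : Fin N → MvPolynomial (Fin n) k) {S : Type u} [CommRing S] [IsLocalRing S]
    {χ : MvPolynomial (Fin n) k →+* S} (hχ : IsPtQuot (Ideal.span (Set.range f)) d χ) (hN : HasNodePair S) :
    ∃ (r : ℕ) (e : Fin r ⊕ Fin 2 ≃ Fin n) (m : Fin r → Fin N) (X₀ Y₀ : MvPolynomial (Fin n) k),
      eval (d ∘ e) (minor fun l => rename e.symm (f (m l))) ≠ 0 ∧ IsNodePair (χ X₀) (χ Y₀) ∧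
      eval d X₀ = 0 ∧ eval d Y₀ = 0 ∧
      RingHom.ker (eval d) ≤ Ideal.span (Set.range (fun l => f (m l)) ∪ {X₀, Y₀}) ⊔ RingHom.ker (eval d) ^ 2 := by
  classical
  obtain ⟨x', y', hxy'⟩ := hN
  -- polynomial representatives
  obtain ⟨X₀, s₁, hs₁, e₁⟩ := hχ.surj x'
  obtain ⟨Y₀, s₂, hs₂, e₂⟩ := hχ.surj y'
  have hxy : IsNodePair (χ X₀) (χ Y₀) := by
    rw [← e₁, ← e₂]; exact hxy'.smul_units (hχ.isUnit _ hs₁) (hχ.isUnit _ hs₂)
  have hX0 : eval d X₀ = 0 := (hχ.mem_maximalIdeal_iff _).mp hxy.left_mem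
  have hY0 : eval d Y₀ = 0 := (hχ.mem_maximalIdeal_iff _).mp hxy.right_mem
  have hf0 : ∀ i, eval d (f i) = 0 := fun i => hχ.eval_eq_zero (Ideal.subset_span ⟨i, rfl⟩)
  set W := Submodule.span k (Set.range fun i => grad d (f i)) with hW
  let ev : Fin 2 → (Fin n → k) := ![grad d X₀, grad d Y₀]
  have hχ0 : ∀ {p}, p ∈ Ideal.span (Set.range f) ⊔ RingHom.ker (eval d) ^ 2 → χ p ∈ maximalIdeal S ^ 2 := by
    intro p hp
    obtain ⟨a, ha, b, hb, rfl⟩ := Submodule.mem_sup.mp hp
    rw [map_add, (hχ.ker a).mpr ⟨1, by simp, by simpa using ha⟩, zero_add, ← hχ.map_pow]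
    exact Ideal.mem_map_of_mem _ hb
  have hind : ∀ a b : k, a • ev 0 + b • ev 1 ∈ W → a = 0 ∧ b = 0 := by
    intro a b hab
    have h0 : eval d (C a * X₀ + C b * Y₀) = 0 := by simp [hX0, hY0]
    have h1 := hχ0 (mem_of_grad d f hf0 h0 (by
      rw [map_add, MvPolynomial.C_mul', MvPolynomial.C_mul', map_smul, map_smul]; exact hab))
    rw [map_add, map_mul, map_mul] at h1
    obtain ⟨ha, hb⟩ := hxy.2.2 1 le_rfl _ _ (by simpa using h1)
    exact ⟨by simpa using (hχ.mem_maximalIdeal_iff _).mp ha, by simpa using (hχ.mem_maximalIdeal_iff _).mp hb⟩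
  have hev : LinearIndependent k ev := LinearIndependent.pair_iff.mpr fun a b h => hind a b (by
    rw [show a • ev 0 + b • ev 1 = 0 from h]; exact zero_mem _)
  set V := Submodule.span k (Set.range ev) with hV
  have hdisj : W ⊓ V = ⊥ := by
    refine (Submodule.eq_bot_iff _).mpr fun z hz => ?_
    obtain ⟨w, hw⟩ := (Submodule.mem_span_range_iff_exists_fun k).mp hz.2
    rw [Fin.sum_univ_two] at hw
    obtain ⟨ha, hb⟩ := hind _ _ (hw ▸ hz.1)
    rw [← hw, ha, hb, zero_smul, zero_smul, add_zero]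
  have hsup : W ⊔ V = ⊤ := by
    have hbasis : ∀ s, Pi.single s (1 : k) ∈ W ⊔ V := by
      intro s
      rw [← grad_X_sub d s]
      have hm : χ (X s - C (d s)) ∈ maximalIdeal S := (hχ.mem_maximalIdeal_iff _).mpr (by simp)
      obtain ⟨α, β, e⟩ := Ideal.mem_span_pair.mp (hxy.1.le hm)
      obtain ⟨p, t, ht, ep⟩ := hχ.surj α
      obtain ⟨q, t', ht', eq⟩ := hχ.surj β
      have h0 : χ (t * t' * (X s - C (d s)) - (t' * p * X₀ + t * q * Y₀)) = 0 := by
        simp only [map_sub, map_add, map_mul, ← ep, ← eq] at e ⊢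
        rw [← e]; ring
      obtain ⟨v, hv, hvI⟩ := (hχ.ker _).mp h0
      have hg : grad d (v * (t * t' * (X s - C (d s)) - (t' * p * X₀ + t * q * Y₀))) ∈ W :=
        grad_mem_span d f hf0 (Ideal.mem_sup_left hvI)
      have hz : eval d (t * t' * (X s - C (d s)) - (t' * p * X₀ + t * q * Y₀)) = 0 := by simp [hX0, hY0]
      rw [grad_mul, hz, zero_smul, add_zero, map_sub, map_add, grad_mul d (t * t'), grad_mul d (t' * p), grad_mul d (t * q)] at hg
      simp only [hX0, hY0, zero_smul, add_zero, show eval d (X s - C (d s)) = 0 by simp] at hg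
      rw [Submodule.smul_mem_iff _ hv] at hg
      have h2 : eval d (t * t') • grad d (X s - C (d s)) ∈ W ⊔ V := by
        have := add_mem (Submodule.mem_sup_left hg : _ ∈ W ⊔ V) (Submodule.mem_sup_right
          (add_mem (Submodule.smul_mem _ (eval d (t' * p)) (Submodule.subset_span ⟨0, rfl⟩))
            (Submodule.smul_mem _ (eval d (t * q)) (Submodule.subset_span ⟨1, rfl⟩))) : _ ∈ W ⊔ V)
        simpa [ev] using this
      exact (Submodule.smul_mem_iff _ (by simp [ht, ht'])).mp h2
    rw [eq_top_iff, ← (Pi.basisFun k (Fin n)).span_eq, Submodule.span_le]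
    rintro _ ⟨s, rfl⟩
    simpa using hbasis s
  obtain ⟨t, htW, htspan, htli⟩ := exists_linearIndependent k (Set.range fun i => grad d (f i))
  haveI := ((Set.finite_range _).subset htW).fintype
  let r := Fintype.card t
  let ε : Fin r ≃ t := (Fintype.equivFin t).symm
  choose m hm using fun l : Fin r => htW (ε l).2
  have hli : LinearIndependent k fun l => grad d (f (m l)) := by
    simp only [hm]; exact htli.comp ε ε.injective
  have hWm : Submodule.span k (Set.range fun l => grad d (f (m l))) = W := by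
    rw [hW, ← htspan]
    congr 1
    ext z
    simp only [hm, Set.mem_range]
    exact ⟨fun ⟨l, hl⟩ => hl ▸ (ε l).2, fun hz => ⟨ε.symm ⟨z, hz⟩, by simp⟩⟩
  have hrank : n = r + 2 := by
    have h1 := Submodule.finrank_sup_add_finrank_inf_eq W V
    rw [hsup, hdisj, finrank_top, finrank_bot, Module.finrank_fin_fun, ← hWm, finrank_span_eq_card hli, hV,
      finrank_span_eq_card hev] at h1
    simpa using h1
  obtain ⟨j, hj, hdet⟩ := exists_minor _ hli
  have hcard : Fintype.card ↥(Set.range j)ᶜ = 2 := by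
    rw [Fintype.card_compl_set, Set.card_range_of_injective hj]
    simp; omega
  let e : Fin r ⊕ Fin 2 ≃ Fin n :=
    (Equiv.sumCongr (Equiv.ofInjective j hj) (Fintype.equivFinOfCardEq hcard).symm).trans (Equiv.Set.sumCompl (Set.range j))
  have he : ∀ l, e (Sum.inl l) = j l := fun l => rfl
  set F := fun l => rename e.symm (f (m l)) with hF
  set c := d ∘ e with hc
  have hev' : ∀ p : MvPolynomial (Fin n) k, eval c (rename e.symm p) = eval d p := fun p => by
    rw [eval_rename, hc, Function.comp_assoc]; simp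
  have hpd : ∀ (s : Fin r ⊕ Fin 2) (p : MvPolynomial (Fin n) k), pderiv s (rename e.symm p) = rename e.symm (pderiv (e s) p) := fun s p => by
    conv_lhs => rw [show s = e.symm (e s) from (e.symm_apply_apply s).symm]
    exact pderiv_rename e.symm.injective _ p
  have hM : eval c (minor F) ≠ 0 := by
    rw [minor, RingHom.map_det]
    convert hdet using 2
    ext a b
    simp [jac, F, hpd, hev', he, grad_apply]
  refine ⟨r, e, m, X₀, Y₀, hM, hxy, hX0, hY0, fun q hq => ?_⟩
  let a : Fin r ⊕ Fin 2 → MvPolynomial (Fin n) k := Sum.elim (fun l => f (m l)) ![X₀, Y₀]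
  have ha : ∀ i, eval d (a i) = 0 := by rintro (l | i); exacts [hf0 _, by fin_cases i <;> assumption]
  have hq' := mem_of_grad d a ha (p := q) hq (by
    have hle : W ⊔ V ≤ Submodule.span k (Set.range fun i => grad d (a i)) := by
      rw [← hWm, ← Submodule.span_union]
      refine Submodule.span_mono ?_
      rintro _ (⟨l, rfl⟩ | ⟨i, rfl⟩)
      · exact ⟨Sum.inl l, rfl⟩
      · exact ⟨Sum.inr i, by fin_cases i <;> rfl⟩
    rw [hsup] at hle
    exact hle trivial)
  suffices hle : Ideal.span (Set.range a) ≤ Ideal.span (Set.range (fun l => f (m l)) ∪ {X₀, Y₀}) from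
    (sup_le (hle.trans le_sup_left) le_sup_right : _ ≤ Ideal.span (Set.range (fun l => f (m l)) ∪ {X₀, Y₀}) ⊔
      RingHom.ker (eval d) ^ 2) hq'
  refine Ideal.span_mono ?_
  rintro _ ⟨l | i, rfl⟩
  · exact Or.inl ⟨l, rfl⟩
  · fin_cases i
    · exact Or.inr (Or.inl rfl)
    · exact Or.inr (Or.inr rfl)

theorem IsPtQuot.rename {k : Type u} [Field k] {τ σ : Type} {I : Ideal (MvPolynomial τ k)} {d : τ → k}
    {S : Type u} [CommRing S] {χ : MvPolynomial τ k →+* S} (h : IsPtQuot I d χ) (e : σ ≃ τ) :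
    IsPtQuot (I.comap (MvPolynomial.rename e).toRingHom) (d ∘ e) (χ.comp (MvPolynomial.rename e).toRingHom) := by
  have hev : ∀ p : MvPolynomial σ k, eval d (MvPolynomial.rename e p) = eval (d ∘ e) p := fun p => eval_rename ..
  have hren : ∀ p : MvPolynomial τ k, MvPolynomial.rename e (MvPolynomial.rename e.symm p) = p := fun p => by
    simp [rename_rename]
  refine ⟨fun s hs => h.isUnit (MvPolynomial.rename e s) (by rwa [hev]), fun z => ?_, fun p => (h.ker _).trans ⟨?_, ?_⟩⟩
  · obtain ⟨p, s, hs, e'⟩ := h.surj z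
    refine ⟨MvPolynomial.rename e.symm p, MvPolynomial.rename e.symm s, ?_, ?_⟩
    · rw [← hev, hren]; exact hs
    · show χ (MvPolynomial.rename e (MvPolynomial.rename e.symm s)) * z = χ (MvPolynomial.rename e (MvPolynomial.rename e.symm p))
      rw [hren, hren, e']
  · rintro ⟨s, hs, hsI⟩
    refine ⟨MvPolynomial.rename e.symm s, by rw [← hev, hren]; exact hs, ?_⟩
    show MvPolynomial.rename e (MvPolynomial.rename e.symm s * p) ∈ I
    rw [map_mul, hren]; exact hsI
  · rintro ⟨s, hs, hsI⟩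
    refine ⟨MvPolynomial.rename e s, by rw [hev]; exact hs, ?_⟩
    rw [Ideal.mem_comap, map_mul] at hsI
    exact hsI

section Generator

variable {k : Type u} [Field k] {r : ℕ} {F : Fin r → MvPolynomial (Fin r ⊕ Fin 2) k} {c : Fin r ⊕ Fin 2 → k}
  {N : ℕ} {f : Fin N → MvPolynomial (Fin r ⊕ Fin 2) k}

/-- One of the equations generates the ideal of the curve in the surface. -/
theorem exists_generator_aux [IsAlgClosed k] {O S : Type u} [CommRing O] [IsLocalRing O] [IsNoetherianRing O]
    [CommRing S] [IsLocalRing S] {ψ : MvPolynomial (Fin r ⊕ Fin 2) k →+* O} (hS : IsSurf F c ψ)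
    (hrep : ∀ o : O, ∃ p s, eval c s ≠ 0 ∧ ψ s * o = ψ p)
    (hψker : ∀ p, ψ p = 0 → ∃ t, eval c t ≠ 0 ∧ t * p ∈ Ideal.span (Set.range F))
    {χ : MvPolynomial (Fin r ⊕ Fin 2) k →+* S} (hχ : IsPtQuot (Ideal.span (Set.range f)) c χ)
    (lam : O →+* S) (hlam : ∀ p, lam (ψ p) = χ p) (hF : ∀ l, eval c (F l) = 0) (hM : eval c (minor F) ≠ 0)
    (X₀ Y₀ : MvPolynomial (Fin r ⊕ Fin 2) k) (hxy : IsNodePair (χ X₀) (χ Y₀))
    (hX0 : eval c X₀ = 0) (hY0 : eval c Y₀ = 0) (hspan : mc c ≤ Ideal.span (Set.range F ∪ {X₀, Y₀}) ⊔ mc c ^ 2) :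
    ∃ i₀, ((∀ i, eval c (D F i (f i₀)) = 0) ∧ eval c (hess F (f i₀)) ≠ 0) ∧
      ∀ i, ∃ s, eval c s ≠ 0 ∧ s * f i ∈ Ideal.span (Set.range F) ⊔ Ideal.span {f i₀} := by
  classical
  have hψu : ∀ s, eval c s ≠ 0 → IsUnit (ψ s) := fun s hs => by
    by_contra hu
    have h1 : ψ s ∈ maximalIdeal O := (mem_maximalIdeal _).mpr hu
    have h2 : (mc c) ⊔ Ideal.span {s} = ⊤ := Ideal.IsMaximal.out.2 _
      (left_lt_sup.mpr fun hle => hs (hle (Ideal.mem_span_singleton_self s)))
    have h3 := congrArg (Ideal.map ψ) h2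
    rw [Ideal.map_sup, hS.map_mc, Ideal.map_top, Ideal.map_span, Set.image_singleton,
      sup_eq_left.mpr (by rwa [Ideal.span_singleton_le_iff_mem])] at h3
    exact (maximalIdeal.isMaximal O).ne_top h3
  have hsurj : Function.Surjective lam := fun z => by
    obtain ⟨p, s, hs, e'⟩ := hχ.surj z
    obtain ⟨w, hw⟩ := (hψu s hs).exists_left_inv
    refine ⟨w * ψ p, ?_⟩
    rw [map_mul, hlam, ← e', ← mul_assoc, ← hlam, ← map_mul, hw, map_one, one_mul]
  have hp := isParamPair hS hF hM
  have hpair : IsParamPair (ψ X₀) (ψ Y₀) := by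
    refine ⟨le_antisymm ?_ (Ideal.span_le.mpr ?_), hp.2⟩
    · refine Submodule.le_of_le_smul_of_le_jacobson_bot (I := maximalIdeal O)
        (IsNoetherian.noetherian _) (IsLocalRing.maximalIdeal_le_jacobson _) ?_
      rw [smul_eq_mul, ← pow_two]
      conv_lhs => rw [← hS.map_mc]
      refine (Ideal.map_mono hspan).trans ?_
      rw [Ideal.map_sup, Ideal.map_pow, hS.map_mc]
      refine sup_le_sup_right ?_ _
      rw [Ideal.map_span, Ideal.span_le]
      rintro _ ⟨q, (⟨l, rfl⟩ | rfl | rfl), rfl⟩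
      · rw [hS.map_F]; exact zero_mem _
      · exact Ideal.subset_span (Or.inl rfl)
      · exact Ideal.subset_span (Or.inr rfl)
    · rintro z (rfl | rfl)
      · rw [SetLike.mem_coe, ← hS.map_mc]; exact Ideal.mem_map_of_mem _ hX0
      · rw [SetLike.mem_coe, ← hS.map_mc]; exact Ideal.mem_map_of_mem _ hY0
  obtain ⟨G, hG0, hker⟩ := exists_ker_eq_span lam hsurj hpair (by rw [hlam, hlam]; exact hxy)
  haveI := hp.isRegularLocalRing
  haveI := RegLoc6.isDomain_of_isRegularLocalRing O
  have hGmem : G ∈ Ideal.span (Set.range fun i => ψ (f i)) := by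
    obtain ⟨p, s, hs, e'⟩ := hrep G
    have h0 : χ p = 0 := by
      rw [← hlam, ← e', map_mul, show lam G = 0 from hker.ge (Ideal.mem_span_singleton_self _), mul_zero]
    obtain ⟨t, ht, htI⟩ := (hχ.ker _).mp h0
    have h1 := Ideal.mem_map_of_mem ψ htI
    rw [Ideal.map_span, ← Set.range_comp, map_mul, ← e', ← mul_assoc] at h1
    exact (Ideal.unit_mul_mem_iff_mem _ ((hψu t ht).mul (hψu s hs))).mp h1
  obtain ⟨a, ha⟩ := (Ideal.mem_span_range_iff_exists_fun).mp hGmem
  have hfG : ∀ i, ψ (f i) ∈ Ideal.span {G} := fun i => by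
    rw [← hker, RingHom.mem_ker, hlam]
    exact (hχ.ker _).mpr ⟨1, by simp, by simpa using (Ideal.subset_span ⟨i, rfl⟩ : f i ∈ Ideal.span (Set.range f))⟩
  choose b hb using fun i => Ideal.mem_span_singleton'.mp (hfG i)
  obtain ⟨i₀, hi₀⟩ : ∃ i, IsUnit (b i) := by
    by_contra hall
    push Not at hall
    have hm : ∑ i, a i * b i ∈ maximalIdeal O :=
      Ideal.sum_mem _ fun i _ => Ideal.mul_mem_left _ _ ((mem_maximalIdeal _).mpr (hall i))
    have : (∑ i, a i * b i) * G = 1 * G := by
      rw [Finset.sum_mul, one_mul]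
      conv_rhs => rw [← ha]
      exact Finset.sum_congr rfl fun i _ => by rw [← hb i, mul_assoc]
    rw [mul_right_cancel₀ hG0 this] at hm
    exact (mem_maximalIdeal _).mp hm isUnit_one
  have hgG : Ideal.span {ψ (f i₀)} = Ideal.span {G} := by
    rw [← hb i₀]
    exact Ideal.span_singleton_mul_left_unit hi₀ G
  refine ⟨i₀, ?_, fun i => ?_⟩
  · let eQ : O ⧸ Ideal.span {ψ (f i₀)} ≃+* S :=
      (Ideal.quotEquivOfEq (hgG.trans hker.symm)).trans (RingHom.quotientKerEquivOfSurjective hsurj)
    haveI : IsLocalRing (O ⧸ Ideal.span {ψ (f i₀)}) := RingEquiv.isLocalRing eQ.symm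
    exact (hess_ne_zero hS hF hM (g := f i₀) (hχ.eval_eq_zero (Ideal.subset_span ⟨i₀, rfl⟩))
      (HasNodePair.map_ringEquiv eQ.symm ⟨_, _, hxy⟩))
  · obtain ⟨w, hw⟩ := Ideal.mem_span_singleton'.mp (hgG.ge (hfG i))
    obtain ⟨p, s, hs, e'⟩ := hrep w
    have h1 : ψ (s * f i - p * f i₀) = 0 := by
      rw [map_sub, map_mul, map_mul, ← hw, ← e']; ring
    obtain ⟨t, ht, ht2⟩ := hψker _ h1
    refine ⟨t * s, by rw [map_mul]; exact mul_ne_zero ht hs, ?_⟩
    rw [show t * s * f i = t * (s * f i - p * f i₀) + t * p * f i₀ by ring]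
    exact add_mem (Ideal.mem_sup_left ht2) (Ideal.mem_sup_right (Ideal.mul_mem_left _ _ (Ideal.mem_span_singleton_self _)))

/-- The same, in the localized polynomial ring. -/
theorem exists_generator [IsAlgClosed k] {S : Type u} [CommRing S] [IsLocalRing S]
    {χ : MvPolynomial (Fin r ⊕ Fin 2) k →+* S} (hχ : IsPtQuot (Ideal.span (Set.range f)) c χ)
    (hFf : Set.range F ⊆ Set.range f) (hM : eval c (minor F) ≠ 0)
    (X₀ Y₀ : MvPolynomial (Fin r ⊕ Fin 2) k) (hxy : IsNodePair (χ X₀) (χ Y₀))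
    (hX0 : eval c X₀ = 0) (hY0 : eval c Y₀ = 0) (hspan : mc c ≤ Ideal.span (Set.range F ∪ {X₀, Y₀}) ⊔ mc c ^ 2) :
    ∃ i₀, ((∀ i, eval c (D F i (f i₀)) = 0) ∧ eval c (hess F (f i₀)) ≠ 0) ∧
      ∀ i, ∃ s, eval c s ≠ 0 ∧ s * f i ∈ Ideal.span (Set.range F) ⊔ Ideal.span {f i₀} := by
  have hF : ∀ l, eval c (F l) = 0 := fun l => hχ.eval_eq_zero (Ideal.subset_span (hFf ⟨l, rfl⟩))
  haveI := isLocalRing_quot_map (IF_le F c hF)
  have hS := isSurf_quot (F := F) (c := c) hF
  have hu : ∀ s : (mc c).primeCompl, IsUnit (χ s) := fun s => hχ.isUnit _ s.2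
  have hJk : (IF F).map (algebraMap (MvPolynomial (Fin r ⊕ Fin 2) k) (Localization.AtPrime (mc c))) ≤
      RingHom.ker (IsLocalization.lift (S := Localization.AtPrime (mc c)) hu) := by
    rw [Ideal.map_le_iff_le_comap, Ideal.span_le]
    intro p hp
    show IsLocalization.lift (S := Localization.AtPrime (mc c)) hu (algebraMap _ _ p) = 0
    rw [IsLocalization.lift_eq]
    exact (hχ.ker _).mpr ⟨1, by simp, by simpa using Ideal.subset_span (hFf hp)⟩
  refine exists_generator_aux hS ?_ ?_ hχ (Ideal.Quotient.lift _ _ fun a ha => hJk ha)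
    (fun p => IsLocalization.lift_eq hu p) hF hM X₀ Y₀ hxy hX0 hY0 hspan
  · intro o
    obtain ⟨z, rfl⟩ := Ideal.Quotient.mk_surjective o
    obtain ⟨p, s, rfl⟩ := IsLocalization.exists_mk'_eq (mc c).primeCompl z
    refine ⟨p, s, s.2, ?_⟩
    rw [RingHom.comp_apply, RingHom.comp_apply, ← map_mul, IsLocalization.mk'_spec']
  · intro p hp
    have h2 : algebraMap _ (Localization.AtPrime (mc c)) p ∈ (IF F).map (algebraMap _ _) :=
      Ideal.Quotient.eq_zero_iff_mem.mp hp
    rw [IsLocalization.algebraMap_mem_map_algebraMap_iff (mc c).primeCompl] at h2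
    obtain ⟨t, ht, ht2⟩ := h2
    exact ⟨t, ht, ht2⟩

end Generator

/-- The selection at a node. -/
theorem exists_selection {k : Type u} [Field k] [IsAlgClosed k] {n N : ℕ} (d : Fin n → k)
    (f : Fin N → MvPolynomial (Fin n) k) {S : Type u} [CommRing S] [IsLocalRing S]
    {χ : MvPolynomial (Fin n) k →+* S} (hχ : IsPtQuot (Ideal.span (Set.range f)) d χ) (hN : HasNodePair S) :
    ∃ (r : ℕ) (e : Fin r ⊕ Fin 2 ≃ Fin n) (m : Fin r → Fin N) (i₀ : Fin N),
      eval (d ∘ e) (minor fun l => rename e.symm (f (m l))) ≠ 0 ∧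
      ((∀ i, eval (d ∘ e) (D (fun l => rename e.symm (f (m l))) i (rename e.symm (f i₀))) = 0) ∧
        eval (d ∘ e) (hess (fun l => rename e.symm (f (m l))) (rename e.symm (f i₀))) ≠ 0) ∧
       ∀ i, ∃ s, eval (d ∘ e) s ≠ 0 ∧ s * rename e.symm (f i) ∈
         Ideal.span (Set.range fun l => rename e.symm (f (m l))) ⊔ Ideal.span {rename e.symm (f i₀)} := by
  obtain ⟨r, e, m, X₀, Y₀, hM, hxy, hX0, hY0, hspan⟩ := exists_rows d f hχ hN
  have hren : ∀ p : MvPolynomial (Fin n) k, rename e (rename e.symm p) = p := fun p => by simp [rename_rename]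
  have hev : ∀ p : MvPolynomial (Fin n) k, eval (d ∘ e) (rename e.symm p) = eval d p := fun p => by
    rw [eval_rename, Function.comp_assoc]; simp
  have hI : (Ideal.span (Set.range f)).comap (rename e).toRingHom = Ideal.span (Set.range fun i => rename e.symm (f i)) := by
    refine le_antisymm (fun p hp => ?_) (Ideal.span_le.mpr ?_)
    · have := Ideal.mem_map_of_mem (rename e.symm).toRingHom (Ideal.mem_comap.mp hp)
      rw [Ideal.map_span, ← Set.range_comp] at this
      have he : (rename e.symm).toRingHom (rename e p) = p := by simp [rename_rename]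
      exact he ▸ this
    · rintro _ ⟨i, rfl⟩
      rw [SetLike.mem_coe, Ideal.mem_comap]
      show rename e (rename e.symm (f i)) ∈ Ideal.span (Set.range f)
      rw [hren]; exact Ideal.subset_span ⟨i, rfl⟩
  have hχ' := hχ.rename e
  rw [hI] at hχ'
  obtain ⟨i₀, h1, h2⟩ := exists_generator (F := fun l => rename e.symm (f (m l))) hχ'
    (by rintro _ ⟨l, rfl⟩; exact ⟨m l, rfl⟩) hM (rename e.symm X₀) (rename e.symm Y₀)
    (by show IsNodePair (χ (rename e (rename e.symm X₀))) (χ (rename e (rename e.symm Y₀))); rw [hren, hren]; exact hxy)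
    ((hev _).trans hX0) ((hev _).trans hY0) (fun q hq => by
      have hq' : rename e q ∈ RingHom.ker (eval d) := by
        rw [RingHom.mem_ker, eval_rename]; exact hq
      have := Ideal.mem_map_of_mem (rename e.symm).toRingHom (hspan hq')
      rw [Ideal.map_sup, Ideal.map_span, Ideal.map_pow, Set.image_union, ← Set.range_comp, Set.image_pair] at this
      have he : (rename e.symm).toRingHom (rename e q) = q := by simp [rename_rename]
      rw [he] at this
      have hle : Ideal.map (rename e.symm).toRingHom (RingHom.ker (eval d)) ≤ mc (d ∘ e) :=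
        Ideal.map_le_iff_le_comap.mpr fun p hp => (hev p).trans hp
      exact (sup_le le_sup_left ((Ideal.pow_right_mono hle 2).trans le_sup_right) : _ ≤ _ ⊔ mc (d ∘ e) ^ 2) this)
  exact ⟨r, e, m, i₀, hM, h1, h2⟩

end Groth.Agent.NodeLib.Hess
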