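import Groth.Agent.NodeLib.NodeChart
import Groth.Agent.NodeLib.NodeSelect
import Groth.Agent.NodeLib.NodeDescend
import Groth.Agent.NodeLib.NodalFamEtale

/-!
# A family is nodal near a node of a fibre
-/

set_option autoImplicit false
set_option linter.style.haveILetI false

universe u

open CategoryTheory CategoryTheory.Limits AlgebraicGeometry IsLocalRing MvPolynomial

namespace Groth.Agent.NodeLib

theorem fibreCond_precomp {X Y S : Scheme.{u}} (f : X ⟶ S) [LocallyOfFinitePresentation f] {s : S}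
    (hf : FibreCond f s) (g : Y ⟶ X) [Etale g] : FibreCond (g ≫ f) s := by
  haveI : Etale (fibreMap g f s) := MorphismProperty.of_isPullback (isPullback_fibreMap g f s) inferInstance
  haveI : LocallyOfFinitePresentation (f.fiberToSpecResidueField s) :=
    MorphismProperty.pullback_snd _ _ inferInstance
  letI iX : (f.fiber s).Over (Spec (CommRingCat.of (S.residueField s))) := ⟨f.fiberToSpecResidueField s⟩
  letI iY : ((g ≫ f).fiber s).Over (Spec (CommRingCat.of (S.residueField s))) :=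
    ⟨(g ≫ f).fiberToSpecResidueField s⟩
  haveI : LocallyOfFinitePresentation (f.fiber s ↘ Spec (CommRingCat.of (S.residueField s))) :=
    inferInstanceAs (LocallyOfFinitePresentation (f.fiberToSpecResidueField s))
  exact ⟨components_comp_etale (k := S.residueField s) (X := f.fiber s) (f.fiberToSpecResidueField s)
      (fibreMap g f s) hf.1,
    atWorstNodal_comp_etale (k := S.residueField s) (X := f.fiber s) (fibreMap g f s)
      (fibreMap_toSpec g f s).symm hf.2⟩

namespace Hess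

theorem exists_nodal_chart {A : Type u} [CommRing A] {n N : ℕ} (f : Fin N → MvPolynomial (Fin n) A)
    [Module.Flat A (MvPolynomial (Fin n) A ⧸ Ideal.span (Set.range f))]
    {κ K : Type u} [Field κ] [Field K] [IsAlgClosed K] (ι : A →+* κ) (j : κ →+* K)
    (hι : ∀ x : κ, ∃ a b : A, ι a ≠ 0 ∧ ι a * x = ι b) (d : Fin n → K)
    {S : Type u} [CommRing S] [IsLocalRing S] {χ : MvPolynomial (Fin n) K →+* S}
    (hχ : IsPtQuot (Ideal.span (Set.range fun i => map (j.comp ι) (f i))) d χ) (hN : HasNodePair S)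
    (P₀ : PrimeSpectrum (MvPolynomial (Fin n) A ⧸ Ideal.span (Set.range f)))
    (hP₀ : ∀ p, Ideal.Quotient.mk _ p ∈ P₀.asIdeal ↔ eval d (map (j.comp ι) p) = 0) :
    ∃ (W : Scheme.{u}) (jW : W ⟶ Spec (CommRingCat.of (MvPolynomial (Fin n) A ⧸ Ideal.span (Set.range f)))),
      IsOpenImmersion jW ∧ (P₀ : ↥(Spec (CommRingCat.of (MvPolynomial (Fin n) A ⧸ Ideal.span (Set.range f))))) ∈ Set.range jW.base ∧
      Curv2.IsNodalFamily (jW ≫ Spec.map (CommRingCat.ofHom ((Ideal.Quotient.mk (Ideal.span (Set.range f))).comp C))) := by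
  classical
  obtain ⟨r, e, m, i₀, hM, ⟨-, hH⟩, hmem⟩ := exists_selection d _ hχ hN
  set φ := j.comp ι with hφ
  let F : Fin r → MvPolynomial (Fin r ⊕ Fin 2) A := fun l => rename e.symm (f (m l))
  let g : MvPolynomial (Fin r ⊕ Fin 2) A := rename e.symm (f i₀)
  let f' : Fin N → MvPolynomial (Fin r ⊕ Fin 2) A := fun i => rename e.symm (f i)
  let c := d ∘ e
  have hmapr : ∀ p, map φ (rename e.symm p) = rename e.symm (map φ p) := fun p => MvPolynomial.map_rename φ _ p
  set I' := Ideal.span (Set.range f') with hI'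
  let ρ : (MvPolynomial (Fin n) A ⧸ Ideal.span (Set.range f)) ≃ₐ[A] (MvPolynomial (Fin r ⊕ Fin 2) A ⧸ I') :=
    Ideal.quotientEquivAlg _ _ (renameEquiv A e.symm) (by
      rw [hI', Ideal.map_span, ← Set.range_comp]; rfl)
  haveI : Module.Flat A (MvPolynomial (Fin r ⊕ Fin 2) A ⧸ I') := Module.Flat.of_linearEquiv ρ.toLinearEquiv.symm
  have hEI : eqs F g ≤ I' := sup_le (Ideal.span_le.mpr (by rintro _ ⟨l, rfl⟩; exact Ideal.subset_span ⟨m l, rfl⟩))
    ((Ideal.span_singleton_le_iff_mem _).mpr (Ideal.subset_span ⟨i₀, rfl⟩))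
  obtain ⟨u, hu, huI⟩ := exists_mul_mem_of_geometric ι j hι I' (eqs F g)
    (Submodule.fg_span (Set.finite_range f')) hEI c (by
      intro t ht
      induction ht using Submodule.span_induction with
      | mem w hw =>
        obtain ⟨i, rfl⟩ := hw
        obtain ⟨s, hs, hs2⟩ := hmem i
        refine ⟨s, hs, ?_⟩
        rw [eqs_map, hmapr]
        convert hs2 using 4
        all_goals first | exact hmapr _ | (funext l; exact hmapr _)
      | zero => exact ⟨1, by simp, by simp⟩
      | add w w' _ _ ih ih' =>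
        obtain ⟨v, hv, h⟩ := ih
        obtain ⟨v', hv', h'⟩ := ih'
        refine ⟨v * v', by rw [map_mul]; exact mul_ne_zero hv hv', ?_⟩
        rw [map_add, show v * v' * (map φ w + map φ w') = v' * (v * map φ w) + v * (v' * map φ w') by ring]
        exact add_mem (Ideal.mul_mem_left _ _ h) (Ideal.mul_mem_left _ _ h')
      | smul a w _ ih =>
        obtain ⟨v, hv, h⟩ := ih
        refine ⟨v, hv, ?_⟩
        rw [smul_eq_mul, map_mul, mul_left_comm]
        exact Ideal.mul_mem_left _ _ h)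
  -- the open piece
  let B := MvPolynomial (Fin r ⊕ Fin 2) A ⧸ I'
  let ub : B := Ideal.Quotient.mk I' u
  let Bu := Localization.Away ub
  let cl : chartRing F g →+* B := Ideal.Quotient.factor hEI
  letI : Algebra (chartRing F g) Bu := ((algebraMap B Bu).comp cl).toAlgebra
  haveI : IsLocalization.Away (Ideal.Quotient.mk (eqs F g) u) Bu := by
    refine IsLocalization.Away.mk (Ideal.Quotient.mk (eqs F g) u) ?_ (fun z => ?_) (fun a b hab => ?_)
    · exact IsLocalization.Away.algebraMap_isUnit ub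
    · obtain ⟨k, b, hb⟩ := IsLocalization.Away.surj ub z
      obtain ⟨q, rfl⟩ := Ideal.Quotient.mk_surjective b
      exact ⟨k, Ideal.Quotient.mk (eqs F g) q, hb⟩
    · obtain ⟨a, rfl⟩ := Ideal.Quotient.mk_surjective a
      obtain ⟨b, rfl⟩ := Ideal.Quotient.mk_surjective b
      obtain ⟨k, hk⟩ := IsLocalization.Away.exists_of_eq (R := B) ub (show algebraMap B Bu (Ideal.Quotient.mk I' a) = algebraMap B Bu (Ideal.Quotient.mk I' b) from hab)
      refine ⟨k + 1, ?_⟩
      rw [← map_pow, ← map_mul, ← map_mul, Ideal.Quotient.eq]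
      rw [← map_pow, ← map_mul, ← map_mul, Ideal.Quotient.eq] at hk
      rw [show u ^ (k + 1) * a - u ^ (k + 1) * b = u * (u ^ k * a - u ^ k * b) by ring]
      exact huI _ hk
  let q₁ : Spec (CommRingCat.of Bu) ⟶ Spec (CommRingCat.of B) := Spec.map (CommRingCat.ofHom (algebraMap B Bu))
  haveI : IsOpenImmersion q₁ := IsOpenImmersion.of_isLocalization (S := Bu) ub
  let q₂ : Spec (CommRingCat.of Bu) ⟶ Spec (CommRingCat.of (chartRing F g)) :=
    Spec.map (CommRingCat.ofHom (algebraMap (chartRing F g) Bu))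
  haveI : IsOpenImmersion q₂ := IsOpenImmersion.of_isLocalization (S := Bu) (Ideal.Quotient.mk (eqs F g) u)
  let strB : Spec (CommRingCat.of B) ⟶ Spec (CommRingCat.of A) :=
    Spec.map (CommRingCat.ofHom ((Ideal.Quotient.mk I').comp C))
  have hstr : q₁ ≫ strB = q₂ ≫ chartStr F g := by
    rw [← Spec.map_comp, ← Spec.map_comp]; rfl
  let U₁ := q₂ ⁻¹ᵁ goodOpen F g
  let ρ' : Spec (CommRingCat.of B) ⟶ Spec (CommRingCat.of (MvPolynomial (Fin n) A ⧸ Ideal.span (Set.range f))) :=
    Spec.map ρ.toRingEquiv.toCommRingCatIso.hom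
  have hρ : ρ' ≫ Spec.map (CommRingCat.ofHom ((Ideal.Quotient.mk (Ideal.span (Set.range f))).comp C)) = strB := by
    rw [← Spec.map_comp]
    congr 1
    ext a
    exact ρ.commutes a
  haveI : IsOpenImmersion (U₁.ι ≫ q₁ ≫ ρ') := inferInstance
  refine ⟨(U₁ : Scheme.{u}), U₁.ι ≫ q₁ ≫ ρ', inferInstance, ?_, ?_⟩
  · -- the point
    let P₁ : PrimeSpectrum B := PrimeSpectrum.comap ρ.symm.toRingEquiv.toRingHom P₀
    have hP₁ : ∀ p, Ideal.Quotient.mk I' p ∈ P₁.asIdeal ↔ eval c (map φ p) = 0 := fun p => by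
      rw [PrimeSpectrum.comap_asIdeal, Ideal.mem_comap]
      have : ρ.symm.toRingEquiv.toRingHom (Ideal.Quotient.mk I' p) = Ideal.Quotient.mk _ (rename e p) := by
        show ρ.symm (Ideal.Quotient.mk I' p) = _
        apply ρ.injective
        rw [AlgEquiv.apply_symm_apply]
        show _ = Ideal.Quotient.mk I' (rename e.symm (rename e p))
        simp [rename_rename]
      rw [this, hP₀, MvPolynomial.map_rename, eval_rename]
    obtain ⟨P₂, hP₂⟩ : (P₁ : ↥(Spec (CommRingCat.of B))) ∈ Set.range q₁.base := by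
      have hr : Set.range (PrimeSpectrum.comap (algebraMap B Bu)) = ↑(PrimeSpectrum.basicOpen ub) :=
        PrimeSpectrum.localization_away_comap_range Bu ub
      show P₁ ∈ Set.range (PrimeSpectrum.comap (algebraMap B Bu))
      rw [hr]
      exact fun h => hu ((hP₁ u).mp h)
    have hq2 : (P₂ : ↥(Spec (CommRingCat.of Bu))) ∈ U₁ := by
      show q₂ P₂ ∈ goodOpen F g
      refine (mem_goodOpen_iff (PrimeSpectrum.comap (algebraMap (chartRing F g) Bu) P₂)).mpr ?_
      have key : ∀ p, Ideal.Quotient.mk (eqs F g) p ∈ (PrimeSpectrum.comap (algebraMap (chartRing F g) Bu) P₂).asIdeal ↔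
          eval c (map φ p) = 0 := fun p => by
        rw [← hP₁, ← hP₂]; rfl
      have e1 : map φ (minor F) = minor fun l => rename e.symm (map φ (f (m l))) := by
        rw [← minor_map]; simp only [F, hmapr]
      have e2 : map φ (hess F g) = hess (fun l => rename e.symm (map φ (f (m l)))) (rename e.symm (map φ (f i₀))) := by
        rw [← hess_map]; simp only [F, g, hmapr]
      refine ⟨fun h => hM ?_, Or.inr fun h => hH ?_⟩
      · rw [← e1]; exact (key _).mp h
      · rw [← e2]; exact (key _).mp h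
    refine ⟨⟨P₂, hq2⟩, ?_⟩
    show ρ' (q₁ P₂) = P₀
    rw [hP₂]
    show PrimeSpectrum.comap _ (PrimeSpectrum.comap _ P₀) = P₀
    refine PrimeSpectrum.ext (Ideal.ext fun z => ?_)
    exact Iff.of_eq (congrArg (· ∈ P₀.asIdeal) (ρ.symm_apply_apply z))
  · have hstr' : (U₁.ι ≫ q₁ ≫ ρ') ≫ Spec.map (CommRingCat.ofHom ((Ideal.Quotient.mk (Ideal.span (Set.range f))).comp C)) =
        (q₂ ∣_ goodOpen F g) ≫ ((goodOpen F g).ι ≫ chartStr F g) := by
      rw [Category.assoc, Category.assoc, hρ, hstr, morphismRestrict_ι_assoc]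
    haveI : LocallyOfFinitePresentation (chartStr F g) := by
      rw [chartStr, HasRingHomProperty.Spec_iff (P := @LocallyOfFinitePresentation)]
      refine RingHom.FinitePresentation.comp (RingHom.FinitePresentation.of_surjective _ Ideal.Quotient.mk_surjective ?_) ?_
      · rw [Ideal.mk_ker]
        exact (Submodule.fg_span (Set.finite_range F)).sup (Submodule.fg_span_singleton g)
      · exact (RingHom.finitePresentation_algebraMap (A := A) (B := MvPolynomial (Fin r ⊕ Fin 2) A)).mpr inferInstance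
    rw [hstr']
    refine ⟨?_, inferInstance, fun s => fibreCond_precomp _ (fibreCond_chart F g s) _⟩
    rw [← hstr', Category.assoc, Category.assoc, hρ]
    haveI : Flat strB := by
      rw [HasRingHomProperty.Spec_iff (P := @Flat)]
      exact RingHom.flat_algebraMap_iff.mpr ‹Module.Flat A B›
    infer_instance

theorem exists_isPtQuot_stalk {K : Type u} [Field K] [IsAlgClosed K] {n : ℕ} (I : Ideal (MvPolynomial (Fin n) K))
    (Q : ↥(Spec (CommRingCat.of (MvPolynomial (Fin n) K ⧸ I))))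
    (hQ : IsClosed ({Q} : Set ↥(Spec (CommRingCat.of (MvPolynomial (Fin n) K ⧸ I))))) :
    ∃ (d : Fin n → K)
      (χ : MvPolynomial (Fin n) K →+* (Spec (CommRingCat.of (MvPolynomial (Fin n) K ⧸ I))).presheaf.stalk Q),
      IsPtQuot I d χ ∧ ∀ q, Ideal.Quotient.mk I q ∈ (Q : PrimeSpectrum (MvPolynomial (Fin n) K ⧸ I)).asIdeal ↔ eval d q = 0 := by
  let R := MvPolynomial (Fin n) K ⧸ I
  let Q' : PrimeSpectrum R := Q
  have hmax : Q'.asIdeal.IsMaximal := (PrimeSpectrum.isClosed_singleton_iff_isMaximal Q').mp hQ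
  haveI := Ideal.comap_isMaximal_of_surjective (Ideal.Quotient.mk I) Ideal.Quotient.mk_surjective (K := Q'.asIdeal)
  obtain ⟨d, hd⟩ := MvPolynomial.isMaximal_iff_eq_vanishingIdeal_singleton.mp
    (inferInstance : (Q'.asIdeal.comap (Ideal.Quotient.mk I)).IsMaximal)
  have hQd : ∀ q, Ideal.Quotient.mk I q ∈ Q'.asIdeal ↔ eval d q = 0 := fun q => by
    rw [← Ideal.mem_comap, hd]; simp [MvPolynomial.aeval_eq_eval]
  letI : Algebra R ((Spec (CommRingCat.of R)).presheaf.stalk Q) :=
    (CommRingCat.Hom.hom (StructureSheaf.toStalk R Q')).toAlgebra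
  haveI : IsLocalization.AtPrime ((Spec (CommRingCat.of R)).presheaf.stalk Q) Q'.asIdeal :=
    inferInstanceAs (IsLocalization.AtPrime ((Spec.structureSheaf R).presheaf.stalk Q') Q'.asIdeal)
  refine ⟨d, (algebraMap R ((Spec (CommRingCat.of R)).presheaf.stalk Q)).comp (Ideal.Quotient.mk I), ?_, hQd⟩
  refine ⟨fun s hs => IsLocalization.map_units _ (⟨_, fun h => hs ((hQd s).mp h)⟩ : Q'.asIdeal.primeCompl),
    fun z => ?_, fun q => ?_⟩
  · obtain ⟨⟨a, ⟨b, hb⟩⟩, e⟩ := IsLocalization.surj Q'.asIdeal.primeCompl z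
    obtain ⟨a, rfl⟩ := Ideal.Quotient.mk_surjective a
    obtain ⟨b, rfl⟩ := Ideal.Quotient.mk_surjective b
    exact ⟨a, b, fun h => hb ((hQd b).mpr h), by rw [mul_comm]; exact e⟩
  · refine (IsLocalization.map_eq_zero_iff Q'.asIdeal.primeCompl _ (Ideal.Quotient.mk I q)).trans ?_
    constructor
    · rintro ⟨⟨b, hb⟩, hb'⟩
      obtain ⟨b, rfl⟩ := Ideal.Quotient.mk_surjective b
      exact ⟨b, fun h => hb ((hQd b).mpr h), Ideal.Quotient.eq_zero_iff_mem.mp (by rw [map_mul]; exact hb')⟩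
    · rintro ⟨b, hb, hb'⟩
      exact ⟨⟨_, fun h => hb ((hQd b).mp h)⟩, by
        show Ideal.Quotient.mk I b * Ideal.Quotient.mk I q = 0
        rw [← map_mul]; exact Ideal.Quotient.eq_zero_iff_mem.mpr hb'⟩

end Hess

theorem exists_nodal_nhd {X S : Scheme.{u}} (f : X ⟶ S) [Flat f] [LocallyOfFinitePresentation f] (p : X)
    (hn : @Curv2.IsNode (S.residueField (f p)) _ (f.fiber (f p)) ⟨f.fiberToSpecResidueField (f p)⟩ (f.asFiber p)) :
    ∃ U : X.Opens, p ∈ U ∧ Curv2.IsNodalFamily (U.ι ≫ f) := by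
  classical
  letI : (f.fiber (f p)).Over (Spec (CommRingCat.of (S.residueField (f p)))) := ⟨f.fiberToSpecResidueField (f p)⟩
  obtain ⟨_, ⟨V, hV₀, rfl⟩, hpV, -⟩ := S.isBasis_affineOpens.exists_subset_of_mem_open
    (Set.mem_univ (f p)) isOpen_univ
  obtain ⟨_, ⟨W, hW, rfl⟩, hpW, hWV⟩ := X.isBasis_affineOpens.exists_subset_of_mem_open
    (show p ∈ f ⁻¹ᵁ V from hpV) (f ⁻¹ᵁ V).isOpen
  have hWV' : W ≤ f ⁻¹ᵁ V := hWV
  have hV : IsAffineOpen V := hV₀
  let A : Type u := Γ(S, V)
  let B : Type u := Γ(X, W)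
  let φ₀ : A →+* B := (f.appLE V W hWV').hom
  letI : Algebra A B := φ₀.toAlgebra
  haveI : Algebra.FinitePresentation A B :=
    RingHom.finitePresentation_algebraMap.mp (HasRingHomProperty.appLE @LocallyOfFinitePresentation f inferInstance ⟨V, hV⟩ ⟨W, hW⟩ hWV')
  haveI : Module.Flat A B :=
    RingHom.flat_algebraMap_iff.mp (HasRingHomProperty.appLE @Flat f inferInstance ⟨V, hV⟩ ⟨W, hW⟩ hWV')
  obtain ⟨n, π, hπ, ⟨G, hG⟩⟩ := ‹Algebra.FinitePresentation A B›.out
  let N := G.card
  let fs : Fin N → MvPolynomial (Fin n) A := fun i => (G.equivFin.symm i : MvPolynomial (Fin n) A)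
  have hI : Ideal.span (Set.range fs) = RingHom.ker π.toRingHom := by
    rw [show Set.range fs = (G : Set _) from ?_]
    · exact hG
    · ext z; exact ⟨fun ⟨i, hi⟩ => hi ▸ (G.equivFin.symm i).2, fun hz => ⟨G.equivFin ⟨z, hz⟩, by simp [fs]⟩⟩
  let ρ : (MvPolynomial (Fin n) A ⧸ Ideal.span (Set.range fs)) ≃ₐ[A] B :=
    (Ideal.quotientEquivAlgOfEq A hI).trans (Ideal.quotientKerAlgEquivOfSurjective hπ)
  haveI : Module.Flat A (MvPolynomial (Fin n) A ⧸ Ideal.span (Set.range fs)) :=
    Module.Flat.of_linearEquiv ρ.toLinearEquiv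
  let Q0 := MvPolynomial (Fin n) A ⧸ Ideal.span (Set.range fs)
  let str : Spec (CommRingCat.of Q0) ⟶ Spec (CommRingCat.of A) :=
    Spec.map (CommRingCat.ofHom ((Ideal.Quotient.mk (Ideal.span (Set.range fs))).comp C))
  let iW : Spec (CommRingCat.of Q0) ⟶ X := Spec.map ρ.toRingEquiv.toCommRingCatIso.inv ≫ hW.fromSpec
  have hcomm : iW ≫ f = str ≫ hV.fromSpec := by
    rw [Category.assoc, ← hV.SpecMap_appLE_fromSpec f hW hWV', ← Category.assoc, ← Spec.map_comp]
    congr 2
    ext a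
    exact (ρ.symm.commutes a)
  obtain ⟨P₀, hP₀⟩ : p ∈ Set.range iW.base := by
    have hsur : Function.Surjective (Spec.map ρ.toRingEquiv.toCommRingCatIso.inv).base :=
      (Spec.map ρ.toRingEquiv.toCommRingCatIso.inv).homeomorph.surjective
    obtain ⟨q, hq⟩ : p ∈ Set.range hW.fromSpec.base := by rw [hW.range_fromSpec]; exact hpW
    obtain ⟨q', rfl⟩ := hsur q
    exact ⟨q', hq⟩
  let s₀ : PrimeSpectrum A := str P₀
  have hs₀ : hV.fromSpec s₀ = f p := by
    rw [← hP₀]; show (str ≫ hV.fromSpec) P₀ = (iW ≫ f) P₀; rw [hcomm]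
  let κ := s₀.asIdeal.ResidueField
  let K := AlgebraicClosure κ
  let ι : A →+* κ := algebraMap A κ
  let j : κ →+* K := algebraMap κ K
  have hι : ∀ x : κ, ∃ a b : A, ι a ≠ 0 ∧ ι a * x = ι b := fun x => by
    obtain ⟨a, ⟨b, hb⟩, rfl⟩ := IsLocalization.exists_mk'_eq (nonZeroDivisors (A ⧸ s₀.asIdeal)) x
    obtain ⟨a, rfl⟩ := Ideal.Quotient.mk_surjective a
    obtain ⟨b, rfl⟩ := Ideal.Quotient.mk_surjective b
    refine ⟨b, a, fun h => nonZeroDivisors.ne_zero hb (Ideal.Quotient.eq_zero_iff_mem.mpr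
      (Ideal.algebraMap_residueField_eq_zero.mp h)), ?_⟩
    exact IsLocalization.mk'_spec' κ (Ideal.Quotient.mk _ a) ⟨Ideal.Quotient.mk _ b, hb⟩
  let φ : A →+* K := j.comp ι
  let θA : Spec (CommRingCat.of K) ⟶ Spec (CommRingCat.of A) := Spec.map (CommRingCat.ofHom φ)
  let θ := θA ≫ hV.fromSpec
  have hθA : ∀ x, θA x = s₀ := fun x => by
    refine PrimeSpectrum.ext ?_
    show x.asIdeal.comap φ = s₀.asIdeal
    rw [(Ideal.eq_bot_or_top (x.asIdeal : Ideal K)).resolve_right x.isPrime.ne_top,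
      ← Ideal.comap_comap, Ideal.comap_bot_of_injective _ j.injective]
    exact (RingHom.ker_eq_comap_bot ι).symm.trans (Ideal.ker_algebraMap_residueField _)
  obtain ⟨s', ψ, hθ⟩ : ∃ (s' : S) (ψ : S.residueField s' ⟶ CommRingCat.of K), Spec.map ψ ≫ S.fromSpecResidueField s' = θ :=
    ⟨_, _, (Scheme.SpecToEquivOfField K S).symm_apply_apply θ⟩
  have hs' : s' = f p := by
    have h1 : θ (closedPoint K) = s' := by
      rw [← hθ]
      show S.fromSpecResidueField s' ((Spec.map ψ) (closedPoint K)) = s'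
      exact Scheme.fromSpecResidueField_apply s' _
    rw [← h1]
    show hV.fromSpec (θA (closedPoint K)) = f p
    rw [hθA, hs₀]
  subst hs'
  -- geometric fibre
  let G' : Fin N → MvPolynomial (Fin n) K := fun i => map φ (fs i)
  let IK := Ideal.span (Set.range G')
  have hIK : RingHom.ker (Ideal.Quotient.mk IK) = (Ideal.span (Set.range fs)).map (map φ) := by
    rw [Ideal.mk_ker, Ideal.map_span, ← Set.range_comp]; rfl
  obtain ⟨j₀, hj₀, hpo⟩ := FibFlat.exists_isPushout_presentation φ (Ideal.Quotient.mk IK)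
    Ideal.Quotient.mk_surjective (Ideal.span (Set.range fs)) hIK
  let R' := MvPolynomial (Fin n) K ⧸ IK
  let strK : Spec (CommRingCat.of R') ⟶ Spec (CommRingCat.of K) := Spec.map (CommRingCat.ofHom ((Ideal.Quotient.mk IK).comp C))
  have sqA : IsPullback (Spec.map (CommRingCat.ofHom j₀)) strK str θA :=
    (isPullback_SpecMap_of_isPushout _ _ _ _ hpo).flip
  let X' := pullback f θ
  let jX : Spec (CommRingCat.of R') ⟶ X' := pullback.lift (Spec.map (CommRingCat.ofHom j₀) ≫ iW) strK (by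
    rw [Category.assoc, hcomm, ← Category.assoc, sqA.w, Category.assoc])
  haveI : IsOpenImmersion iW := inferInstance
  haveI : IsOpenImmersion jX := by
    -- base change of `iW`
    have sq1 : IsPullback (Spec.map (CommRingCat.ofHom j₀)) strK (str ≫ hV.fromSpec) θ := by
      have := sqA.paste_vert (IsPullback.of_vert_isIso_mono (fst := θA) (snd := 𝟙 _) (f := hV.fromSpec) (g := θ) ⟨by simp [θ]⟩)
      simpa using this
    have sq2 : IsPullback jX (Spec.map (CommRingCat.ofHom j₀)) (pullback.fst f θ) iW :=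
      (IsPullback.of_bot (by rw [pullback.lift_snd, hcomm]; exact sq1) (pullback.lift_fst _ _ _).symm
        (IsPullback.of_hasPullback f θ)).flip
    exact MorphismProperty.of_isPullback sq2.flip inferInstance
  obtain ⟨Q, hQ, -⟩ := Scheme.exists_preimage_of_isPullback sqA P₀ (closedPoint K)
    ((hθA (closedPoint K)).trans rfl).symm
  let π' : X' ⟶ f.fiber (f p) := pullback.lift (pullback.fst f θ) (pullback.snd f θ ≫ Spec.map ψ) (by
    rw [Category.assoc, hθ]; exact pullback.condition)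
  have sqF : IsPullback (f.fiberι (f p)) (f.fiberToSpecResidueField (f p)) f (S.fromSpecResidueField (f p)) :=
    IsPullback.of_hasPullback _ _
  have sqX : IsPullback π' (pullback.snd f θ) (f.fiber (f p) ↘ Spec (CommRingCat.of (S.residueField (f p)))) (Spec.map ψ) := by
    refine IsPullback.of_right ?_ (pullback.lift_snd _ _ _) sqF
    rw [show π' ≫ f.fiberι (f p) = pullback.fst f θ from pullback.lift_fst _ _ _, hθ]
    exact IsPullback.of_hasPullback f θ
  have hz : π' (jX Q) = f.asFiber p := by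
    refine (f.fiberι (f p)).isEmbedding.injective ?_
    rw [f.fiberι_asFiber, ← Scheme.Hom.comp_apply, show π' ≫ f.fiberι (f p) = pullback.fst f θ from pullback.lift_fst _ _ _,
      ← Scheme.Hom.comp_apply, show jX ≫ pullback.fst f θ = Spec.map (CommRingCat.ofHom j₀) ≫ iW from pullback.lift_fst _ _ _,
      Scheme.Hom.comp_apply, hQ]
    exact hP₀
  haveI : LocallyOfFiniteType (f.fiber (f p) ↘ Spec (CommRingCat.of (S.residueField (f p)))) :=
    MorphismProperty.pullback_snd _ _ inferInstance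
  have hnp := hasNodePair_of_isNode hn sqX (jX Q) hz
  have hQc : IsClosed ({Q} : Set ↥(Spec (CommRingCat.of R'))) := by
    have h1 := RGLib.FibClosed.isClosed_singleton_of_field_ext π' _ _ _ sqX (jX Q) (hz ▸ hn.1)
    have h2 := h1.preimage jX.continuous
    rwa [show jX ⁻¹' {jX Q} = {Q} from Set.eq_singleton_iff_unique_mem.2
      ⟨rfl, fun z hz' => jX.isOpenEmbedding.injective hz'⟩] at h2
  obtain ⟨d, χ, hχ, hQd⟩ := Hess.exists_isPtQuot_stalk IK Q hQc
  obtain ⟨W₁, jW, hjW, hmemW, hfam⟩ := Hess.exists_nodal_chart fs ι j hι d hχ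
    (hnp.map_ringEquiv (asIso (jX.stalkMap Q)).commRingCatIsoToRingEquiv) P₀ (fun q => by
      rw [← hQd, ← hj₀, ← hQ]; rfl)
  haveI := hjW
  have hT := isNodalFamily_postcomp hV.fromSpec _ hfam
  rw [Category.assoc, ← hcomm, ← Category.assoc] at hT
  refine ⟨(jW ≫ iW).opensRange, ?_, ?_⟩
  · obtain ⟨w, hw⟩ := hmemW
    exact ⟨w, by rw [Scheme.Hom.comp_apply, hw]; exact hP₀⟩
  · rw [← Scheme.Hom.isoOpensRange_inv_comp (jW ≫ iW), Category.assoc]
    exact isNodalFamily_precomp _ hT _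

end Groth.Agent.NodeLib
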