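import Groth.Agent.NodeLib.NodeQuadratic

/-!
# Nodes and their completions
-/

set_option autoImplicit false
set_option linter.style.haveILetI false
set_option backward.isDefEq.respectTransparency false
set_option backward.isDefEq.respectTransparency.types false

universe u

open CategoryTheory CategoryTheory.Limits AlgebraicGeometry IsLocalRing TensorProduct

attribute [local instance] Curv2.resAlgebra Curv2.stalkAlgebra

namespace Groth.Agent.NodeLib

theorem isSeparable_quotient_iff {k A O : Type u} [Field k] [CommRing A] [Algebra k A] [CommRing O]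
    [IsLocalRing O] [Algebra A O] [Algebra k O] [IsScalarTower k A O] (p : Ideal A) [p.IsMaximal]
    [IsLocalization.AtPrime O p] :
    Algebra.IsSeparable k (A ⧸ p) ↔ Algebra.IsSeparable k (ResidueField O) := by
  let e' : (A ⧸ p) ≃ₐ[k] ResidueField O := AlgEquiv.ofRingEquiv (f := IsLocalization.AtPrime.equivQuotMaximalIdeal p O) fun t => by
    show IsLocalization.AtPrime.equivQuotMaximalIdeal p O (Ideal.Quotient.mk p (algebraMap k A t)) = residue O (algebraMap k O t)
    rw [IsLocalization.AtPrime.equivQuotMaximalIdeal_apply_mk, ← IsScalarTower.algebraMap_apply k A O]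
    rfl
  letI := Ideal.Quotient.field p
  exact ⟨fun _ => AlgEquiv.Algebra.isSeparable e', fun _ => AlgEquiv.Algebra.isSeparable e'.symm⟩

/-- The ring-level statement at a point of a chart. -/
theorem chart_key {k A K O : Type u} [Field k] [Field K] [IsAlgClosed K] [Algebra k K] [CommRing A]
    [Algebra k A] [CommRing O] [IsLocalRing O] [IsNoetherianRing O] [Algebra A O] [Algebra k O]
    [IsScalarTower k A O] (p : Ideal A) [p.IsMaximal] [IsLocalization.AtPrime O p] [Module.Finite k (A ⧸ p)]
    (q : Ideal (A ⊗[k] K)) [q.IsPrime] (hqp : q.comap (algebraMap A (A ⊗[k] K)) = p) :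
    HasNodePair (Localization.AtPrime q) ↔
      (Algebra.IsSeparable k (ResidueField O) ∧
        ∃ a b c : ResidueField O, 4 * a * c - b ^ 2 ≠ 0 ∧
          ∃ e : AdicCompletion (maximalIdeal O) O ≃+*
              (MvPowerSeries (Fin 2) (ResidueField O) ⧸ Ideal.span {Quad.qps a b c}),
            ∀ t : k, e (algebraMap O _ (algebraMap k O t)) =
              Ideal.Quotient.mk _ (MvPowerSeries.C (algebraMap k (ResidueField O) t))) := by
  have hle := map_le_maximal p q hqp
  have hunit : ∀ s : p.primeCompl, IsUnit (algebraMap A (Localization.AtPrime q) s) := fun s => by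
    rw [IsScalarTower.algebraMap_apply A (A ⊗[k] K) (Localization.AtPrime q)]
    refine IsLocalization.map_units _ (⟨algebraMap A (A ⊗[k] K) s, fun h => s.2 (hqp.le h)⟩ : q.primeCompl)
  letI : Algebra O (Localization.AtPrime q) := (IsLocalization.lift (M := p.primeCompl) hunit).toAlgebra
  haveI : IsScalarTower A O (Localization.AtPrime q) :=
    IsScalarTower.of_algebraMap_eq fun a => (IsLocalization.lift_eq hunit a).symm
  haveI : Module.Flat A (Localization.AtPrime q) := by
    haveI : Module.Flat (A ⊗[k] K) (Localization.AtPrime q) := IsLocalization.flat _ q.primeCompl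
    exact Module.Flat.trans A (A ⊗[k] K) _
  haveI : Module.Flat O (Localization.AtPrime q) :=
    (Module.flat_iff_of_isLocalization O p.primeCompl (Localization.AtPrime q)).mpr inferInstance
  have hO : (maximalIdeal O).map (algebraMap O (Localization.AtPrime q)) =
      p.map (algebraMap A (Localization.AtPrime q)) := by
    rw [← IsLocalization.AtPrime.map_eq_maximalIdeal p O, Ideal.map_map, ← IsScalarTower.algebraMap_eq]
  have hres := exists_sub_mem_of_isAlgClosed p q hqp
  constructor
  · intro h
    have hmax := eq_maximalIdeal_of_hasNodePair p q hqp hres h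
    haveI : Algebra.IsSeparable k (ResidueField O) :=
      (isSeparable_quotient_iff p).mp (isSeparable_of_map_eq p q hqp hres hmax)
    exact ⟨inferInstance, Quad.exists_completion_equiv k (hmax.trans hO.symm) h⟩
  · rintro ⟨hs, a, b, c, hd, e, -⟩
    haveI : Algebra.IsSeparable k (A ⧸ p) := (isSeparable_quotient_iff (O := O) p).mpr hs
    haveI : IsAlgClosed (ResidueField (Localization.AtPrime q)) := by
      let r : K →+* ResidueField (Localization.AtPrime q) :=
        (residue _).comp ((algebraMap (A ⊗[k] K) _).comp
          (Algebra.TensorProduct.includeRight : K →ₐ[k] A ⊗[k] K).toRingHom)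
      refine IsAlgClosed.of_ringEquiv K _ (RingEquiv.ofBijective r ⟨r.injective, fun z => ?_⟩)
      obtain ⟨w, rfl⟩ := residue_surjective z
      obtain ⟨⟨n, s, hs'⟩, e'⟩ := IsLocalization.surj q.primeCompl w
      dsimp only at e'
      obtain ⟨cn, hn⟩ := hres n
      obtain ⟨cs, hcs⟩ := hres s
      have hmem : ∀ {z : A ⊗[k] K}, z ∈ q → residue _ (algebraMap _ (Localization.AtPrime q) z) = 0 := fun {z} hz =>
        (residue_eq_zero_iff _).mpr ((IsLocalization.AtPrime.to_map_mem_maximal_iff _ q z).mpr hz)
      have h1 : residue _ (algebraMap _ (Localization.AtPrime q) n) = r cn := by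
        have := hmem hn
        rw [map_sub, map_sub, sub_eq_zero] at this
        exact this
      have h2 : residue _ (algebraMap _ (Localization.AtPrime q) s) = r cs := by
        have := hmem hcs
        rw [map_sub, map_sub, sub_eq_zero] at this
        exact this
      have h3 := congrArg (residue (Localization.AtPrime q)) e'
      rw [map_mul, h1, h2] at h3
      have hne : r cs ≠ 0 := by
        rw [← h2, Ne, residue_eq_zero_iff, IsLocalization.AtPrime.to_map_mem_maximal_iff _ q]
        exact hs'
      exact ⟨cn / cs, by rw [map_div₀, div_eq_iff hne, h3]⟩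
    exact Quad.hasNodePair_of_equiv ((map_eq_of_isSeparable p q hqp).trans hO.symm) a b c hd e

variable {k : Type u} [Field k] {X : Scheme.{u}} [X.Over (Spec (CommRingCat.of k))]
  [LocallyOfFiniteType (X ↘ Spec (CommRingCat.of k))]

theorem isNode_iff_quadratic {x : X} (hx : IsClosed ({x} : Set X)) :
    Curv2.IsNode k X x ↔
      (Algebra.IsSeparable k (ResidueField (X.presheaf.stalk x)) ∧
        ∃ a b c : ResidueField (X.presheaf.stalk x), 4 * a * c - b ^ 2 ≠ 0 ∧
          ∃ e : AdicCompletion (maximalIdeal (X.presheaf.stalk x)) (X.presheaf.stalk x) ≃+*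
              (MvPowerSeries (Fin 2) (ResidueField (X.presheaf.stalk x)) ⧸ Ideal.span {Quad.qps a b c}),
            ∀ t : k, e (algebraMap (X.presheaf.stalk x) _ (algebraMap k (X.presheaf.stalk x) t)) =
              Ideal.Quotient.mk _ (MvPowerSeries.C (algebraMap k (ResidueField (X.presheaf.stalk x)) t))) := by
  let K := AlgebraicClosure k
  obtain ⟨c, P, rfl⟩ := GeomField.exists_chart (k := k) x
  haveI : Algebra.FiniteType k c.R := by
    have h : LocallyOfFiniteType (Spec.map (CommRingCat.ofHom (algebraMap k c.R))) := by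
      rw [← c.over_eq]; infer_instance
    exact RingHom.finiteType_algebraMap.mp ((HasRingHomProperty.Spec_iff (P := @LocallyOfFiniteType)).mp h)
  let p : Ideal c.R := PrimeSpectrum.asIdeal (R := c.R) P
  haveI : p.IsMaximal := by
    refine (PrimeSpectrum.isClosed_singleton_iff_isMaximal (R := c.R) P).mp ?_
    have h := hx.preimage c.emb.continuous
    rwa [← Set.image_singleton, c.emb.isOpenEmbedding.injective.preimage_image] at h
  haveI : Module.Finite k (c.R ⧸ p) := by
    letI := Ideal.Quotient.field p
    exact finite_of_finite_type_of_isJacobsonRing k (c.R ⧸ p)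
  obtain ⟨xb, hxb, -⟩ := Scheme.Pullback.exists_preimage_pullback (f := X ↘ Spec (CommRingCat.of k))
    (g := Spec.map (CommRingCat.ofHom (algebraMap k K))) (c.emb P)
    (closedPoint K) (Subsingleton.elim (α := Spec (CommRingCat.of k)) _ _)
  obtain ⟨Q, rfl⟩ := c.exists_bcEmb_eq K P xb hxb
  let q : Ideal (c.R ⊗[k] K) := PrimeSpectrum.asIdeal (R := c.R ⊗[k] K) Q
  haveI : q.IsPrime := Q.isPrime
  have hQP : q.comap (algebraMap c.R (c.R ⊗[k] K)) = p := (c.bcEmb_fst_eq_iff K P Q).mp hxb
  let e₁ : (Spec.structureSheaf (c.R ⊗[k] K)).presheaf.stalk Q ≃ₐ[c.R ⊗[k] K] Localization.AtPrime q :=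
    IsLocalization.algEquiv q.primeCompl _ _
  let e : (Curv2.bc k X K).presheaf.stalk (c.bcEmb K Q) ≃+* Localization.AtPrime q :=
    (asIso ((c.bcEmb K).stalkMap Q)).commRingCatIsoToRingEquiv.trans e₁.toRingEquiv
  have hiff : Curv2.IsNode k X (c.emb P) ↔ HasNodePair (Localization.AtPrime q) :=
    ⟨fun h => (hasNodePair_of_isNode h (IsPullback.of_hasPullback _ _) _ hxb).map_ringEquiv e,
      fun h => isNode_of_hasNodePair hx (IsPullback.of_hasPullback _ _) _ hxb (h.map_ringEquiv e.symm)⟩
  rw [hiff]
  letI := c.stalkAlg P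
  haveI := c.isScalarTower_stalk P
  haveI := c.isLocalization_stalk P
  haveI := LocallyOfFiniteType.isLocallyNoetherian (X ↘ Spec (CommRingCat.of k))
  haveI : IsNoetherianRing (X.presheaf.stalk (c.emb P)) := inferInstance
  exact chart_key p q hQP

end Groth.Agent.NodeLib
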