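import Groth.Agent.NodeLib.NodeRes
import Groth.Agent.NodeLib.NodalBC
import Groth.Agent.GeomField.Chart
import Mathlib

/-!
# Nodes are singular points
-/

set_option autoImplicit false
set_option linter.style.haveILetI false
set_option backward.isDefEq.respectTransparency false
set_option backward.isDefEq.respectTransparency.types false

universe u

open CategoryTheory CategoryTheory.Limits AlgebraicGeometry IsLocalRing TensorProduct

namespace Groth.Agent.NodeLib

variable {k : Type u} [Field k] {X : Scheme.{u}} [X.Over (Spec (CommRingCat.of k))]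
  [LocallyOfFiniteType (X ↘ Spec (CommRingCat.of k))]

theorem not_isRegularLocalRing_of_isNode (hdim : topologicalKrullDim X ≤ 1) {x : X}
    (hn : Curv2.IsNode k X x) : ¬ IsRegularLocalRing (X.presheaf.stalk x) := by
  intro hreg
  let K := AlgebraicClosure k
  obtain ⟨c, P, rfl⟩ := GeomField.exists_chart (k := k) x
  obtain ⟨xb, hxb, hodp⟩ := hn.2
  obtain ⟨Q, rfl⟩ := c.exists_bcEmb_eq K P xb hxb
  have hnp : HasNodePair ((Curv2.bc k X K).presheaf.stalk (c.bcEmb K Q)) :=
    (isOrdDoublePt_bc_iff _ (by rw [hxb]; exact hn.1)).mp hodp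
  -- the chart ring
  haveI : Algebra.FiniteType k c.R := by
    have h : LocallyOfFiniteType (Spec.map (CommRingCat.ofHom (algebraMap k c.R))) := by
      rw [← c.over_eq]; infer_instance
    exact RingHom.finiteType_algebraMap.mp ((HasRingHomProperty.Spec_iff (P := @LocallyOfFiniteType)).mp h)
  let p : Ideal c.R := PrimeSpectrum.asIdeal (R := c.R) P
  haveI : p.IsMaximal := by
    refine (PrimeSpectrum.isClosed_singleton_iff_isMaximal (R := c.R) P).mp ?_
    have h := hn.1.preimage c.emb.continuous
    rwa [← Set.image_singleton, c.emb.isOpenEmbedding.injective.preimage_image] at h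
  haveI : Module.Finite k (c.R ⧸ p) := by
    letI := Ideal.Quotient.field p
    exact finite_of_finite_type_of_isJacobsonRing k (c.R ⧸ p)
  let q : Ideal (c.R ⊗[k] K) := PrimeSpectrum.asIdeal (R := c.R ⊗[k] K) Q
  haveI : q.IsPrime := Q.isPrime
  have hQP : q.comap (algebraMap c.R (c.R ⊗[k] K)) = p := (c.bcEmb_fst_eq_iff K P Q).mp hxb
  let e₁ : (Spec.structureSheaf (c.R ⊗[k] K)).presheaf.stalk Q ≃ₐ[c.R ⊗[k] K] Localization.AtPrime q :=
    IsLocalization.algEquiv q.primeCompl _ _
  let e : (Curv2.bc k X K).presheaf.stalk (c.bcEmb K Q) ≃+* Localization.AtPrime q :=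
    (asIso ((c.bcEmb K).stalkMap Q)).commRingCatIsoToRingEquiv.trans e₁.toRingEquiv
  have hL : HasNodePair (Localization.AtPrime q) := hnp.map_ringEquiv e
  have hmax := eq_maximalIdeal_of_hasNodePair p q hQP
    (exists_sub_mem_of_isAlgClosed p q hQP) hL
  -- the maximal ideal of `O_x` is principal
  have hd : ringKrullDim (X.presheaf.stalk (c.emb P)) ≤ 1 :=
    (CurveCohLib.ringKrullDim_stalk_le_topologicalKrullDim _).trans hdim
  letI := c.stalkAlg P
  haveI := c.isLocalization_stalk P
  let Lp := Localization.AtPrime p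
  let eP : Lp ≃ₐ[c.R] X.presheaf.stalk (c.emb P) := IsLocalization.algEquiv p.primeCompl _ _
  haveI : IsRegularLocalRing Lp := IsRegularLocalRing.of_ringEquiv eP.symm.toRingEquiv
  have hdL : ringKrullDim Lp ≤ 1 := by rwa [ringKrullDim_eq_of_ringEquiv eP.toRingEquiv]
  obtain ⟨t, ht⟩ : ∃ t : Lp, maximalIdeal Lp = Ideal.span {t} := by
    have h1 : (maximalIdeal Lp).spanFinrank ≤ 1 := by
      have := IsRegularLocalRing.spanFinrank_maximalIdeal (R := Lp)
      rw [← this] at hdL
      exact_mod_cast hdL
    obtain ⟨s, hs, hspan⟩ := Submodule.FG.exists_span_set_encard_eq_spanFinrank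
      (IsNoetherian.noetherian (maximalIdeal Lp))
    have hcard : s.encard ≤ 1 := by rw [hs]; exact_mod_cast h1
    rcases Set.encard_le_one_iff_subsingleton.mp hcard |>.eq_empty_or_singleton with rfl | ⟨t, rfl⟩
    · exact ⟨0, by rw [← hspan]; simp⟩
    · exact ⟨t, hspan.symm⟩
  let φ : Lp →+* Localization.AtPrime q := Localization.localRingHom p q (algebraMap c.R (c.R ⊗[k] K)) hQP.symm
  have hφ : φ.comp (algebraMap c.R Lp) = algebraMap c.R (Localization.AtPrime q) := by
    ext r
    rw [RingHom.comp_apply, Localization.localRingHom_to_map]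
    exact (IsScalarTower.algebraMap_apply c.R (c.R ⊗[k] K) _ r).symm
  obtain ⟨x, y, hxy⟩ := hL
  refine hxy.not_principal (φ t) ?_
  rw [hmax, ← hφ, ← Ideal.map_map, Localization.AtPrime.map_eq_maximalIdeal, ht, Ideal.map_span,
    Set.image_singleton]

theorem smooth_of_atWorstNodal_of_regular [LocallyOfFinitePresentation (X ↘ Spec (CommRingCat.of k))]
    (hdim : topologicalKrullDim X ≤ 1) (hnod : Curv2.AtWorstNodal k X)
    (hreg : ∀ x : X, IsRegularLocalRing (X.presheaf.stalk x)) : Smooth (X ↘ Spec (CommRingCat.of k)) := by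
  rw [← Scheme.Hom.smoothLocus_eq_top_iff, eq_top_iff]
  intro x _
  exact ((atWorstNodal_iff hdim).mp hnod x).resolve_right fun h =>
    not_isRegularLocalRing_of_isNode hdim h (hreg x)

end Groth.Agent.NodeLib
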