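import Groth.Agent.NodeLib.NodeRes
import Mathlib

/-!
# Separable residue fields and generation of the maximal ideal after extending the base field
-/

set_option autoImplicit false
set_option linter.style.haveILetI false
set_option backward.isDefEq.respectTransparency false
set_option backward.isDefEq.respectTransparency.types false

universe u

open TensorProduct IsLocalRing

namespace Groth.Agent.NodeLib

variable {k K A : Type u} [Field k] [Field K] [Algebra k K] [CommRing A] [Algebra k A]
  (P : Ideal A) [P.IsMaximal] (Q : Ideal (A ⊗[k] K)) [Q.IsPrime]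

local notation "L" => Localization.AtPrime Q
local notation "incl" => (Algebra.TensorProduct.includeRight : K →ₐ[k] A ⊗[k] K)

omit [P.IsMaximal] in
theorem map_le_maximal (hQP : Q.comap (algebraMap A (A ⊗[k] K)) = P) :
    P.map (algebraMap A L) ≤ maximalIdeal L :=
  Ideal.map_le_iff_le_comap.mpr fun a ha => by
    rw [Ideal.mem_comap, IsScalarTower.algebraMap_apply A (A ⊗[k] K) L]
    exact (IsLocalization.AtPrime.to_map_mem_maximal_iff L Q _).mpr (by rwa [← hQP] at ha)

/-- If `P` generates the maximal ideal upstairs then the residue field of `P` is separable. -/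
theorem isSeparable_of_map_eq [Module.Finite k (A ⧸ P)]
    (hQP : Q.comap (algebraMap A (A ⊗[k] K)) = P) (hres : ∀ b : A ⊗[k] K, ∃ c : K, b - incl c ∈ Q)
    (hmax : maximalIdeal L = P.map (algebraMap A L)) : Algebra.IsSeparable k (A ⧸ P) := by
  classical
  letI := Ideal.Quotient.field P
  haveI : Algebra.FormallyUnramified k (A ⧸ P) := by
    refine ⟨?_⟩
    refine not_nontrivial_iff_subsingleton.mp fun _ => ?_
    obtain ⟨ω, hω⟩ := exists_ne (0 : KaehlerDifferential k (A ⧸ P))
    obtain ⟨ℓ, hℓ⟩ : ∃ ℓ : KaehlerDifferential k (A ⧸ P) →ₗ[A ⧸ P] (A ⧸ P), ℓ ω ≠ 0 := by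
      by_contra h
      push Not at h
      exact hω ((Module.forall_dual_apply_eq_zero_iff (A ⧸ P) ω).mp h)
    let D : Derivation k (A ⧸ P) (A ⧸ P) := ℓ.compDer (KaehlerDifferential.D k (A ⧸ P))
    suffices hD : ∀ z, D z = 0 by
      refine hℓ ?_
      clear hℓ hω
      have : ω ∈ Submodule.span (A ⧸ P) (Set.range (KaehlerDifferential.D k (A ⧸ P))) := by
        rw [KaehlerDifferential.span_range_derivation]; exact Submodule.mem_top
      induction this using Submodule.span_induction with
      | mem w hw => obtain ⟨z, rfl⟩ := hw; exact hD z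
      | zero => exact map_zero ℓ
      | add x y _ _ hx hy => rw [map_add, hx, hy, add_zero]
      | smul r x _ hx => rw [map_smul, hx, smul_zero]
    have hle : P ≤ Q.comap (algebraMap A (A ⊗[k] K)) := hQP.ge
    let σ : A ⧸ P →ₐ[k] (A ⊗[k] K) ⧸ Q := Ideal.Quotient.liftₐ P
      ((Ideal.Quotient.mkₐ k Q).comp Algebra.TensorProduct.includeLeft) fun a ha =>
        Ideal.Quotient.eq_zero_iff_mem.mpr (hle ha)
    let δ : A →ₗ[k] A ⧸ P := D.toLinearMap.comp (Ideal.Quotient.mkₐ k P).toLinearMap
    let π : A ⊗[k] K →ₐ[k] (A ⊗[k] K) ⧸ Q := Ideal.Quotient.mkₐ k Q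
    let D' : A ⊗[k] K →ₗ[k] (A ⊗[k] K) ⧸ Q := TensorProduct.lift (LinearMap.mk₂ k
      (fun a c => σ (δ a) * π (incl c))
      (fun a a' c => by simp only [map_add, add_mul])
      (fun r a c => by simp only [map_smul, smul_mul_assoc])
      (fun a c c' => by simp only [map_add, mul_add])
      (fun r a c => by simp only [map_smul, mul_smul_comm]))
    have hD' : ∀ a c, D' (a ⊗ₜ c) = σ (δ a) * π (incl c) := fun a c => TensorProduct.lift.tmul ..
    have hπ : ∀ a c, π (a ⊗ₜ c) = σ (Ideal.Quotient.mk P a) * π (incl c) := fun a c => by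
      show _ = π (a ⊗ₜ 1) * π (1 ⊗ₜ c)
      rw [← map_mul, Algebra.TensorProduct.tmul_mul_tmul, mul_one, one_mul]
    have hleib : ∀ b b', D' (b * b') = π b * D' b' + π b' * D' b := by
      intro b b'
      induction b using TensorProduct.induction_on with
      | zero => simp
      | add b₁ b₂ h₁ h₂ => rw [add_mul, map_add, h₁, h₂, map_add, map_add]; ring
      | tmul a c =>
        induction b' using TensorProduct.induction_on with
        | zero => simp
        | add b₁ b₂ h₁ h₂ => rw [mul_add, map_add, h₁, h₂, map_add, map_add]; ring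
        | tmul a' c' =>
          rw [Algebra.TensorProduct.tmul_mul_tmul, hD', hD', hD', hπ, hπ]
          have e : δ (a * a') = Ideal.Quotient.mk P a * δ a' + Ideal.Quotient.mk P a' * δ a := by
            show D (Ideal.Quotient.mk P (a * a')) = _
            rw [map_mul, Derivation.leibniz]
            rfl
          rw [e, map_add, map_mul, map_mul, map_mul, map_mul]
          ring
    have hPk : ∀ b ∈ P.map (algebraMap A (A ⊗[k] K)), π b = 0 ∧ D' b = 0 := by
      intro b hb
      refine Submodule.span_induction ?_ ⟨map_zero _, map_zero _⟩ ?_ ?_ hb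
      · rintro _ ⟨a, ha, rfl⟩
        have h0 : Ideal.Quotient.mk P a = 0 := Ideal.Quotient.eq_zero_iff_mem.mpr ha
        refine ⟨?_, ?_⟩
        · show π (a ⊗ₜ 1) = 0
          rw [hπ, h0, map_zero, zero_mul]
        · show D' (a ⊗ₜ 1) = 0
          rw [hD', show δ a = D (Ideal.Quotient.mk P a) from rfl, h0, map_zero, map_zero, zero_mul]
      · rintro x y _ _ ⟨hx, hx'⟩ ⟨hy, hy'⟩
        exact ⟨by rw [map_add, hx, hy, add_zero], by rw [map_add, hx', hy', add_zero]⟩
      · rintro r x _ ⟨hx, hx'⟩
        rw [smul_eq_mul]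
        exact ⟨by rw [map_mul, hx, mul_zero], by rw [hleib, hx, hx', zero_mul, mul_zero, add_zero]⟩
    have hQ : ∀ b ∈ Q, D' b = 0 := by
      intro b hb
      have h1 : algebraMap (A ⊗[k] K) L b ∈ (P.map (algebraMap A (A ⊗[k] K))).map (algebraMap (A ⊗[k] K) L) := by
        rw [Ideal.map_map, ← IsScalarTower.algebraMap_eq, ← hmax]
        exact (IsLocalization.AtPrime.to_map_mem_maximal_iff L Q _).mpr hb
      obtain ⟨t, ht, htb⟩ := (IsLocalization.algebraMap_mem_map_algebraMap_iff Q.primeCompl L _ _).mp h1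
      have h2 := (hPk _ htb).2
      rw [hleib, show π b = 0 from Ideal.Quotient.eq_zero_iff_mem.mpr hb, zero_mul, add_zero] at h2
      exact (mul_eq_zero.mp h2).resolve_left fun h => ht (Ideal.Quotient.eq_zero_iff_mem.mp h)
    intro z
    obtain ⟨a, rfl⟩ := Ideal.Quotient.mk_surjective z
    obtain ⟨c, hc⟩ := hres (a ⊗ₜ 1)
    have h3 := hQ _ hc
    rw [map_sub, hD', show incl c = 1 ⊗ₜ c from rfl, hD', show δ 1 = D (Ideal.Quotient.mk P 1) from rfl,
      map_one (Ideal.Quotient.mk P), Derivation.map_one_eq_zero, map_zero, zero_mul, sub_zero,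
      map_one, map_one, mul_one] at h3
    exact (map_eq_zero σ).mp h3
  exact Algebra.FormallyUnramified.isSeparable k (A ⧸ P)

/-- For a separable residue field, `P` generates the maximal ideal upstairs. -/
theorem map_eq_of_isSeparable [Module.Finite k (A ⧸ P)] [Algebra.IsSeparable k (A ⧸ P)]
    (hQP : Q.comap (algebraMap A (A ⊗[k] K)) = P) :
    maximalIdeal L = P.map (algebraMap A L) := by
  refine le_antisymm ?_ (map_le_maximal P Q hQP)
  letI := Ideal.Quotient.field P
  haveI : Algebra.FormallyUnramified k (A ⧸ P) := Algebra.FormallyUnramified.of_isSeparable k (A ⧸ P)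
  let B' := (A ⧸ P) ⊗[k] K
  let π : A ⊗[k] K →ₐ[k] B' := Algebra.TensorProduct.map (Ideal.Quotient.mkₐ k P) (AlgHom.id k K)
  have hπs : Function.Surjective π :=
    TensorProduct.map_surjective Ideal.Quotient.mk_surjective Function.surjective_id
  have hker : RingHom.ker π = P.map (algebraMap A (A ⊗[k] K)) := by
    rw [Algebra.TensorProduct.map_ker (Ideal.Quotient.mkₐ k P) (AlgHom.id k K)
      Ideal.Quotient.mk_surjective Function.surjective_id,
      show RingHom.ker (Ideal.Quotient.mkₐ k P) = P from Ideal.mk_ker]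
    have : RingHom.ker (AlgHom.id k K) = ⊥ := RingHom.ker_eq_bot_iff_eq_zero _ |>.mpr fun _ h => h
    rw [this, Ideal.map_bot, sup_bot_eq]
    rfl
  haveI : IsReduced (K ⊗[k] (A ⧸ P)) := Algebra.FormallyUnramified.isReduced_of_field K (K ⊗[k] (A ⧸ P))
  haveI : IsReduced B' := isReduced_of_injective (Algebra.TensorProduct.comm k (A ⧸ P) K).toRingHom
    (Algebra.TensorProduct.comm k (A ⧸ P) K).injective
  haveI : IsArtinianRing (K ⊗[k] (A ⧸ P)) := IsArtinianRing.of_finite K _
  haveI : IsArtinianRing B' :=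
    (Algebra.TensorProduct.comm k K (A ⧸ P)).toRingEquiv.isArtinianRing
  have hle : RingHom.ker π ≤ Q := by
    rw [hker, Ideal.map_le_iff_le_comap, hQP]
  haveI hp : (Q.map π).IsPrime := Ideal.map_isPrime_of_surjective hπs hle
  rw [← Localization.AtPrime.map_eq_maximalIdeal, Ideal.map_le_iff_le_comap]
  intro b hb
  let F := Localization.AtPrime (Q.map π)
  haveI : IsReduced F := isReduced_localizationPreserves (Q.map π).primeCompl F inferInstance
  have hF : IsField F := IsArtinianRing.isField_of_isReduced_of_isLocalRing F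
  have h0 : algebraMap B' F (π b) = 0 := by
    have := (IsLocalization.AtPrime.to_map_mem_maximal_iff F (Q.map π) (π b)).mpr (Ideal.mem_map_of_mem _ hb)
    rwa [IsLocalRing.isField_iff_maximalIdeal_eq.mp hF, Ideal.mem_bot] at this
  obtain ⟨⟨m, hm⟩, hmb⟩ := (IsLocalization.map_eq_zero_iff (Q.map π).primeCompl F _).mp h0
  obtain ⟨t, rfl⟩ := hπs m
  have ht : t ∉ Q := fun h => hm (Ideal.mem_map_of_mem _ h)
  have htb : t * b ∈ P.map (algebraMap A (A ⊗[k] K)) := by
    rw [← hker, RingHom.mem_ker, map_mul]; exact hmb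
  rw [Ideal.mem_comap, IsScalarTower.algebraMap_eq A (A ⊗[k] K) L, ← Ideal.map_map]
  exact (IsLocalization.algebraMap_mem_map_algebraMap_iff Q.primeCompl L _ _).mpr ⟨t, ht, htb⟩

end Groth.Agent.NodeLib
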