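import Groth.Agent.NodeLib.QuadCompletion
import Groth.Agent.NodeLib.NodeSepRes
import Groth.Agent.NodeLib.NodeResSch
import Groth.Agent.S1985
import Groth.Agent.EGA41Lib.FieldFS
import Mathlib

/-!
# Completions of nodes over arbitrary fields
-/

set_option autoImplicit false
set_option linter.style.haveILetI false

universe u

open IsLocalRing

namespace Groth.Agent.NodeLib.Quad

section Forward

variable (k : Type u) [Field k] {O B : Type u} [CommRing O] [IsLocalRing O] [IsNoetherianRing O]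
  [Algebra k O] [CommRing B] [IsLocalRing B] [Algebra O B] [Module.Flat O B]

theorem exists_completion_equiv (hmB : maximalIdeal B = (maximalIdeal O).map (algebraMap O B))
    (hB : HasNodePair B) [Algebra.IsSeparable k (ResidueField O)] :
    ∃ a b c : ResidueField O, 4 * a * c - b ^ 2 ≠ 0 ∧
      ∃ e : AdicCompletion (maximalIdeal O) O ≃+*
          (MvPowerSeries (Fin 2) (ResidueField O) ⧸ Ideal.span {qps a b c}),
        ∀ t : k, e (algebraMap O _ (algebraMap k O t)) =
          Ideal.Quotient.mk _ (MvPowerSeries.C (algebraMap k (ResidueField O) t)) := by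
  obtain ⟨x, y, hxy⟩ := hB
  obtain ⟨l₁, l₂, a, b, c, hgen, hq, ha, hd⟩ := exists_relation_of_node hmB hxy
  haveI := isLocalHom_of_map hmB
  have hspan : maximalIdeal B = Ideal.span {algebraMap O B l₁, algebraMap O B l₂} := by
    rw [hmB, hgen, Ideal.map_span, Set.image_pair]
  have hindO : ∀ (n : ℕ) (e f : O), e * (l₁ * l₂ ^ n) + f * l₂ ^ (n + 1) ∈ maximalIdeal O ^ (n + 1 + 1) →
      e ∈ maximalIdeal O ∧ f ∈ maximalIdeal O := fun n e f =>
    indep_of_node (algebraMap O B) hxy hspan hq ha n e f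
  haveI : IsNoetherianRing (AdicCompletion (maximalIdeal O) O) := LC.Canon.isNoetherianRing_completion
  haveI : IsAdicComplete (maximalIdeal (AdicCompletion (maximalIdeal O) O)) (AdicCompletion (maximalIdeal O) O) :=
    isAdicComplete_maximalIdeal O
  let ι := algebraMap O (AdicCompletion (maximalIdeal O) O)
  have hmC : maximalIdeal (AdicCompletion (maximalIdeal O) O) = (maximalIdeal O).map ι :=
    AdicCompletion.maximalIdeal_eq_map
  have hιm : ∀ z ∈ maximalIdeal O, ι z ∈ maximalIdeal (AdicCompletion (maximalIdeal O) O) := fun z hz => by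
    rw [hmC]; exact Ideal.mem_map_of_mem _ hz
  haveI := S1985.isGeometricallyReduced_of_isSeparable k (ResidueField O)
  haveI : Algebra.FormallySmooth k (ResidueField O) :=
    EGA41Lib.FieldFS.formallySmooth_of_isGeometricallyReduced k (ResidueField O)
  let g : ResidueField O →ₐ[k] (AdicCompletion (maximalIdeal O) O) ⧸ maximalIdeal (AdicCompletion (maximalIdeal O) O) :=
    Ideal.Quotient.liftₐ (maximalIdeal O)
      ((Ideal.Quotient.mkₐ k (maximalIdeal (AdicCompletion (maximalIdeal O) O))).comp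
        (IsScalarTower.toAlgHom k O (AdicCompletion (maximalIdeal O) O)))
      fun z hz => Ideal.Quotient.eq_zero_iff_mem.mpr (hιm z hz)
  obtain ⟨σ, hσ⟩ := Algebra.FormallySmooth.exists_mkₐ_comp_eq_of_isAdicComplete g
  have hσι : ∀ z : O, σ (residue O z) - ι z ∈ maximalIdeal (AdicCompletion (maximalIdeal O) O) := fun z =>
    Ideal.Quotient.eq.mp (AlgHom.congr_fun hσ (residue O z))
  have happ : ∀ w, ∃ z : O, w - ι z ∈ maximalIdeal (AdicCompletion (maximalIdeal O) O) := fun w => by
    obtain ⟨z, hz⟩ := Adic7.exists_sub_algebraMap_mem (maximalIdeal O) (IsNoetherian.noetherian _) w 1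
    exact ⟨z, by rw [hmC]; simpa using hz⟩
  letI algκC : Algebra (ResidueField O) (AdicCompletion (maximalIdeal O) O) := σ.toRingHom.toAlgebra
  have hres : ∀ w, ∃ t : ResidueField O,
      w - algebraMap _ (AdicCompletion (maximalIdeal O) O) t ∈ maximalIdeal _ := fun w => by
    obtain ⟨z, hz⟩ := happ w
    refine ⟨residue O z, ?_⟩
    have := sub_mem hz (hσι z)
    convert this using 1
    show w - σ (residue O z) = _
    ring
  have hgenC : maximalIdeal (AdicCompletion (maximalIdeal O) O) = Ideal.span {ι l₁, ι l₂} := by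
    refine hmC.trans ((congrArg (Ideal.map ι) hgen).trans ?_)
    rw [Ideal.map_span, Set.image_pair]
  have hqC : σ (residue O a) * ι l₁ ^ 2 + σ (residue O b) * (ι l₁ * ι l₂) + σ (residue O c) * ι l₂ ^ 2 ∈
      maximalIdeal (AdicCompletion (maximalIdeal O) O) ^ 3 := by
    have h0 : ι (a * l₁ ^ 2 + b * (l₁ * l₂) + c * l₂ ^ 2) ∈
        maximalIdeal (AdicCompletion (maximalIdeal O) O) ^ 3 := by
      rw [hmC, ← Ideal.map_pow]; exact Ideal.mem_map_of_mem _ hq
    have hl₁ : ι l₁ ∈ maximalIdeal (AdicCompletion (maximalIdeal O) O) := hgenC ▸ Ideal.subset_span (by simp)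
    have hl₂ : ι l₂ ∈ maximalIdeal (AdicCompletion (maximalIdeal O) O) := hgenC ▸ Ideal.subset_span (by simp)
    have d : ∀ (z : O) {s}, s ∈ maximalIdeal (AdicCompletion (maximalIdeal O) O) ^ 2 →
        (σ (residue O z) - ι z) * s ∈ maximalIdeal (AdicCompletion (maximalIdeal O) O) ^ 3 := fun z s hs => by
      rw [pow_succ']; exact Ideal.mul_mem_mul (hσι z) hs
    have := add_mem (add_mem (add_mem h0 (d a (mul_mem_sq hl₁ hl₁))) (d b (mul_mem_sq hl₁ hl₂))) (d c (mul_mem_sq hl₂ hl₂))
    convert this using 1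
    simp only [map_add, map_mul, map_pow]
    ring
  have hdκ : IsUnit (residue O b ^ 2 - 4 * residue O a * residue O c) := by
    have := hd.map (residue O)
    rwa [map_sub, map_pow, map_mul, map_mul, map_ofNat] at this
  have hdC : IsUnit (σ (residue O b) ^ 2 - 4 * σ (residue O a) * σ (residue O c)) := by
    have := hdκ.map σ
    rwa [map_sub, map_pow, map_mul, map_mul, map_ofNat] at this
  obtain ⟨U, V, hU, hV, hUV⟩ := exists_exact hgenC _ _ _ hdC hqC
  have hl₁ : ι l₁ ∈ maximalIdeal (AdicCompletion (maximalIdeal O) O) := hgenC ▸ Ideal.subset_span (by simp)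
  have hl₂ : ι l₂ ∈ maximalIdeal (AdicCompletion (maximalIdeal O) O) := hgenC ▸ Ideal.subset_span (by simp)
  have hgenUV : maximalIdeal (AdicCompletion (maximalIdeal O) O) = Ideal.span {U, V} := by
    refine le_antisymm ?_ (Ideal.span_le.mpr ?_)
    · refine Submodule.le_of_le_smul_of_le_jacobson_bot (I := maximalIdeal _) (IsNoetherian.noetherian _)
        (IsLocalRing.maximalIdeal_le_jacobson _) ?_
      rw [smul_eq_mul, ← pow_two]
      conv_lhs => rw [hgenC]
      refine Ideal.span_le.mpr ?_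
      rintro z (rfl | rfl)
      · rw [SetLike.mem_coe, ← sub_sub_cancel U (ι l₁)]
        exact sub_mem (Ideal.mem_sup_left (Ideal.subset_span (by simp))) (Ideal.mem_sup_right hU)
      · rw [SetLike.mem_coe, ← sub_sub_cancel V (ι l₂)]
        exact sub_mem (Ideal.mem_sup_left (Ideal.subset_span (by simp))) (Ideal.mem_sup_right hV)
    · rintro z (rfl | rfl)
      · simpa using add_mem (Ideal.pow_le_self two_ne_zero hU) hl₁
      · simpa using add_mem (Ideal.pow_le_self two_ne_zero hV) hl₂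
  have hindC : ∀ (n : ℕ) (e f : AdicCompletion (maximalIdeal O) O),
      e * (U * V ^ n) + f * V ^ (n + 1) ∈ maximalIdeal (AdicCompletion (maximalIdeal O) O) ^ (n + 1 + 1) →
      e ∈ maximalIdeal (AdicCompletion (maximalIdeal O) O) ∧ f ∈ maximalIdeal (AdicCompletion (maximalIdeal O) O) := by
    intro n e f hef
    obtain ⟨e', he⟩ := happ e
    obtain ⟨f', hf⟩ := happ f
    set m := maximalIdeal (AdicCompletion (maximalIdeal O) O)
    have hm1 : ∀ {z s}, z ∈ m → s ∈ m ^ (n + 1) → z * s ∈ m ^ (n + 1 + 1) := fun hz hs => by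
      rw [pow_succ']; exact Ideal.mul_mem_mul hz hs
    have hVm : V ∈ m := hgenUV ▸ Ideal.subset_span (by simp)
    have hUm : U ∈ m := hgenUV ▸ Ideal.subset_span (by simp)
    have h2 : V ^ (n + 1) - ι l₂ ^ (n + 1) ∈ m ^ (n + 1 + 1) := IsNodePair.pow_sub_pow_mem hl₂ hV (n + 1)
    have h1 : U * V ^ n - ι l₁ * ι l₂ ^ n ∈ m ^ (n + 1 + 1) := by
      rw [show U * V ^ n - ι l₁ * ι l₂ ^ n = (U - ι l₁) * V ^ n + ι l₁ * (V ^ n - ι l₂ ^ n) by ring]
      refine add_mem ?_ (hm1 hl₁ (IsNodePair.pow_sub_pow_mem hl₂ hV n))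
      rw [show n + 1 + 1 = 2 + n by omega, pow_add]
      exact Ideal.mul_mem_mul hU (Ideal.pow_mem_pow hVm n)
    have hUV' : U * V ^ n ∈ m ^ (n + 1) := by
      rw [pow_succ']; exact Ideal.mul_mem_mul hUm (Ideal.pow_mem_pow hVm n)
    have h3 : ι (e' * (l₁ * l₂ ^ n) + f' * l₂ ^ (n + 1)) ∈ m ^ (n + 1 + 1) := by
      have := sub_mem (sub_mem (sub_mem (sub_mem hef (hm1 he hUV')) (hm1 hf (Ideal.pow_mem_pow hVm (n + 1))))
        (Ideal.mul_mem_left _ (ι e') h1)) (Ideal.mul_mem_left _ (ι f') h2)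
      convert this using 1
      simp only [map_add, map_mul, map_pow]
      ring
    obtain ⟨h4, h5⟩ := hindO n e' f' ((comap_pow_completion (A := O) (n + 1 + 1)).le h3)
    exact ⟨by simpa using add_mem he (hιm _ h4), by simpa using add_mem hf (hιm _ h5)⟩
  obtain ⟨E⟩ := exists_equiv hres hgenUV (residue O a) (residue O b) (residue O c) (ha.map (residue O)).ne_zero
    hUV hindC
  refine ⟨residue O a, residue O b, residue O c, ?_, E.symm.toRingEquiv, fun t => ?_⟩
  · intro h0
    refine hdκ.ne_zero ?_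
    linear_combination -h0
  · have e1 : ι (algebraMap k O t) = σ (algebraMap k (ResidueField O) t) :=
      ((σ.commutes t).trans (IsScalarTower.algebraMap_apply k O (AdicCompletion (maximalIdeal O) O) t)).symm
    show E.symm (ι (algebraMap k O t)) = _
    rw [e1]
    exact E.symm.commutes (algebraMap k (ResidueField O) t)

end Forward

section Backward

variable {O B : Type u} [CommRing O] [IsLocalRing O] [IsNoetherianRing O]
  [CommRing B] [IsLocalRing B] [Algebra O B] [Module.Flat O B]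

theorem hasNodePair_of_equiv (hmB : maximalIdeal B = (maximalIdeal O).map (algebraMap O B))
    [IsAlgClosed (ResidueField B)] {κ : Type u} [Field κ] (a b c : κ) (hd : 4 * a * c - b ^ 2 ≠ 0)
    (e : AdicCompletion (maximalIdeal O) O ≃+* (MvPowerSeries (Fin 2) κ ⧸ Ideal.span {qps a b c})) :
    HasNodePair B := by
  let Ω := AlgebraicClosure κ
  let j := algebraMap κ Ω
  have hne : ∀ {F : Type u} [Field F] (p q r : F), Ideal.span {qps p q r} ≠ ⊤ := fun {F} _ p q r h => by
    have h1 : Ideal.span {qps p q r} ≤ maximalIdeal (MvPowerSeries (Fin 2) F) := by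
      rw [Ideal.span_singleton_le_iff_mem]
      exact (mem_maximalIdeal _).mpr fun hu => by simpa [qps] using MvPowerSeries.isUnit_iff_constantCoeff.mp hu
    exact (maximalIdeal.isMaximal _).ne_top (top_le_iff.mp (h ▸ h1))
  haveI : Nontrivial (MvPowerSeries (Fin 2) κ ⧸ Ideal.span {qps a b c}) := Ideal.Quotient.nontrivial_iff.mpr (hne _ _ _)
  haveI : IsLocalRing (MvPowerSeries (Fin 2) κ ⧸ Ideal.span {qps a b c}) :=
    IsLocalRing.of_surjective' (Ideal.Quotient.mk _) Ideal.Quotient.mk_surjective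
  haveI : Nontrivial (MvPowerSeries (Fin 2) Ω ⧸ Ideal.span {qps (j a) (j b) (j c)}) :=
    Ideal.Quotient.nontrivial_iff.mpr (hne _ _ _)
  haveI : IsLocalRing (MvPowerSeries (Fin 2) Ω ⧸ Ideal.span {qps (j a) (j b) (j c)}) :=
    IsLocalRing.of_surjective' (Ideal.Quotient.mk _) Ideal.Quotient.mk_surjective
  let h : (MvPowerSeries (Fin 2) κ ⧸ Ideal.span {qps a b c}) →+*
      (MvPowerSeries (Fin 2) Ω ⧸ Ideal.span {qps (j a) (j b) (j c)}) :=
    Ideal.Quotient.lift _ ((Ideal.Quotient.mk _).comp (MvPowerSeries.map j)) fun z hz => by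
      obtain ⟨r, rfl⟩ := Ideal.mem_span_singleton'.mp hz
      rw [RingHom.comp_apply, map_mul, Ideal.Quotient.eq_zero_iff_mem]
      refine Ideal.mul_mem_left _ _ ?_
      simp only [qps, map_add, map_mul, map_pow, MvPowerSeries.map_C, MvPowerSeries.map_X]
      exact Ideal.mem_span_singleton_self _
  let g : O →+* (MvPowerSeries (Fin 2) κ ⧸ Ideal.span {qps a b c}) := e.toRingHom.comp (algebraMap O _)
  let Xi : Fin 2 → (MvPowerSeries (Fin 2) κ ⧸ Ideal.span {qps a b c}) := fun i =>
    Ideal.Quotient.mk _ (MvPowerSeries.X i)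
  set m := maximalIdeal (MvPowerSeries (Fin 2) κ ⧸ Ideal.span {qps a b c}) with hm
  have hmX : m = Ideal.span {Xi 0, Xi 1} := by
    rw [hm, ← map_maximalIdeal_of_surjective _ (Ideal.Quotient.mk_surjective (I := Ideal.span {qps a b c})),
      maximalIdeal_series, Ideal.map_span, Set.image_pair]
  have hmg : m = (maximalIdeal O).map g := by
    rw [hm, ← map_maximalIdeal_of_surjective e.toRingHom e.surjective, AdicCompletion.maximalIdeal_eq_map,
      Ideal.map_map]
  have hcomap : ∀ n, (m ^ n).comap g = maximalIdeal O ^ n := fun n => by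
    rw [show g = e.toRingHom.comp (algebraMap O _) from rfl, ← Ideal.comap_comap]
    have : (m ^ n).comap e.toRingHom = maximalIdeal (AdicCompletion (maximalIdeal O) O) ^ n := by
      rw [hm, ← map_maximalIdeal_of_surjective e.toRingHom e.surjective, ← Ideal.map_pow,
        Ideal.comap_map_of_bijective e.toRingHom e.bijective]
    rw [this, comap_pow_completion]
  have happ : ∀ (y : MvPowerSeries (Fin 2) κ ⧸ Ideal.span {qps a b c}) (n : ℕ), ∃ z : O, y - g z ∈ m ^ n := fun y n => by
    obtain ⟨z, hz⟩ := Adic7.exists_sub_algebraMap_mem (maximalIdeal O) (IsNoetherian.noetherian _) (e.symm y) n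
    refine ⟨z, ?_⟩
    rw [← AdicCompletion.maximalIdeal_eq_map] at hz
    have h1 := Ideal.mem_map_of_mem e.toRingHom hz
    rw [Ideal.map_pow, map_maximalIdeal_of_surjective e.toRingHom e.surjective, map_sub] at h1
    convert h1 using 2
    · exact (e.apply_symm_apply y).symm
    · rfl
  obtain ⟨l₁, h₁⟩ := happ (Xi 0) 2
  obtain ⟨l₂, h₂⟩ := happ (Xi 1) 2
  obtain ⟨a', ha⟩ := happ (Ideal.Quotient.mk _ (MvPowerSeries.C a)) 1
  obtain ⟨b', hb⟩ := happ (Ideal.Quotient.mk _ (MvPowerSeries.C b)) 1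
  obtain ⟨c', hc⟩ := happ (Ideal.Quotient.mk _ (MvPowerSeries.C c)) 1
  rw [pow_one] at ha hb hc
  have hX0 : Xi 0 ∈ m := hmX ▸ Ideal.subset_span (by simp)
  have hX1 : Xi 1 ∈ m := hmX ▸ Ideal.subset_span (by simp)
  have hm1 : ∀ z : O, g z ∈ m → z ∈ maximalIdeal O := fun z hz => by
    have := hcomap 1
    rw [pow_one, pow_one] at this
    exact this.le hz
  have hl₁ : l₁ ∈ maximalIdeal O := hm1 _ (by simpa using sub_mem hX0 (Ideal.pow_le_self two_ne_zero h₁))
  have hl₂ : l₂ ∈ maximalIdeal O := hm1 _ (by simpa using sub_mem hX1 (Ideal.pow_le_self two_ne_zero h₂))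
  have hgen : maximalIdeal O = Ideal.span {l₁, l₂} := by
    refine le_antisymm ?_ (Ideal.span_le.mpr (by simp [Set.insert_subset_iff, hl₁, hl₂]))
    refine Submodule.le_of_le_smul_of_le_jacobson_bot (I := maximalIdeal O) (IsNoetherian.noetherian _)
      (IsLocalRing.maximalIdeal_le_jacobson _) ?_
    rw [smul_eq_mul, ← pow_two]
    intro z hz
    obtain ⟨p, q, e'⟩ := Ideal.mem_span_pair.mp (hmX.le (hmg ▸ Ideal.mem_map_of_mem g hz : g z ∈ m))
    obtain ⟨p', hp⟩ := happ p 1
    obtain ⟨q', hq⟩ := happ q 1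
    rw [pow_one] at hp hq
    have h3 : g (z - (p' * l₁ + q' * l₂)) ∈ m ^ 2 := by
      have := add_mem (add_mem (mul_mem_sq hp hX0) (mul_mem_sq hq hX1))
        (add_mem (Ideal.mul_mem_left _ (g p') h₁) (Ideal.mul_mem_left _ (g q') h₂))
      convert this using 1
      simp only [map_sub, map_add, map_mul, ← e']
      ring
    rw [show z = (p' * l₁ + q' * l₂) + (z - (p' * l₁ + q' * l₂)) by ring]
    exact add_mem (Ideal.mem_sup_left (Ideal.mem_span_pair.mpr ⟨p', q', rfl⟩))
      (Ideal.mem_sup_right ((hcomap 2).le h3))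
  have hq0 : Ideal.Quotient.mk (Ideal.span {qps a b c}) (MvPowerSeries.C a) * Xi 0 ^ 2 +
      Ideal.Quotient.mk _ (MvPowerSeries.C b) * Xi 0 * Xi 1 +
      Ideal.Quotient.mk _ (MvPowerSeries.C c) * Xi 1 ^ 2 = 0 := by
    simp only [Xi, ← map_pow, ← map_mul, ← map_add]
    exact Ideal.Quotient.eq_zero_iff_mem.mpr (Ideal.mem_span_singleton_self _)
  have hq : a' * l₁ ^ 2 + b' * (l₁ * l₂) + c' * l₂ ^ 2 ∈ maximalIdeal O ^ 3 := by
    refine (hcomap 3).le ?_
    have hg1 : g l₁ ∈ m := hmg ▸ Ideal.mem_map_of_mem g hl₁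
    have hg2 : g l₂ ∈ m := hmg ▸ Ideal.mem_map_of_mem g hl₂
    have d : ∀ {z s}, z ∈ m → s ∈ m ^ 2 → z * s ∈ m ^ 3 := fun hz hs => by
      rw [pow_succ']; exact Ideal.mul_mem_mul hz hs
    have d' : ∀ {s z}, s ∈ m ^ 2 → z ∈ m → s * z ∈ m ^ 3 := fun hs hz => by
      rw [pow_succ]; exact Ideal.mul_mem_mul hs hz
    have := neg_mem (add_mem (add_mem (add_mem (d ha (mul_mem_sq hg1 hg1)) (d hb (mul_mem_sq hg1 hg2)))
      (d hc (mul_mem_sq hg2 hg2)))
      (add_mem (add_mem (Ideal.mul_mem_left _ (Ideal.Quotient.mk _ (MvPowerSeries.C a)) (d' h₁ (add_mem hg1 hX0)))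
        (Ideal.mul_mem_left _ (Ideal.Quotient.mk _ (MvPowerSeries.C b))
          (add_mem (d' h₁ hX1) (d hg1 h₂))))
        (Ideal.mul_mem_left _ (Ideal.Quotient.mk _ (MvPowerSeries.C c)) (d' h₂ (add_mem hg2 hX1)))))
    rw [Ideal.mem_comap]
    simp only [map_add, map_mul, map_pow]
    convert this using 1
    simp only [Xi] at hq0 ⊢
    linear_combination hq0
  have hd' : IsUnit (b' ^ 2 - 4 * a' * c') := by
    have hu : IsUnit (Ideal.Quotient.mk (Ideal.span {qps a b c}) (MvPowerSeries.C (b ^ 2 - 4 * a * c))) :=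
      ((isUnit_iff_ne_zero.mpr fun h0 => hd (by linear_combination -h0)).map MvPowerSeries.C).map _
    rw [← notMem_maximalIdeal]
    intro hmem
    refine notMem_maximalIdeal.mpr hu ?_
    simp only [map_sub, map_mul, map_pow, map_ofNat]
    have := add_mem (hmg ▸ Ideal.mem_map_of_mem g hmem : g (b' ^ 2 - 4 * a' * c') ∈ m)
      (sub_mem (Ideal.mul_mem_right (Ideal.Quotient.mk _ (MvPowerSeries.C b) + g b') _ hb)
        (Ideal.mul_mem_left _ 4 (add_mem (Ideal.mul_mem_right (Ideal.Quotient.mk _ (MvPowerSeries.C c)) _ ha)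
          (Ideal.mul_mem_left _ (g a') hc))))
    convert this using 1
    simp only [map_sub, map_mul, map_pow, map_ofNat]
    ring
  -- independence from the algebraic closure
  obtain ⟨m₁, m₂, A, Bc, Cc, hgen', hq', hA, -⟩ := exists_norm hgen hq hd'
  set φ := h.comp g with hφ
  have hmh : maximalIdeal (MvPowerSeries (Fin 2) Ω ⧸ Ideal.span {qps (j a) (j b) (j c)}) = m.map h := by
    rw [hmX, ← map_maximalIdeal_of_surjective _ (Ideal.Quotient.mk_surjective (I := Ideal.span {qps (j a) (j b) (j c)})),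
      maximalIdeal_series, Ideal.map_span, Set.image_pair, Ideal.map_span, Set.image_pair]
    simp only [h, Xi, Ideal.Quotient.lift_mk, RingHom.comp_apply, MvPowerSeries.map_X]
  have hmφ : maximalIdeal (MvPowerSeries (Fin 2) Ω ⧸ Ideal.span {qps (j a) (j b) (j c)}) =
      (maximalIdeal O).map φ := by
    rw [hmh, hmg, Ideal.map_map]
  haveI : IsLocalHom φ := ⟨fun z hz => by
    by_contra hnu
    exact (mem_maximalIdeal _).mp (hmφ.ge (Ideal.mem_map_of_mem _ ((mem_maximalIdeal _).mpr hnu))) hz⟩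
  obtain ⟨u, v, huv⟩ := hasNodePair_qps Ω (j a) (j b) (j c) (by
    intro h0
    refine hd ?_
    refine j.injective ?_
    rw [map_sub, map_mul, map_mul, map_pow, map_ofNat, map_zero]
    linear_combination -h0)
  refine hasNodePair_of_indep hmB hgen hq hd' fun n hn => ?_
  obtain ⟨n, rfl⟩ := Nat.exists_eq_add_of_le' hn
  refine ⟨![m₁ * m₂ ^ n, m₂ ^ (n + 1)], fun i => ?_, fun w hw => ?_⟩
  · have hm1' : m₁ ∈ maximalIdeal O := hgen' ▸ Ideal.subset_span (by simp)
    have hm2' : m₂ ∈ maximalIdeal O := hgen' ▸ Ideal.subset_span (by simp)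
    fin_cases i
    · show m₁ * m₂ ^ n ∈ _
      rw [pow_succ']; exact Ideal.mul_mem_mul hm1' (Ideal.pow_mem_pow hm2' n)
    · exact Ideal.pow_mem_pow hm2' (n + 1)
  · rw [Fin.sum_univ_two] at hw
    obtain ⟨h5, h6⟩ := indep_of_node φ huv (by rw [hmφ, hgen', Ideal.map_span, Set.image_pair]) hq' hA n (w 0) (w 1) hw
    intro i; fin_cases i
    · exact h5
    · exact h6

end Backward

end Groth.Agent.NodeLib.Quad
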