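import Groth.Agent.NodeLib.CritDescent
import Mathlib

/-!
# The residue field at a node is separable

If a point of `A ⊗[k] K` over a maximal ideal `P` of `A` has a node pair and residue field `K`, then `P`
generates the maximal ideal there.
-/

set_option autoImplicit false
set_option linter.style.haveILetI false
set_option backward.isDefEq.respectTransparency false
set_option backward.isDefEq.respectTransparency.types false

universe u

open TensorProduct IsLocalRing

namespace Groth.Agent.NodeLib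

theorem IsNodePair.exists_mul_mem_pow {L : Type u} [CommRing L] [IsLocalRing L] {x y : L}
    (h : IsNodePair x y) : ∀ j : ℕ, ∃ x' y' : L, IsNodePair x' y' ∧ x' * y' ∈ maximalIdeal L ^ (j + 3) := by
  intro j
  induction j with
  | zero => exact ⟨x, y, h, h.2.1⟩
  | succ j ih =>
    obtain ⟨a, b, hab, hz⟩ := ih
    have hz' : a * b ∈ maximalIdeal L ^ (j + 2) * (Ideal.span {a} ⊔ Ideal.span {b}) := by
      rw [← Ideal.span_insert, ← hab.1, ← pow_succ]; exact hz
    rw [Ideal.mul_sup, Submodule.mem_sup] at hz'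
    obtain ⟨z₁, h₁, z₂, h₂, e⟩ := hz'
    obtain ⟨p, hp, rfl⟩ := Ideal.mem_mul_span_singleton.mp h₁
    obtain ⟨q, hq, rfl⟩ := Ideal.mem_mul_span_singleton.mp h₂
    have h2 : maximalIdeal L ^ (j + 2) ≤ maximalIdeal L ^ 2 := Ideal.pow_le_pow_right (by omega)
    refine ⟨a - q, b - p, hab.congr_sq ?_ ?_, ?_⟩
    · rw [sub_sub_cancel_left]; exact neg_mem (h2 hq)
    · rw [sub_sub_cancel_left]; exact neg_mem (h2 hp)
    · rw [show (a - q) * (b - p) = q * p by linear_combination -e]
      exact Ideal.pow_le_pow_right (by omega)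
        ((pow_add (maximalIdeal L) (j + 2) (j + 2)).symm ▸ Ideal.mul_mem_mul hq hp)

variable {k K A : Type u} [Field k] [Field K] [Algebra k K] [CommRing A] [Algebra k A]
  (P : Ideal A) [P.IsMaximal] (Q : Ideal (A ⊗[k] K)) [Q.IsPrime]

local notation "L" => Localization.AtPrime Q
local notation "incl" => (Algebra.TensorProduct.includeRight : K →ₐ[k] A ⊗[k] K)

set_option maxHeartbeats 800000 in
theorem exists_relation (hQP : Q.comap (algebraMap A (A ⊗[k] K)) = P)
    (hres : ∀ b : A ⊗[k] K, ∃ c : K, b - incl c ∈ Q) (N : ℕ)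
    (hN : maximalIdeal L ^ N ≤ P.map (algebraMap A L)) (bx bz : A ⊗[k] K)
    (h : IsNodePair (algebraMap _ L bx) (algebraMap _ L bz))
    (hxy : algebraMap _ L bx * algebraMap _ L bz ∈ maximalIdeal L ^ (N + N)) :
    ∃ u v : L, u ∈ maximalIdeal L ∧ IsUnit v ∧
      algebraMap _ L bx * u + algebraMap _ L bz * v ∈ P.map (algebraMap A L) := by
  classical
  set I := P.map (algebraMap A L) with hI
  set x := algebraMap (A ⊗[k] K) L bx with hx
  set y := algebraMap (A ⊗[k] K) L bz with hy
  let cL : K →+* L := (algebraMap (A ⊗[k] K) L).comp (incl).toRingHom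
  have hcL : ∀ c, cL c ∈ maximalIdeal L → c = 0 := fun c hc => by
    by_contra hne
    exact (mem_maximalIdeal _).mp hc ((isUnit_iff_ne_zero.mpr hne).map cL)
  have hPm : ∀ a ∈ P, algebraMap A L a ∈ maximalIdeal L := fun a ha => by
    rw [IsScalarTower.algebraMap_apply A (A ⊗[k] K) L]
    exact (IsLocalization.AtPrime.to_map_mem_maximal_iff L Q _).mpr (by rwa [← hQP] at ha)
  have hIm : I ≤ maximalIdeal L := Ideal.map_le_iff_le_comap.mpr hPm
  -- coordinates
  let Rel : (A ⊗[k] K) → ResidueField L → Prop := fun b r =>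
    ∃ (c : K) (p q : L), algebraMap _ L b = cL c + p * x + q * y ∧ residue L p = r
  have hex : ∀ b, ∃ r, Rel b r := fun b => by
    obtain ⟨c, hc⟩ := hres b
    have : algebraMap _ L (b - incl c) ∈ Ideal.span {x, y} :=
      h.1 ▸ (IsLocalization.AtPrime.to_map_mem_maximal_iff L Q _).mpr hc
    obtain ⟨p, q, e⟩ := Ideal.mem_span_pair.mp this
    refine ⟨_, c, p, q, ?_, rfl⟩
    rw [map_sub] at e
    show _ = algebraMap _ L (incl c) + p * x + q * y
    linear_combination -e
  have huniq : ∀ {b r r'}, Rel b r → Rel b r' → r = r' := by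
    rintro b r r' ⟨c, p, q, e, rfl⟩ ⟨c', p', q', e', rfl⟩
    have hd : cL (c - c') = (p' - p) * x + (q' - q) * y := by rw [map_sub]; linear_combination e' - e
    have hc0 : c - c' = 0 := hcL _ (by
      rw [hd]; exact add_mem (Ideal.mul_mem_left _ _ h.left_mem) (Ideal.mul_mem_left _ _ h.right_mem))
    rw [hc0, map_zero] at hd
    have h2 := h.2.2 1 le_rfl (p' - p) (q' - q) (by rw [pow_one, pow_one, ← hd]; exact zero_mem _)
    exact (Ideal.Quotient.eq.mpr h2.1).symm
  let ι : A → A ⊗[k] K := algebraMap A (A ⊗[k] K)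
  choose D hD using fun a => hex (ι a)
  have hDadd : ∀ a b, D (a + b) = D a + D b := fun a b => by
    obtain ⟨c, p, q, e, ep⟩ := hD a
    obtain ⟨c', p', q', e', ep'⟩ := hD b
    refine huniq (hD _) ⟨c + c', p + p', q + q', ?_, by rw [map_add, ep, ep']⟩
    simp only [ι, map_add] at e e' ⊢
    linear_combination e + e'
  have hDmul : ∀ a b, D (a * b) = residue L (algebraMap A L a) * D b + residue L (algebraMap A L b) * D a := by
    intro a b
    obtain ⟨c, p, q, e, ep⟩ := hD a
    obtain ⟨c', p', q', e', ep'⟩ := hD b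
    refine huniq (hD _) ⟨c * c', cL c * p' + cL c' * p + p * (p' * x + q' * y),
      cL c * q' + cL c' * q + q * (p' * x + q' * y), ?_, ?_⟩
    · simp only [ι] at e e' ⊢
      rw [map_mul, map_mul, e, e', map_mul]
      ring
    · have ea : algebraMap A L a = cL c + p * x + q * y := by
        rw [IsScalarTower.algebraMap_apply A (A ⊗[k] K) L]; exact e
      have eb : algebraMap A L b = cL c' + p' * x + q' * y := by
        rw [IsScalarTower.algebraMap_apply A (A ⊗[k] K) L]; exact e'
      rw [ea, eb]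
      simp only [map_add, map_mul, (residue_eq_zero_iff x).mpr h.left_mem, (residue_eq_zero_iff y).mpr h.right_mem,
        mul_zero, add_zero, ep, ep']
  have hk : ∀ r : k, algebraMap A L (algebraMap k A r) = cL (algebraMap k K r) := fun r => by
    show _ = algebraMap (A ⊗[k] K) L (incl (algebraMap k K r))
    rw [AlgHom.commutes, IsScalarTower.algebraMap_apply A (A ⊗[k] K) L, ← IsScalarTower.algebraMap_apply k A (A ⊗[k] K)]
  have hDk : ∀ r : k, D (algebraMap k A r) = 0 := fun r => by
    refine huniq (hD _) ⟨algebraMap k K r, 0, 0, ?_, map_zero _⟩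
    show algebraMap _ L (algebraMap A (A ⊗[k] K) (algebraMap k A r)) = _
    rw [← IsScalarTower.algebraMap_apply A (A ⊗[k] K) L, hk]; ring
  -- the Artinian quotient and the lifting
  let red : (L ⧸ I) →+* ResidueField L := Ideal.Quotient.factor hIm
  let φR : A ⧸ P →+* (L ⧸ I) := Ideal.Quotient.lift P ((Ideal.Quotient.mk I).comp (algebraMap A L))
    fun a ha => Ideal.Quotient.eq_zero_iff_mem.mpr (Ideal.mem_map_of_mem _ ha)
  let φK : A ⧸ P →+* ResidueField L := red.comp φR
  letI algR : Algebra (A ⧸ P) (L ⧸ I) := φR.toAlgebra' fun a b => by exact @mul_comm (L ⧸ I) _ _ _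
  letI algK : Algebra (A ⧸ P) (ResidueField L) := φK.toAlgebra
  let redL : (L ⧸ I) →ₐ[A ⧸ P] ResidueField L := { red with commutes' := fun _ => rfl }
  letI := Ideal.Quotient.field P
  obtain ⟨s, hs⟩ := LinearMap.exists_rightInverse_of_surjective redL.toLinearMap
    (LinearMap.range_eq_top.mpr (Ideal.Quotient.factor_surjective hIm))
  have hs' : ∀ z, red (s z) = z := fun z => LinearMap.congr_fun hs z
  have hsmul : ∀ (a : A) z, s (residue L (algebraMap A L a) * z) =
      Ideal.Quotient.mk I (algebraMap A L a) * s z := fun a z => by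
    have := map_smul s (Ideal.Quotient.mk P a) z
    rw [Algebra.smul_def, Algebra.smul_def] at this
    exact this
  let δ : A → (L ⧸ I) := fun a => s (D a)
  have hksmul : ∀ (r : k) (z : L ⧸ I), r • z = Ideal.Quotient.mk I (algebraMap A L (algebraMap k A r)) * z := by
    intro r z
    obtain ⟨w, rfl⟩ := Ideal.Quotient.mk_surjective z
    show Ideal.Quotient.mk I (r • w) = _
    rw [← map_mul, ← IsScalarTower.algebraMap_apply k A L, ← Algebra.smul_def]
  have hδk : ∀ (r : k) a, δ (r • a) = r • δ a := fun r a => by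
    show s (D (r • a)) = r • s (D a)
    rw [Algebra.smul_def, hDmul, hDk, mul_zero, add_zero, hsmul, hksmul]
  let Dt : A ⊗[k] K →ₗ[k] (L ⧸ I) := TensorProduct.lift (LinearMap.mk₂ k
    (fun a c => Ideal.Quotient.mk I (cL c) * δ a)
    (fun a a' c => by simp only [δ, hDadd, map_add, mul_add])
    (fun r a c => by rw [hδk, mul_smul_comm])
    (fun a c c' => by simp only [map_add, add_mul])
    (fun r a c => by
      rw [Algebra.smul_def r c, map_mul, map_mul, ← hk, hksmul, mul_assoc]))
  have hDt : ∀ a c, Dt (a ⊗ₜ c) = Ideal.Quotient.mk I (cL c) * δ a := fun a c => TensorProduct.lift.tmul ..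
  let π : A ⊗[k] K →+* (L ⧸ I) := (Ideal.Quotient.mk I).comp (algebraMap _ L)
  have hsplit : ∀ a c, (a ⊗ₜ[k] c) = ι a * incl c := fun a c => by
    simp [ι, Algebra.TensorProduct.algebraMap_apply, Algebra.TensorProduct.tmul_mul_tmul]
  have hπ : ∀ a c, π (a ⊗ₜ c) = Ideal.Quotient.mk I (algebraMap A L a) * Ideal.Quotient.mk I (cL c) := fun a c => by
    rw [hsplit, map_mul]
    congr 1
  have hleib : ∀ b b', Dt (b * b') = π b * Dt b' + π b' * Dt b := by
    intro b b'
    induction b using TensorProduct.induction_on with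
    | zero => simp
    | add b₁ b₂ h₁ h₂ => rw [add_mul, map_add, h₁, h₂, map_add, map_add]; ring
    | tmul a c =>
      induction b' using TensorProduct.induction_on with
      | zero => simp
      | add b₁ b₂ h₁ h₂ => rw [mul_add, map_add, h₁, h₂, map_add, map_add]; ring
      | tmul a' c' =>
        rw [Algebra.TensorProduct.tmul_mul_tmul, hDt, hDt, hDt, hπ, hπ]
        simp only [δ, hDmul, map_add, hsmul, map_mul]
        ring
  have hrel : ∀ b, Rel b (red (Dt b)) := by
    intro b
    induction b using TensorProduct.induction_on with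
    | zero => exact ⟨0, 0, 0, by simp, by simp⟩
    | add b₁ b₂ h₁ h₂ =>
      obtain ⟨c, p, q, e, ep⟩ := h₁
      obtain ⟨c', p', q', e', ep'⟩ := h₂
      refine ⟨c + c', p + p', q + q', ?_, by rw [map_add, ep, ep', map_add, map_add]⟩
      rw [map_add, e, e', map_add]; ring
    | tmul a c =>
      obtain ⟨c', p, q, e, ep⟩ := hD a
      refine ⟨c * c', cL c * p, cL c * q, ?_, ?_⟩
      · rw [hsplit, map_mul, e, map_mul]
        rw [show cL c = algebraMap _ L (incl c) from rfl]
        ring
      · rw [hDt, map_mul, map_mul, show δ a = s (D a) from rfl, hs', ep]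
        rfl
  -- `Dt` kills high powers of the maximal ideal
  have hπQ : ∀ b ∈ Q ^ N, π b = 0 := fun b hb => by
    refine Ideal.Quotient.eq_zero_iff_mem.mpr (hN ?_)
    rw [← Localization.AtPrime.map_eq_maximalIdeal, ← Ideal.map_pow]
    exact Ideal.mem_map_of_mem _ hb
  have hkill : ∀ b ∈ Q ^ (N + N), Dt b = 0 := fun b hb => by
    rw [pow_add] at hb
    induction hb using Submodule.mul_induction_on' with
    | mem_mul_mem u hu v hv => rw [hleib, hπQ u hu, hπQ v hv, zero_mul, zero_mul, add_zero]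
    | add u _ v _ h₁ h₂ => rw [map_add, h₁, h₂, add_zero]
  have h0 : Dt (bx * bz) = 0 := by
    have hmem : algebraMap _ L (bx * bz) ∈ (Q ^ (N + N)).map (algebraMap _ L) := by
      rw [Ideal.map_pow, Localization.AtPrime.map_eq_maximalIdeal, map_mul]; exact hxy
    obtain ⟨t, ht, hts⟩ := (IsLocalization.algebraMap_mem_map_algebraMap_iff Q.primeCompl L _ _).mp hmem
    have hu : IsUnit (π t) := (IsLocalization.map_units L ⟨t, ht⟩).map (Ideal.Quotient.mk I)
    have h1 := hkill _ hts
    have h2 : π (bx * bz) = 0 := Ideal.Quotient.eq_zero_iff_mem.mpr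
      (hN (Ideal.pow_le_pow_right (Nat.le_add_right N N) (by rw [map_mul]; exact hxy)))
    rw [hleib, h2, zero_mul, add_zero] at h1
    exact hu.mul_right_eq_zero.mp h1
  obtain ⟨u, hu⟩ := Ideal.Quotient.mk_surjective (Dt bz)
  obtain ⟨v, hv⟩ := Ideal.Quotient.mk_surjective (Dt bx)
  have hru : residue L u = 0 := by
    have := huniq (hrel bz) ⟨0, 0, 1, by simp [hy], map_zero _⟩
    rw [← hu] at this
    exact this
  have hrv : residue L v = 1 := by
    have := huniq (hrel bx) ⟨0, 1, 0, by simp [hx], map_one _⟩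
    rw [← hv] at this
    exact this
  refine ⟨u, v, (residue_eq_zero_iff u).mp hru, ?_, ?_⟩
  · by_contra hne
    exact one_ne_zero (hrv.symm.trans ((residue_eq_zero_iff v).mpr ((mem_maximalIdeal _).mpr hne)))
  · rw [← Ideal.Quotient.eq_zero_iff_mem, map_add, map_mul, map_mul, hu, hv, ← h0, hleib]
    rfl

omit [P.IsMaximal] in
theorem isIntegral_quotient [Module.Finite k (A ⧸ P)] (J : Ideal (A ⊗[k] K))
    (hJ : ∀ a ∈ P, algebraMap A (A ⊗[k] K) a ∈ J) :
    letI := ((Ideal.Quotient.mk J).comp (incl).toRingHom).toAlgebra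
    Algebra.IsIntegral K ((A ⊗[k] K) ⧸ J) := by
  letI algKD : Algebra K ((A ⊗[k] K) ⧸ J) := ((Ideal.Quotient.mk J).comp (incl).toRingHom).toAlgebra
  haveI : IsScalarTower k K ((A ⊗[k] K) ⧸ J) := IsScalarTower.of_algebraMap_eq fun r => by
    show Ideal.Quotient.mk J (algebraMap k (A ⊗[k] K) r) = Ideal.Quotient.mk J (incl (algebraMap k K r))
    rw [AlgHom.commutes]
  let ψ : A ⧸ P →ₐ[k] (A ⊗[k] K) ⧸ J := Ideal.Quotient.liftₐ P
    ((Ideal.Quotient.mkₐ k J).comp Algebra.TensorProduct.includeLeft) fun a ha =>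
      Ideal.Quotient.eq_zero_iff_mem.mpr (hJ a ha)
  refine ⟨fun d => ?_⟩
  obtain ⟨b, rfl⟩ := Ideal.Quotient.mk_surjective d
  induction b using TensorProduct.induction_on with
  | zero => rw [map_zero]; exact isIntegral_zero
  | add b₁ b₂ h₁ h₂ => rw [map_add]; exact h₁.add h₂
  | tmul a c =>
    have e : Ideal.Quotient.mk J (a ⊗ₜ[k] c) = ψ (Ideal.Quotient.mk P a) * algebraMap K _ c := by
      show _ = Ideal.Quotient.mk J (a ⊗ₜ 1) * Ideal.Quotient.mk J (1 ⊗ₜ c)
      rw [← map_mul, Algebra.TensorProduct.tmul_mul_tmul, mul_one, one_mul]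
    rw [e]
    exact (((Algebra.IsIntegral.isIntegral (R := k) (Ideal.Quotient.mk P a)).map ψ).tower_top).mul
      isIntegral_algebraMap

omit [P.IsMaximal] in
theorem exists_sub_mem_of_isAlgClosed [IsAlgClosed K] [Module.Finite k (A ⧸ P)]
    (hQP : Q.comap (algebraMap A (A ⊗[k] K)) = P) (b : A ⊗[k] K) : ∃ c : K, b - incl c ∈ Q := by
  letI algKD : Algebra K ((A ⊗[k] K) ⧸ Q) := ((Ideal.Quotient.mk Q).comp (incl).toRingHom).toAlgebra
  haveI : Algebra.IsIntegral K ((A ⊗[k] K) ⧸ Q) := isIntegral_quotient P Q fun a ha => by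
    rwa [← hQP] at ha
  obtain ⟨c, hc⟩ := (IsAlgClosed.algebraMap_bijective_of_isIntegral (k := K) (K := (A ⊗[k] K) ⧸ Q)).2
    (Ideal.Quotient.mk Q b)
  exact ⟨c, Ideal.Quotient.eq.mp hc.symm⟩

theorem eq_maximalIdeal_of_hasNodePair [Module.Finite k (A ⧸ P)]
    (hQP : Q.comap (algebraMap A (A ⊗[k] K)) = P)
    (hres : ∀ b : A ⊗[k] K, ∃ c : K, b - incl c ∈ Q) (h : HasNodePair L) :
    maximalIdeal L = P.map (algebraMap A L) := by
  classical
  set I := P.map (algebraMap A L) with hI
  have hIm : I ≤ maximalIdeal L := Ideal.map_le_iff_le_comap.mpr fun a ha => by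
    rw [Ideal.mem_comap, IsScalarTower.algebraMap_apply A (A ⊗[k] K) L]
    exact (IsLocalization.AtPrime.to_map_mem_maximal_iff L Q _).mpr (by rwa [← hQP] at ha)
  -- only one prime contains `I`
  have hrad : maximalIdeal L ≤ I.radical := by
    rw [Ideal.radical_eq_sInf]
    refine le_sInf fun J hJ => ?_
    obtain ⟨hIJ, hJp⟩ := hJ
    let J' := J.comap (algebraMap (A ⊗[k] K) L)
    haveI : J'.IsPrime := hJp.comap _
    let D := (A ⊗[k] K) ⧸ J'
    letI algKD : Algebra K D := ((Ideal.Quotient.mk J').comp (incl).toRingHom).toAlgebra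
    haveI : Algebra.IsIntegral K D := isIntegral_quotient P J' fun a ha => by
      show algebraMap (A ⊗[k] K) L (algebraMap A (A ⊗[k] K) a) ∈ J
      rw [← IsScalarTower.algebraMap_apply]
      exact hIJ (Ideal.mem_map_of_mem _ ha)
    haveI : J'.IsMaximal := Ideal.Quotient.maximal_of_isField _
      (isField_of_isIntegral_of_isField' (Field.toIsField K))
    have hle : J' ≤ Q := fun b hb => (IsLocalization.AtPrime.to_map_mem_maximal_iff L Q b).mp
      (le_maximalIdeal hJp.ne_top hb)
    have hJQ : J' = Q := Ideal.IsMaximal.eq_of_le ‹J'.IsMaximal› (‹Q.IsPrime›.ne_top) hle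
    rw [← Localization.AtPrime.map_eq_maximalIdeal]
    exact (Ideal.map_mono hJQ.ge).trans Ideal.map_comap_le
  obtain ⟨x₀, y₀, h₀⟩ := h
  obtain ⟨N, hN⟩ := Ideal.exists_pow_le_of_le_radical_of_fg hrad (h₀.1 ▸ Submodule.fg_span (Set.toFinite _))
  obtain ⟨x₁, y₁, h₁, hxy₁⟩ := h₀.exists_mul_mem_pow (N + N)
  obtain ⟨⟨bx, sx⟩, hbx⟩ := IsLocalization.surj Q.primeCompl x₁
  obtain ⟨⟨bz, sz⟩, hbz⟩ := IsLocalization.surj Q.primeCompl y₁
  dsimp only at hbx hbz
  set x := algebraMap (A ⊗[k] K) L bx with hx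
  set y := algebraMap (A ⊗[k] K) L bz with hy
  have hxy' : x * y ∈ maximalIdeal L ^ (N + N) := by
    rw [← hbx, ← hbz]
    rw [mul_mul_mul_comm]
    exact Ideal.pow_le_pow_right (by omega) (Ideal.mul_mem_right _ _ hxy₁)
  have hp : IsNodePair x y := by
    rw [← hbx, ← hbz]
    rw [mul_comm x₁, mul_comm y₁]
    exact h₁.smul_units (IsLocalization.map_units L sx) (IsLocalization.map_units L sz)
  obtain ⟨u, v, hu, hv, e⟩ := exists_relation P Q hQP hres N hN bx bz hp hxy'
  obtain ⟨u', v', hu', hv', e'⟩ := exists_relation P Q hQP hres N hN bz bx hp.symm (by rwa [mul_comm])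
  have hdet : IsUnit (u * u' - v * v') := by
    by_contra hne
    have : v * v' ∈ maximalIdeal L := by
      rw [show v * v' = u * u' - (u * u' - v * v') by ring]
      exact sub_mem (Ideal.mul_mem_right _ _ hu) ((mem_maximalIdeal _).mpr hne)
    exact (mem_maximalIdeal _).mp this (hv.mul hv')
  have hxI : x ∈ I := by
    have : x * (u * u' - v * v') ∈ I := by
      rw [show x * (u * u' - v * v') = (x * u + y * v) * u' - (y * u' + x * v') * v by ring]
      exact sub_mem (Ideal.mul_mem_right _ _ e) (Ideal.mul_mem_right _ _ e')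
    exact (Ideal.mul_unit_mem_iff_mem I hdet).mp this
  have hyI : y ∈ I := by
    have : y * (u * u' - v * v') ∈ I := by
      rw [show y * (u * u' - v * v') = (y * u' + x * v') * u - (x * u + y * v) * v' by ring]
      exact sub_mem (Ideal.mul_mem_right _ _ e') (Ideal.mul_mem_right _ _ e)
    exact (Ideal.mul_unit_mem_iff_mem I hdet).mp this
  refine le_antisymm (hp.1 ▸ Ideal.span_le.mpr ?_) hIm
  rintro z (rfl | rfl)
  · exact hxI
  · exact hyI

end Groth.Agent.NodeLib
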