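import Groth.Agent.NodeLib.NodalEtale

/-!
# Nodes over a finite separable subfield
-/

set_option autoImplicit false
set_option linter.style.haveILetI false

universe u

open CategoryTheory CategoryTheory.Limits AlgebraicGeometry IsLocalRing

namespace Groth.Agent.NodeLib

theorem isNode_iff_etale_base {k k' : Type u} [Field k] [Field k'] {X : Scheme.{u}}
    [iX : X.Over (Spec (CommRingCat.of k'))] (f : X ⟶ Spec (CommRingCat.of k'))
    (hf : (X ↘ Spec (CommRingCat.of k')) = f) [LocallyOfFiniteType f]
    (τ : Spec (CommRingCat.of k') ⟶ Spec (CommRingCat.of k)) [Etale τ]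
    [iX' : X.Over (Spec (CommRingCat.of k))] (hq : (X ↘ Spec (CommRingCat.of k)) = f ≫ τ)
    {x : X} (hx : IsClosed ({x} : Set X)) : Curv2.IsNode k' X x ↔ Curv2.IsNode k X x := by
  subst hf
  haveI : LocallyOfFiniteType (X ↘ Spec (CommRingCat.of k)) := by rw [hq]; infer_instance
  let θ : Spec (CommRingCat.of (AlgebraicClosure k')) ⟶ Spec (CommRingCat.of k') :=
    Spec.map (CommRingCat.ofHom (algebraMap k' (AlgebraicClosure k')))
  let p := X ↘ Spec (CommRingCat.of k')
  have s₁ : IsPullback (pullback.fst p θ) (pullback.snd p θ) p θ := IsPullback.of_hasPullback _ _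
  obtain ⟨z, hz, -⟩ := Scheme.Pullback.exists_preimage_pullback (f := p) (g := θ)
    x (closedPoint (AlgebraicClosure k')) (Subsingleton.elim (α := Spec (CommRingCat.of k')) _ _)
  let j := pullback.mapDesc p θ τ
  haveI : IsOpenImmersion j :=
    MorphismProperty.of_isPullback (pullback_map_diagonal_isPullback p θ τ) inferInstance
  have sq : IsPullback (pullback.fst (p ≫ τ) (θ ≫ τ)) (pullback.snd (p ≫ τ) (θ ≫ τ))
      (X ↘ Spec (CommRingCat.of k)) (θ ≫ τ) := by rw [hq]; exact IsPullback.of_hasPullback _ _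
  have hj : pullback.fst (p ≫ τ) (θ ≫ τ) (j z) = x := by
    rw [← Scheme.Hom.comp_apply]
    simp only [j, pullback.lift_fst, Category.comp_id]
    exact hz
  let e := (asIso (j.stalkMap z)).commRingCatIsoToRingEquiv
  exact ⟨fun h => isNode_of_hasNodePair hx sq (j z) hj ((hasNodePair_of_isNode h s₁ z hz).map_ringEquiv e.symm),
    fun h => isNode_of_hasNodePair hx s₁ z hz ((hasNodePair_of_isNode h sq (j z) hj).map_ringEquiv e)⟩

end Groth.Agent.NodeLib
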