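import Groth.Agent.NodeLib.EtaleSys
import Groth.Agent.NodeLib.NodeChart
import Mathlib

/-!
# Splitting a quadratic equation on an étale cover

If `s² (g - a₀) ≡ a u² + b u v + e v²` on the surface then, where the form is nondegenerate and `u, v` are
coordinates, the curve is étale over both itself and `P Q + a₀ = 0`.
-/

set_option autoImplicit false
set_option linter.style.haveILetI false

universe u

namespace Groth.Agent.NodeLib.Split

open MvPolynomial

variable {A : Type u} [CommRing A] {r : ℕ}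

abbrev Var (r : ℕ) : Type := (Fin r ⊕ Fin 2) ⊕ Fin 2

noncomputable abbrev R : MvPolynomial (Fin r ⊕ Fin 2) A →+* MvPolynomial (Var r) A :=
  (rename (R := A) (Sum.inl : Fin r ⊕ Fin 2 → Var r)).toRingHom

noncomputable abbrev rho : MvPolynomial (Var r) A := X (Sum.inr 0)

noncomputable abbrev why : MvPolynomial (Var r) A := X (Sum.inr 1)

variable (F : Fin r → MvPolynomial (Fin r ⊕ Fin 2) A) (g : MvPolynomial (Fin r ⊕ Fin 2) A) (a₀ : A)
  (s a b e u v : MvPolynomial (Fin r ⊕ Fin 2) A)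

noncomputable abbrev quad : MvPolynomial (Var r) A := R a * rho ^ 2 + R b * rho + R e

noncomputable abbrev yeq : MvPolynomial (Var r) A := why * R s ^ 2 - 1

noncomputable abbrev pp : MvPolynomial (Var r) A := R u - rho * R v

noncomputable abbrev qq : MvPolynomial (Var r) A := (R a * R u + (R a * rho + R b) * R v) * why

noncomputable def f₀ : Var r → MvPolynomial (Var r) A :=
  Sum.elim (Sum.elim (fun m => R (F m)) ![pp u v, qq a b u v]) ![quad a b e, yeq s]

noncomputable def hh : MvPolynomial (Var r) A :=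
  (Matrix.of fun i j => pderiv j (f₀ F s a b e u v i)).det * ((2 * R a * rho + R b) * R s ^ 2)

/-- `A[P, Q] / (P Q + a₀)`. -/
abbrev Base : Type u :=
  MvPolynomial (Fin 2) A ⧸ Ideal.span {(X 0 * X 1 + C a₀ : MvPolynomial (Fin 2) A)}

noncomputable abbrev baseC : A →+* Base a₀ := (Ideal.Quotient.mk _).comp C

theorem pderiv_R_inr (i : Fin 2) (p : MvPolynomial (Fin r ⊕ Fin 2) A) : pderiv (Sum.inr i) (R p) = 0 := by
  induction p using MvPolynomial.induction_on with
  | C x => simp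
  | add p q hp hq => simp only [map_add, hp, hq, add_zero]
  | mul_X p t hp =>
    rw [map_mul, Derivation.leibniz, hp]
    simp [R, pderiv_X]

theorem pderiv_R_inl (t : Fin r ⊕ Fin 2) (p : MvPolynomial (Fin r ⊕ Fin 2) A) :
    pderiv (Sum.inl t) (R p) = R (pderiv t p) :=
  pderiv_rename Sum.inl_injective t p

/-- The polynomial ring to the coefficients over the chart. -/
noncomputable def theta : MvPolynomial (Var r) A →+* MvPolynomial (Fin 2) (Hess.chartRing F g) :=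
  eval₂Hom (C.comp ((Ideal.Quotient.mk (Hess.eqs F g)).comp C))
    (Sum.elim (fun t => C (Ideal.Quotient.mk (Hess.eqs F g) (X t))) X)

theorem theta_R (p : MvPolynomial (Fin r ⊕ Fin 2) A) : theta F g (R p) = C (Ideal.Quotient.mk (Hess.eqs F g) p) := by
  have : (theta F g).comp R = C.comp (Ideal.Quotient.mk (Hess.eqs F g)) :=
    MvPolynomial.ringHom_ext (fun x => by simp [theta]) (fun t => by simp [theta])
  exact RingHom.congr_fun this p

/-- The system over `A[P, Q] / (P Q + a₀)`. -/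
noncomputable def f₂ (i : Var r) : MvPolynomial (Var r) (Base a₀) :=
  MvPolynomial.map (baseC a₀) (f₀ F s a b e u v i) -
    C (Sum.elim (Sum.elim (fun _ => 0) fun j => Ideal.Quotient.mk _ (X j)) (fun _ => 0) i)

/-- The system over the chart. -/
noncomputable def f₁ (i : Fin 2) : MvPolynomial (Fin 2) (Hess.chartRing F g) :=
  theta F g (![quad a b e, yeq s] i)

variable {F g a₀ s a b e u v}

section Rel

variable {T : Type u} [CommRing T] (θ : MvPolynomial (Var r) A →+* T)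
  (hq : θ (R (s ^ 2 * (g - C a₀) - (a * u ^ 2 + b * (u * v) + e * v ^ 2))) = 0)
  (hr : θ (quad a b e) = 0) (hy : θ (yeq s) = 0)

include hq hr hy

theorem rel_g (hPQ : θ (pp u v) * θ (qq a b u v) = - θ (C a₀)) : θ (R g) = 0 := by
  have hRC : (R (r := r) (C a₀)) = C a₀ := rename_C _ _
  simp only [pp, qq, quad, yeq, map_sub, map_add, map_mul, map_pow, map_one, hRC] at hPQ hy hr hq
  linear_combination (θ why) * hq + (θ (R v)) ^ 2 * (θ why) * hr + hPQ - (θ (R g) - θ (C a₀)) * hy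

theorem rel_PQ (hg : θ (R g) = 0) : θ (pp u v) * θ (qq a b u v) + θ (C a₀) = 0 := by
  have hRC : (R (r := r) (C a₀)) = C a₀ := rename_C _ _
  simp only [pp, qq, quad, yeq, map_sub, map_add, map_mul, map_pow, map_one, hRC] at hy hr hq ⊢
  linear_combination -(θ why) * hq - (θ (R v)) ^ 2 * (θ why) * hr + (θ why) * (θ (R s)) ^ 2 * hg -
    (θ (C a₀)) * hy

end Rel

section Point

variable {K : Type u} [Field K] (φ : A →+* K) (c : Fin r ⊕ Fin 2 → K) (ρ₀ y₀ : K)

theorem eval_R (p : MvPolynomial (Fin r ⊕ Fin 2) A) :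
    eval₂Hom φ (Sum.elim c ![ρ₀, y₀]) (R p) = eval₂Hom φ c p := by
  show eval₂Hom φ _ (rename Sum.inl p) = _
  rw [eval₂Hom_rename]; rfl

theorem jac_ne_zero (hs : eval₂Hom φ c s ≠ 0) (hy₀ : y₀ ≠ 0)
    (hl : 2 * eval₂Hom φ c a * ρ₀ + eval₂Hom φ c b ≠ 0)
    (hu : eval₂Hom φ c u = 0) (hv : eval₂Hom φ c v = 0)
    (hker : ∀ ξ : Fin r ⊕ Fin 2 → K, (∀ m, ∑ t, eval₂Hom φ c (pderiv t (F m)) * ξ t = 0) →
      (∑ t, eval₂Hom φ c (pderiv t u) * ξ t = 0) → (∑ t, eval₂Hom φ c (pderiv t v) * ξ t = 0) → ξ = 0) :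
    eval₂Hom φ (Sum.elim c ![ρ₀, y₀]) (Matrix.of fun i j => pderiv j (f₀ F s a b e u v i)).det ≠ 0 := by
  classical
  set Ev := eval₂Hom φ (Sum.elim c ![ρ₀, y₀]) with hEv
  have hEvR : ∀ p, Ev (R p) = eval₂Hom φ c p := eval_R φ c ρ₀ y₀
  have hEρ : Ev rho = ρ₀ := by simp [Ev]
  have hEy : Ev why = y₀ := by simp [Ev]
  have hX : ∀ i t, Ev (pderiv (Sum.inl t) (X (Sum.inr i) : MvPolynomial (Var r) A)) = 0 := fun i t => by
    simp [pderiv_X, Pi.single_apply]
  rw [RingHom.map_det]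
  intro h0
  obtain ⟨ξ, hξ, hξ0⟩ := Matrix.exists_mulVec_eq_zero_iff.mpr h0
  refine hξ (funext ?_)
  have hrow : ∀ i, ∑ t, Ev (pderiv (Sum.inl t) (f₀ F s a b e u v i)) * ξ (Sum.inl t) +
      ∑ t, Ev (pderiv (Sum.inr t) (f₀ F s a b e u v i)) * ξ (Sum.inr t) = 0 := fun i => by
    have := congrFun hξ0 i
    simp only [Matrix.mulVec, dotProduct, RingHom.mapMatrix_apply, Matrix.map_apply, Matrix.of_apply,
      Pi.zero_apply] at this
    rwa [Fintype.sum_sum_type (α₁ := Fin r ⊕ Fin 2)] at this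
  set du := ∑ t, eval₂Hom φ c (pderiv t u) * ξ (Sum.inl t) with hdu
  set dv := ∑ t, eval₂Hom φ c (pderiv t v) * ξ (Sum.inl t) with hdv
  have hp : du - ρ₀ * dv = 0 := by
    have e := hrow (Sum.inl (Sum.inr 0))
    simp only [f₀, Sum.elim_inl, Sum.elim_inr, Matrix.cons_val_zero, pp, map_sub, Derivation.leibniz, smul_eq_mul,
      map_add, map_mul, pderiv_R_inl, pderiv_R_inr, hEvR, hEρ, hX, hv, zero_mul, mul_zero,
      map_zero, add_zero, sub_zero, Finset.sum_const_zero] at e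
    rw [hdu, hdv, Finset.mul_sum, ← Finset.sum_sub_distrib]
    refine Eq.trans (Finset.sum_congr rfl fun t _ => ?_) e
    ring
  have hq : eval₂Hom φ c a * du + (eval₂Hom φ c a * ρ₀ + eval₂Hom φ c b) * dv = 0 := by
    have e := hrow (Sum.inl (Sum.inr 1))
    simp only [f₀, Sum.elim_inl, Sum.elim_inr, Matrix.cons_val_one, Matrix.cons_val_zero, qq, Derivation.leibniz, smul_eq_mul,
      map_add, map_mul, pderiv_R_inl, pderiv_R_inr, hEvR, hEρ, hEy, hX, hu, hv, zero_mul, mul_zero,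
      map_zero, add_zero, zero_add, Finset.sum_const_zero] at e
    refine (mul_eq_zero.mp ?_).resolve_left hy₀
    rw [hdu, hdv, Finset.mul_sum, Finset.mul_sum, ← Finset.sum_add_distrib, Finset.mul_sum]
    refine Eq.trans (Finset.sum_congr rfl fun t _ => ?_) e
    ring
  have hdv0 : dv = 0 := (mul_eq_zero.mp (show (2 * eval₂Hom φ c a * ρ₀ + eval₂Hom φ c b) * dv = 0 by
    linear_combination hq - eval₂Hom φ c a * hp)).resolve_left hl
  have hx : (fun t => ξ (Sum.inl t)) = 0 := by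
    refine hker _ (fun m => ?_) (by rw [← hdu]; linear_combination hp + ρ₀ * hdv0) hdv0
    have e := hrow (Sum.inl (Sum.inl m))
    simpa only [f₀, Sum.elim_inl, pderiv_R_inl, pderiv_R_inr, hEvR, map_zero, zero_mul, Finset.sum_const_zero,
      add_zero] using e
  intro j
  have hxt : ∀ t, ξ (Sum.inl t) = 0 := congrFun hx
  rcases j with t | t
  · exact hxt t
  · have h0' := hrow (Sum.inr 0)
    have h1' := hrow (Sum.inr 1)
    simp only [f₀, Sum.elim_inr, Matrix.cons_val_zero, Matrix.cons_val_one, hxt, mul_zero, Finset.sum_const_zero,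
      zero_add, Fin.sum_univ_two, quad, yeq, map_sub, map_add, map_mul, Derivation.leibniz, pow_two, smul_eq_mul,
      Derivation.map_one_eq_zero, pderiv_R_inr, map_zero, hEvR, hEρ, hEy, add_zero, sub_zero] at h0' h1'
    simp [Ev, pderiv_X] at h0' h1'
    have e0 : (2 * eval₂Hom φ c a * ρ₀ + eval₂Hom φ c b) * ξ (Sum.inr 0) = 0 := by
      simp only [coe_eval₂Hom] at h0' ⊢
      rcases h0' with h | h
      · linear_combination ξ (Sum.inr 0) * h
      · rw [h, mul_zero]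
    have hs' : eval₂ φ c s ≠ 0 := hs
    fin_cases t
    · exact (mul_eq_zero.mp e0).resolve_left hl
    · simpa [hs'] using h1'

end Point

theorem exists_cover (hq : s ^ 2 * (g - C a₀) - (a * u ^ 2 + b * (u * v) + e * v ^ 2) ∈ Ideal.span (Set.range F))
    {K : Type u} [Field K] [IsAlgClosed K] (φ : A →+* K) (c : Fin r ⊕ Fin 2 → K)
    (hF : ∀ m, eval₂Hom φ c (F m) = 0) (hg : eval₂Hom φ c g = 0)
    (hs : eval₂Hom φ c s ≠ 0) (ha : eval₂Hom φ c a ≠ 0)
    (hd : 4 * eval₂Hom φ c a * eval₂Hom φ c e - eval₂Hom φ c b ^ 2 ≠ 0)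
    (hu : eval₂Hom φ c u = 0) (hv : eval₂Hom φ c v = 0)
    (hker : ∀ ξ : Fin r ⊕ Fin 2 → K, (∀ m, ∑ t, eval₂Hom φ c (pderiv t (F m)) * ξ t = 0) →
      (∑ t, eval₂Hom φ c (pderiv t u) * ξ t = 0) → (∑ t, eval₂Hom φ c (pderiv t v) * ξ t = 0) → ξ = 0) :
    ∃ (U : Type u) (_ : CommRing U) (φR : Hess.chartRing F g →+* U) (β : Base a₀ →+* U) (φK : U →+* K),
      φR.Etale ∧ β.Etale ∧ φR.comp ((Ideal.Quotient.mk (Hess.eqs F g)).comp C) = β.comp (baseC a₀) ∧
      ∀ p, φK (φR (Ideal.Quotient.mk (Hess.eqs F g) p)) = eval₂Hom φ c p := by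
  classical
  let R1 := Hess.chartRing F g
  let h₁ := theta F g (hh F s a b e u v)
  let U₁ := Sys R1 (f₁ F g s a b e) h₁
  let θ₁ : MvPolynomial (Var r) A →+* U₁ := (Sys.of R1 (f₁ F g s a b e) h₁).comp (theta F g)
  let ψB : A →+* Base a₀ := baseC a₀
  let h₂ := MvPolynomial.map ψB (hh F s a b e u v)
  let U₂ := Sys (Base a₀) (f₂ F a₀ s a b e u v) h₂
  let θ₂ : MvPolynomial (Var r) A →+* U₂ := (Sys.of (Base a₀) (f₂ F a₀ s a b e u v) h₂).comp (MvPolynomial.map ψB)
  -- relations in `U₂`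
  have h2F : ∀ p ∈ Ideal.span (Set.range F), θ₂ (R p) = 0 := by
    intro p hp
    have hle : Ideal.span (Set.range F) ≤ RingHom.ker (θ₂.comp R) := Ideal.span_le.mpr (by
      rintro _ ⟨m, rfl⟩
      have := Sys.of_rel (R := Base a₀) (f := f₂ F a₀ s a b e u v) (h := h₂) (Sum.inl (Sum.inl m))
      simpa [f₂, f₀, θ₂, ψB] using this)
    exact hle hp
  have h2P : ∀ j : Fin 2, θ₂ (![pp u v, qq a b u v] j) = algebraMap (Base a₀) U₂ (Ideal.Quotient.mk _ (X j)) := fun j => by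
    have := Sys.of_rel (R := Base a₀) (f := f₂ F a₀ s a b e u v) (h := h₂) (Sum.inl (Sum.inr j))
    rw [Sys.algebraMap_eq, ← sub_eq_zero]
    simpa [f₂, f₀, θ₂, ψB] using this
  have h2E : ∀ j : Fin 2, θ₂ (![quad a b e, yeq s] j) = 0 := fun j => by
    have := Sys.of_rel (R := Base a₀) (f := f₂ F a₀ s a b e u v) (h := h₂) (Sum.inr j)
    simpa [f₂, f₀, θ₂, ψB] using this
  have hC2 : ∀ x, θ₂ (C x) = algebraMap (Base a₀) U₂ (ψB x) := fun x => by
    rw [Sys.algebraMap_eq]; simp [θ₂]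
  have h2g : θ₂ (R g) = 0 := by
    refine rel_g θ₂ (h2F _ hq) (h2E 0) (h2E 1) ?_
    have hP : θ₂ (pp u v) = _ := h2P 0
    have hQ : θ₂ (qq a b u v) = _ := h2P 1
    rw [hP, hQ, hC2, ← map_mul, eq_neg_iff_add_eq_zero, ← map_add, ← map_mul,
      show ψB a₀ = Ideal.Quotient.mk _ (C a₀) from rfl, ← map_add,
      Ideal.Quotient.eq_zero_iff_mem.mpr (Ideal.mem_span_singleton_self _), map_zero]
  -- relations in `U₁`
  have h1R : ∀ p ∈ Hess.eqs F g, θ₁ (R p) = 0 := fun p hp => by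
    show Sys.of R1 (f₁ F g s a b e) h₁ (theta F g (R p)) = 0
    rw [theta_R, Ideal.Quotient.eq_zero_iff_mem.mpr hp, map_zero, map_zero]
  have h1E : ∀ j : Fin 2, θ₁ (![quad a b e, yeq s] j) = 0 := fun j => Sys.of_rel (R := R1) (f := f₁ F g s a b e) (h := h₁) j
  have h1g : θ₁ (pp u v) * θ₁ (qq a b u v) + θ₁ (C a₀) = 0 :=
    rel_PQ θ₁ (h1R _ (Ideal.mem_sup_left hq)) (h1E 0) (h1E 1) (h1R _ (Ideal.mem_sup_right (Ideal.mem_span_singleton_self g)))
  -- the comparison maps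
  let φR2 : R1 →+* U₂ := Ideal.Quotient.lift (Hess.eqs F g) (θ₂.comp R) fun p hp => by
    have hle : Hess.eqs F g ≤ RingHom.ker (θ₂.comp R) :=
      sup_le (fun z hz => h2F z hz) ((Ideal.span_singleton_le_iff_mem _).mpr h2g)
    exact hle hp
  let φB1 : Base a₀ →+* U₁ := Ideal.Quotient.lift _
    (eval₂Hom (θ₁.comp C) (fun j => θ₁ (![pp u v, qq a b u v] j))) fun p hp => by
      obtain ⟨w, rfl⟩ := Ideal.mem_span_singleton'.mp hp
      rw [map_mul]
      refine mul_eq_zero_of_right _ ?_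
      rw [map_add, map_mul, eval₂Hom_X', eval₂Hom_X', eval₂Hom_C]
      exact h1g
  have hθ2 : (eval₂Hom φR2 (fun j => θ₂ (X (Sum.inr j)))).comp (theta F g) = θ₂ :=
    MvPolynomial.ringHom_ext (fun x => by
      simp only [theta, RingHom.comp_apply, eval₂Hom_C]
      show θ₂ (R (C x)) = θ₂ (C x)
      exact congrArg θ₂ (rename_C _ _)) (fun t => by
      rcases t with t | j
      · simp only [theta, RingHom.comp_apply, eval₂Hom_C, eval₂Hom_X', Sum.elim_inl]
        show θ₂ (R (X t)) = θ₂ (X (Sum.inl t))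
        exact congrArg θ₂ (rename_X _ _)
      · simp [theta, θ₂])
  have hθ1 : (eval₂Hom φB1 (fun t => θ₁ (X t))).comp (MvPolynomial.map ψB) = θ₁ :=
    MvPolynomial.ringHom_ext (fun x => by simp [φB1, ψB, θ₁]) (fun t => by simp [θ₁])
  obtain ⟨Φ, hΦ⟩ := Sys.exists_lift (R := R1) (f := f₁ F g s a b e) (h := h₁) φR2 (fun j => θ₂ (X (Sum.inr j)))
    (fun i => by
      show ((eval₂Hom φR2 (fun j => θ₂ (X (Sum.inr j)))).comp (theta F g)) _ = 0
      rw [hθ2]; exact h2E i)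
    (by
      show IsUnit (((eval₂Hom φR2 (fun j => θ₂ (X (Sum.inr j)))).comp (theta F g)) (hh F s a b e u v))
      rw [hθ2]; exact Sys.isUnit_of)
  obtain ⟨Ψ, hΨ⟩ := Sys.exists_lift (R := Base a₀) (f := f₂ F a₀ s a b e u v) (h := h₂) φB1 (fun t => θ₁ (X t))
    (fun i => by
      show eval₂Hom φB1 (fun t => θ₁ (X t)) (MvPolynomial.map ψB (f₀ F s a b e u v i) - C _) = 0
      rw [map_sub, ← RingHom.comp_apply, hθ1, eval₂Hom_C, sub_eq_zero]
      rcases i with (m | j) | j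
      · simp only [f₀, Sum.elim_inl, map_zero]
        exact h1R _ (Ideal.mem_sup_left (Ideal.subset_span ⟨m, rfl⟩))
      · simp [f₀, φB1]
      · simp only [f₀, Sum.elim_inr, map_zero]
        exact h1E j)
    (by
      show IsUnit (((eval₂Hom φB1 (fun t => θ₁ (X t))).comp (MvPolynomial.map ψB)) (hh F s a b e u v))
      rw [hθ1]; exact Sys.isUnit_of)
  have hΦθ : ∀ p, Φ (θ₁ p) = θ₂ p := fun p => (hΦ _).trans (RingHom.congr_fun hθ2 p)
  have hΨθ : ∀ p, Ψ (θ₂ p) = θ₁ p := fun p => (hΨ _).trans (RingHom.congr_fun hθ1 p)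
  have hinv1 : Ψ.comp Φ = RingHom.id U₁ := by
    refine Sys.hom_ext _ _ (fun x => ?_) (fun j => ?_)
    · obtain ⟨p, rfl⟩ := Ideal.Quotient.mk_surjective x
      have : Sys.of R1 (f₁ F g s a b e) h₁ (C (Ideal.Quotient.mk (Hess.eqs F g) p)) = θ₁ (R p) := by
        show _ = Sys.of R1 (f₁ F g s a b e) h₁ (theta F g (R p))
        rw [theta_R]
      rw [this]
      exact (congrArg Ψ (hΦθ _)).trans (hΨθ _)
    · have : Sys.of R1 (f₁ F g s a b e) h₁ (X j) = θ₁ (X (Sum.inr j)) := by simp [θ₁, theta]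
      rw [this]
      exact (congrArg Ψ (hΦθ _)).trans (hΨθ _)
  have hinv2 : Φ.comp Ψ = RingHom.id U₂ := by
    have key : ∀ p, Φ (Ψ (θ₂ p)) = θ₂ p := fun p => (congrArg Φ (hΨθ _)).trans (hΦθ _)
    refine Sys.hom_ext _ _ (fun x => ?_) (fun t => ?_)
    · rw [← Sys.algebraMap_eq]
      have : ((Φ.comp Ψ).comp (algebraMap (Base a₀) U₂)) = algebraMap (Base a₀) U₂ := by
        refine Ideal.Quotient.ringHom_ext (MvPolynomial.ringHom_ext (fun y => ?_) (fun j => ?_))
        · have := key (C y)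
          rwa [hC2] at this
        · have := key (![pp u v, qq a b u v] j)
          rwa [h2P] at this
      exact RingHom.congr_fun this x
    · have : Sys.of (Base a₀) (f₂ F a₀ s a b e u v) h₂ (X t) = θ₂ (X t) := by simp [θ₂]
      rw [this]; exact key _
  let E : U₂ ≃+* U₁ := RingEquiv.ofRingHom Ψ Φ hinv1 hinv2
  -- étaleness
  have he1 : Algebra.Etale R1 U₁ := Sys.etale (by
    refine ⟨theta F g ((Matrix.of fun i j => pderiv j (f₀ F s a b e u v i)).det), ?_⟩
    rw [Matrix.det_fin_two]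
    simp only [Matrix.of_apply, f₁, h₁, hh, quad, yeq, map_mul, map_add, map_sub, map_pow, map_one, theta_R,
      Matrix.cons_val_zero, Matrix.cons_val_one]
    simp [theta, pderiv_X]
    ring)
  have he2 : Algebra.Etale (Base a₀) U₂ := Sys.etale (by
    have hJ : (Matrix.of fun i j => pderiv j (f₂ F a₀ s a b e u v i)) =
        (MvPolynomial.map ψB).mapMatrix (Matrix.of fun i j => pderiv j (f₀ F s a b e u v i)) := by
      refine Matrix.ext fun i j => ?_
      simp [f₂, pderiv_map, ψB]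
    rw [hJ, ← RingHom.map_det]
    exact map_dvd _ (dvd_mul_right _ _))
  let β : Base a₀ →+* U₁ := E.toRingHom.comp (algebraMap (Base a₀) U₂)
  have hβ : β.Etale := RingHom.Etale.respectsIso.1 _ E (RingHom.etale_algebraMap.mpr he2)
  -- the point
  let K' := fun p => eval₂Hom φ c p
  obtain ⟨ρ₀, hρ⟩ := IsAlgClosed.exists_root (Polynomial.C (K' a) * Polynomial.X ^ 2 +
    Polynomial.C (K' b) * Polynomial.X + Polynomial.C (K' e)) (by rw [Polynomial.degree_quadratic ha]; norm_num)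
  have hρ' : K' a * ρ₀ ^ 2 + K' b * ρ₀ + K' e = 0 := by simpa [Polynomial.IsRoot] using hρ
  let cc : Var r → K := Sum.elim c ![ρ₀, (K' s ^ 2)⁻¹]
  let Ev : MvPolynomial (Var r) A →+* K := eval₂Hom φ cc
  have hEvR : ∀ p, Ev (R p) = K' p := fun p => by
    exact eval_R φ c ρ₀ _ p
  have hEρ : Ev rho = ρ₀ := by simp [Ev, cc]
  have hEy : Ev why = (K' s ^ 2)⁻¹ := by simp [Ev, cc]
  have hs2 : K' s ^ 2 ≠ 0 := pow_ne_zero 2 hs
  have hl : 2 * K' a * ρ₀ + K' b ≠ 0 := fun h0 => hd (by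
    linear_combination (-(2 * K' a * ρ₀ + K' b)) * h0 + 4 * K' a * hρ')
  have hJ : Ev (Matrix.of fun i j => pderiv j (f₀ F s a b e u v i)).det ≠ 0 :=
    jac_ne_zero φ c ρ₀ _ hs (inv_ne_zero hs2) hl hu hv hker
  have hH : Ev (hh F s a b e u v) ≠ 0 := by
    rw [hh, map_mul]
    refine mul_ne_zero hJ ?_
    simp only [map_mul, map_add, map_pow, map_ofNat, hEvR, hEρ]
    exact mul_ne_zero hl hs2
  let φK₁ : R1 →+* K := Ideal.Quotient.lift (Hess.eqs F g) (eval₂Hom φ c) fun p hp => by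
    have hle : Hess.eqs F g ≤ RingHom.ker (eval₂Hom φ c) :=
      sup_le (Ideal.span_le.mpr (by rintro _ ⟨m, rfl⟩; exact hF m)) ((Ideal.span_singleton_le_iff_mem _).mpr hg)
    exact hle hp
  have hθK : (eval₂Hom φK₁ ![ρ₀, (K' s ^ 2)⁻¹]).comp (theta F g) = Ev :=
    MvPolynomial.ringHom_ext (fun x => by
      simp only [theta, RingHom.comp_apply, eval₂Hom_C, Ev]
      exact eval₂Hom_C φ c x) (fun t => by
      rcases t with t | j
      · simp only [theta, RingHom.comp_apply, eval₂Hom_C, eval₂Hom_X', Sum.elim_inl, Ev, cc]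
        exact eval₂Hom_X' φ c t
      · simp [theta, φK₁, Ev, cc])
  obtain ⟨φK, hφK⟩ := Sys.exists_lift (R := R1) (f := f₁ F g s a b e) (h := h₁) φK₁ ![ρ₀, (K' s ^ 2)⁻¹]
    (fun i => by
      show ((eval₂Hom φK₁ ![ρ₀, (K' s ^ 2)⁻¹]).comp (theta F g)) _ = 0
      rw [hθK]
      fin_cases i
      · show Ev (quad a b e) = 0
        simp only [quad, map_add, map_mul, map_pow, hEvR, hEρ]; exact hρ'
      · show Ev (yeq s) = 0
        simp only [yeq, map_sub, map_mul, map_pow, map_one, hEvR, hEy]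
        rw [inv_mul_cancel₀ hs2, sub_self])
    (by
      show IsUnit (((eval₂Hom φK₁ ![ρ₀, (K' s ^ 2)⁻¹]).comp (theta F g)) (hh F s a b e u v))
      rw [hθK]; exact isUnit_iff_ne_zero.mpr hH)
  refine ⟨U₁, inferInstance, algebraMap R1 U₁, β, φK, RingHom.etale_algebraMap.mpr he1, hβ, ?_, fun p => ?_⟩
  · refine RingHom.ext fun x => ?_
    show algebraMap R1 U₁ (Ideal.Quotient.mk _ (C x)) = Ψ (algebraMap (Base a₀) U₂ (ψB x))
    rw [← hC2, hΨθ, Sys.algebraMap_eq]
    simp [θ₁, theta]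
  · rw [Sys.algebraMap_eq, hφK, eval₂Hom_C]
    rfl

end Groth.Agent.NodeLib.Split
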