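import Groth.Agent.NodeLib.Crit
import Groth.Agent.NodeLib.CritDescent
import Groth.Agent.RegLoc6.Basic
import Mathlib

/-!
# Curves in a regular local ring of dimension two

`g ≡ a u² + b uv + c v²` modulo `𝔪³` cuts out a node iff `b² - 4 a c` is a unit.
-/

set_option autoImplicit false
set_option linter.style.haveILetI false

universe u

namespace Groth.Agent.NodeLib

open IsLocalRing

variable {O : Type u} [CommRing O] [IsLocalRing O] [IsNoetherianRing O]

/-- A pair of regular parameters in dimension two. -/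
def IsParamPair (u v : O) : Prop :=
  maximalIdeal O = Ideal.span {u, v} ∧ (2 : WithBot ℕ∞) ≤ ringKrullDim O

namespace IsParamPair

variable {u v : O}

theorem symm (h : IsParamPair u v) : IsParamPair v u := ⟨by rw [h.1, Set.pair_comm], h.2⟩

theorem left_mem (h : IsParamPair u v) : u ∈ maximalIdeal O := h.1 ▸ Ideal.subset_span (by simp)

theorem right_mem (h : IsParamPair u v) : v ∈ maximalIdeal O := h.1 ▸ Ideal.subset_span (by simp)

theorem isRegularLocalRing (h : IsParamPair u v) : IsRegularLocalRing O := by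
  refine IsRegularLocalRing.of_spanFinrank_maximalIdeal_le O (le_trans ?_ h.2)
  have h1 : (maximalIdeal O).spanFinrank ≤ 2 := by
    rw [h.1]
    refine (Submodule.spanFinrank_span_le_ncard_of_finite (Set.toFinite _)).trans ?_
    exact (Set.ncard_insert_le _ _).trans (by simp)
  exact_mod_cast h1

theorem one_le_dim_quot (h : IsParamPair u v) {g : O} (hg : g ∈ maximalIdeal O) :
    (1 : WithBot ℕ∞) ≤ ringKrullDim (O ⧸ Ideal.span {g}) := by
  have h1 := ringKrullDim_le_ringKrullDim_quotient_add_card (R := O) (s := {g})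
    (by simpa [Set.singleton_subset_iff, Ideal.jacobson_bot] using (IsLocalRing.maximalIdeal_le_jacobson ⊥ hg))
  have h2 := h.2.trans h1
  simp only [Finset.card_singleton, Nat.cast_one] at h2
  rw [Finset.coe_singleton] at h1 h2
  generalize ringKrullDim (O ⧸ Ideal.span {g}) = q at h2 ⊢
  induction q using WithBot.recBotCoe with
  | bot => simp at h2
  | coe d =>
    have h2' : (2 : ℕ∞) ≤ d + 1 := WithBot.coe_le_coe.mp (show (((2 : ℕ∞)) : WithBot ℕ∞) ≤ ((d + 1 : ℕ∞) : WithBot ℕ∞) from h2)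
    refine WithBot.coe_le_coe.mpr ?_
    rcases eq_or_ne d 0 with rfl | hd
    · exact absurd h2' (by decide)
    · exact Order.one_le_iff_ne_zero.mpr hd

/-- Quotient by an element outside `𝔪²` is regular. -/
theorem isRegularLocalRing_quot (h : IsParamPair u v) {g : O} (hg : g ∈ maximalIdeal O)
    (hg2 : g ∉ maximalIdeal O ^ 2) [IsLocalRing (O ⧸ Ideal.span {g})] :
    IsRegularLocalRing (O ⧸ Ideal.span {g}) := by
  refine IsRegularLocalRing.of_spanFinrank_maximalIdeal_le _ (le_trans ?_ (h.one_le_dim_quot hg))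
  obtain ⟨w, hwm, hw⟩ : ∃ w ∈ maximalIdeal O, maximalIdeal O ≤ Ideal.span {w} ⊔ Ideal.span {g} := by
    obtain ⟨a, b, e⟩ := Ideal.mem_span_pair.mp (h.1.le hg)
    by_cases ha : IsUnit a
    · refine ⟨v, h.right_mem, ?_⟩
      rw [h.1, Ideal.span_le]
      rintro z (rfl | rfl)
      · refine (Ideal.unit_mul_mem_iff_mem _ ha).mp ?_
        rw [show a * z = g - b * v by rw [← e]; ring]
        exact sub_mem (Ideal.mem_sup_right (Ideal.mem_span_singleton_self g))
          (Ideal.mem_sup_left (Ideal.mul_mem_left _ _ (Ideal.mem_span_singleton_self v)))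
      · exact Ideal.mem_sup_left (Ideal.mem_span_singleton_self _)
    by_cases hb : IsUnit b
    · refine ⟨u, h.left_mem, ?_⟩
      rw [h.1, Ideal.span_le]
      rintro z (rfl | rfl)
      · exact Ideal.mem_sup_left (Ideal.mem_span_singleton_self _)
      · refine (Ideal.unit_mul_mem_iff_mem _ hb).mp ?_
        rw [show b * z = g - a * u by rw [← e]; ring]
        exact sub_mem (Ideal.mem_sup_right (Ideal.mem_span_singleton_self g))
          (Ideal.mem_sup_left (Ideal.mul_mem_left _ _ (Ideal.mem_span_singleton_self u)))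
    · refine absurd ?_ hg2
      rw [← e, pow_two]
      exact add_mem (Ideal.mul_mem_mul ((mem_maximalIdeal _).mpr ha) h.left_mem)
        (Ideal.mul_mem_mul ((mem_maximalIdeal _).mpr hb) h.right_mem)
  have hm : maximalIdeal (O ⧸ Ideal.span {g}) ≤ Ideal.span {Ideal.Quotient.mk _ w} := by
    rw [← map_maximalIdeal_of_surjective (Ideal.Quotient.mk (Ideal.span {g})) Ideal.Quotient.mk_surjective]
    refine (Ideal.map_mono hw).trans ?_
    rw [Ideal.map_sup, Ideal.map_quotient_self, sup_bot_eq, Ideal.map_span, Set.image_singleton]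
  have he : maximalIdeal (O ⧸ Ideal.span {g}) = Ideal.span {Ideal.Quotient.mk _ w} := by
    refine le_antisymm hm ?_
    rw [Ideal.span_singleton_le_iff_mem,
      ← map_maximalIdeal_of_surjective (Ideal.Quotient.mk (Ideal.span {g})) Ideal.Quotient.mk_surjective]
    exact Ideal.mem_map_of_mem _ hwm
  have h1 : (maximalIdeal (O ⧸ Ideal.span {g})).spanFinrank ≤ 1 := by
    rw [he]
    exact (Submodule.spanFinrank_span_le_ncard_of_finite (Set.finite_singleton _)).trans (by simp)
  exact_mod_cast h1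

theorem pow_succ_le (h : IsParamPair u v) (n : ℕ) :
    maximalIdeal O ^ (n + 1) ≤ Ideal.span {u} * maximalIdeal O ^ n ⊔ Ideal.span {v ^ (n + 1)} := by
  induction n with
  | zero => rw [pow_one, pow_one, pow_zero, mul_one, ← Ideal.span_insert, ← h.1]
  | succ n ih =>
    have hv : Ideal.span {v ^ (n + 1)} * Ideal.span {u} ≤ Ideal.span {u} * maximalIdeal O ^ (n + 1) := by
      rw [mul_comm]
      exact Ideal.mul_mono_right (by
        rw [Ideal.span_singleton_le_iff_mem]; exact Ideal.pow_mem_pow h.right_mem _)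
    calc maximalIdeal O ^ (n + 1 + 1) = maximalIdeal O ^ (n + 1) * maximalIdeal O := pow_succ _ _
      _ ≤ (Ideal.span {u} * maximalIdeal O ^ n ⊔ Ideal.span {v ^ (n + 1)}) * maximalIdeal O :=
        Ideal.mul_mono_left ih
      _ ≤ _ := by
        rw [Ideal.sup_mul, mul_assoc, ← pow_succ]
        refine sup_le le_sup_left ?_
        conv_lhs => rw [h.1, Ideal.span_insert, Ideal.mul_sup, Ideal.span_singleton_mul_span_singleton (r := v ^ (n + 1)) (s := v),
          ← pow_succ]
        exact sup_le (hv.trans le_sup_left) le_sup_right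

variable (h : IsParamPair u v)
include h

theorem quot_facts : (Ideal.span {u}).IsPrime ∧ ∀ n, v ^ n ∉ Ideal.span {u} := by
  have hu : Ideal.span {u} ≤ maximalIdeal O := by rw [Ideal.span_singleton_le_iff_mem]; exact h.left_mem
  haveI : Nontrivial (O ⧸ Ideal.span {u}) :=
    Ideal.Quotient.nontrivial_iff.mpr (ne_top_of_le_ne_top (maximalIdeal.isMaximal O).ne_top hu)
  haveI : IsLocalRing (O ⧸ Ideal.span {u}) :=
    IsLocalRing.of_surjective' (Ideal.Quotient.mk _) Ideal.Quotient.mk_surjective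
  have hu2 : u ∉ maximalIdeal O ^ 2 := by
    intro hu2
    have hle : maximalIdeal O ≤ Ideal.span {v} := by
      refine Submodule.le_of_le_smul_of_le_jacobson_bot (I := maximalIdeal O)
        (IsNoetherian.noetherian _) (IsLocalRing.maximalIdeal_le_jacobson _) ?_
      rw [smul_eq_mul, ← pow_two]
      conv_lhs => rw [h.1]
      refine Ideal.span_le.mpr ?_
      rintro z (rfl | rfl)
      · exact Ideal.mem_sup_right hu2
      · exact Ideal.mem_sup_left (Ideal.mem_span_singleton_self _)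
    have h1 := Ideal.height_le_spanFinrank (maximalIdeal O) (maximalIdeal.isMaximal O).ne_top
    have h2 : (maximalIdeal O).spanFinrank ≤ 1 := by
      rw [le_antisymm hle (by rw [Ideal.span_singleton_le_iff_mem]; exact h.right_mem)]
      exact (Submodule.spanFinrank_span_le_ncard_of_finite (Set.finite_singleton _)).trans (by simp)
    have h3 := h.2
    rw [← IsLocalRing.maximalIdeal_height_eq_ringKrullDim] at h3
    have h4 : ((2 : ℕ) : ℕ∞) ≤ ((1 : ℕ) : ℕ∞) :=
      ((WithBot.coe_le_coe.mp h3).trans h1).trans (by exact_mod_cast h2)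
    exact absurd (by exact_mod_cast h4 : (2 : ℕ) ≤ 1) (by omega)
  haveI := h.isRegularLocalRing_quot h.left_mem hu2
  haveI : IsDomain (O ⧸ Ideal.span {u}) := RegLoc6.isDomain_of_isRegularLocalRing _
  refine ⟨(Ideal.Quotient.isDomain_iff_prime _).mp inferInstance, fun n hn => ?_⟩
  have hv : v ∈ Ideal.span {u} :=
    ((Ideal.Quotient.isDomain_iff_prime _).mp inferInstance).mem_of_pow_mem n hn
  have hle : maximalIdeal O ≤ Ideal.span {u} := by
    rw [h.1, Ideal.span_le]
    rintro z (rfl | rfl)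
    · exact Ideal.mem_span_singleton_self _
    · exact hv
  have hf : IsField (O ⧸ Ideal.span {u}) :=
    Ideal.Quotient.maximal_ideal_iff_isField_quotient _ |>.mp
      (le_antisymm hu hle ▸ maximalIdeal.isMaximal O)
  have h1 := h.one_le_dim_quot h.left_mem
  rw [ringKrullDim_eq_zero_of_isField hf] at h1
  exact absurd h1 (by decide)

theorem mem_pow_of_mul {x : O} {n : ℕ} (hx : u * x ∈ maximalIdeal O ^ (n + 1)) : x ∈ maximalIdeal O ^ n := by
  haveI := h.quot_facts.1
  haveI := h.isRegularLocalRing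
  haveI : IsDomain O := RegLoc6.isDomain_of_isRegularLocalRing _
  obtain ⟨z, hz, s', hs', e⟩ := Submodule.mem_sup.mp (h.pow_succ_le n hx)
  obtain ⟨y, hy, rfl⟩ := Ideal.mem_span_singleton_mul.mp hz
  obtain ⟨s, rfl⟩ := Ideal.mem_span_singleton'.mp hs'
  have hs : s ∈ Ideal.span {u} := by
    have : s * v ^ (n + 1) ∈ Ideal.span {u} := by
      rw [show s * v ^ (n + 1) = u * (x - y) by linear_combination e]
      exact Ideal.mul_mem_right _ _ (Ideal.mem_span_singleton_self _)
    exact (Ideal.IsPrime.mem_or_mem inferInstance this).resolve_right (h.quot_facts.2 _)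
  obtain ⟨t, rfl⟩ := Ideal.mem_span_singleton'.mp hs
  have hu0 : u ≠ 0 := fun h0 => h.symm.quot_facts.2 1 (by rw [h0, pow_one]; exact zero_mem _)
  have : x = y + t * v ^ (n + 1) := mul_left_cancel₀ hu0 (by linear_combination -e)
  rw [this]
  exact add_mem hy (Ideal.mul_mem_left _ _ (Ideal.pow_le_pow_right n.le_succ (Ideal.pow_mem_pow h.right_mem _)))

theorem mem_of_mul_pow {b : O} {n : ℕ} (hb : b * v ^ n ∈ maximalIdeal O ^ (n + 1) ⊔ Ideal.span {u}) :
    b ∈ maximalIdeal O := by
  haveI := h.quot_facts.1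
  have h1 : maximalIdeal O ^ (n + 1) ⊔ Ideal.span {u} ≤ Ideal.span {u} ⊔ Ideal.span {v ^ (n + 1)} :=
    sup_le ((h.pow_succ_le n).trans (sup_le_sup_right Ideal.mul_le_left _)) le_sup_left
  obtain ⟨z, hz, s', hs', e⟩ := Submodule.mem_sup.mp (h1 hb)
  obtain ⟨s, rfl⟩ := Ideal.mem_span_singleton'.mp hs'
  have : (b - s * v) * v ^ n ∈ Ideal.span {u} := by
    rw [show (b - s * v) * v ^ n = z by linear_combination -e]; exact hz
  have hb' := (Ideal.IsPrime.mem_or_mem inferInstance this).resolve_right (h.quot_facts.2 _)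
  have := add_mem (Ideal.span_le.mpr (Set.singleton_subset_iff.mpr h.left_mem) hb')
    (Ideal.mul_mem_left _ s h.right_mem)
  simpa using this

theorem coeff_one {a b : O} (hab : a * u + b * v ∈ maximalIdeal O ^ 2) :
    a ∈ maximalIdeal O ∧ b ∈ maximalIdeal O := by
  refine ⟨h.symm.mem_of_mul_pow (n := 1) ?_, h.mem_of_mul_pow (n := 1) ?_⟩
  · rw [pow_one, show a * u = (a * u + b * v) - b * v by ring]
    exact sub_mem (Ideal.mem_sup_left hab) (Ideal.mem_sup_right (Ideal.mul_mem_left _ _ (Ideal.mem_span_singleton_self v)))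
  · rw [pow_one, show b * v = (a * u + b * v) - a * u by ring]
    exact sub_mem (Ideal.mem_sup_left hab) (Ideal.mem_sup_right (Ideal.mul_mem_left _ _ (Ideal.mem_span_singleton_self u)))

theorem coeff_two {a b c : O} (habc : a * u ^ 2 + b * (u * v) + c * v ^ 2 ∈ maximalIdeal O ^ 3) :
    a ∈ maximalIdeal O ∧ b ∈ maximalIdeal O ∧ c ∈ maximalIdeal O := by
  have ha : a ∈ maximalIdeal O := h.symm.mem_of_mul_pow (n := 2) (by
    rw [show a * u ^ 2 = (a * u ^ 2 + b * (u * v) + c * v ^ 2) - (b * u + c * v) * v by ring]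
    exact sub_mem (Ideal.mem_sup_left habc) (Ideal.mem_sup_right (Ideal.mul_mem_left _ _ (Ideal.mem_span_singleton_self v))))
  have hc : c ∈ maximalIdeal O := h.mem_of_mul_pow (n := 2) (by
    rw [show c * v ^ 2 = (a * u ^ 2 + b * (u * v) + c * v ^ 2) - (a * u + b * v) * u by ring]
    exact sub_mem (Ideal.mem_sup_left habc) (Ideal.mem_sup_right (Ideal.mul_mem_left _ _ (Ideal.mem_span_singleton_self u))))
  refine ⟨ha, ?_, hc⟩
  have hz : u * (v * b) ∈ maximalIdeal O ^ 3 := by
    rw [show u * (v * b) = (a * u ^ 2 + b * (u * v) + c * v ^ 2) - a * u ^ 2 - c * v ^ 2 by ring]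
    exact sub_mem (sub_mem habc (by rw [pow_succ']; exact Ideal.mul_mem_mul ha (Ideal.pow_mem_pow h.left_mem _)))
      (by rw [pow_succ']; exact Ideal.mul_mem_mul hc (Ideal.pow_mem_pow h.right_mem _))
  simpa using h.symm.mem_pow_of_mul (n := 1) (h.mem_pow_of_mul (n := 2) hz)

theorem hasNodePair_quot {g : O} (hg : g - u * v ∈ maximalIdeal O ^ 3) [IsLocalRing (O ⧸ Ideal.span {g})] :
    HasNodePair (O ⧸ Ideal.span {g}) := by
  let π := Ideal.Quotient.mk (Ideal.span {g})
  have hπ : Function.Surjective π := Ideal.Quotient.mk_surjective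
  have hmap : ∀ k, maximalIdeal (O ⧸ Ideal.span {g}) ^ k = (maximalIdeal O ^ k).map π := fun k => by
    rw [Ideal.map_pow, map_maximalIdeal_of_surjective π hπ]
  refine ⟨π u, π v, ?_, ?_, ?_⟩
  · rw [← map_maximalIdeal_of_surjective π hπ, h.1, Ideal.map_span, Set.image_pair]
  · rw [hmap, ← map_mul, show π (u * v) = π (-(g - u * v)) by
      rw [neg_sub, map_sub, show π g = 0 from Ideal.Quotient.eq_zero_iff_mem.mpr (Ideal.mem_span_singleton_self g), sub_zero]]
    exact Ideal.mem_map_of_mem _ (neg_mem hg)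
  intro n hn a' b' hab
  obtain ⟨a, rfl⟩ := hπ a'
  obtain ⟨b, rfl⟩ := hπ b'
  rw [hmap, ← map_pow, ← map_pow, ← map_mul, ← map_mul, ← map_add, Ideal.mem_map_iff_of_surjective π hπ] at hab
  obtain ⟨z, hz, e⟩ := hab
  obtain ⟨r, hr⟩ := Ideal.mem_span_singleton'.mp (Ideal.Quotient.eq.mp e)
  have hgr : r * g ∈ maximalIdeal O ^ n := by
    rw [hr]
    exact sub_mem (Ideal.pow_le_pow_right n.le_succ hz)
      (add_mem (Ideal.mul_mem_left _ _ (Ideal.pow_mem_pow h.left_mem _))
        (Ideal.mul_mem_left _ _ (Ideal.pow_mem_pow h.right_mem _)))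
  have hrj : ∀ j, j ≤ n - 2 → r ∈ maximalIdeal O ^ j := by
    intro j hj
    induction j with
    | zero => simp
    | succ j ih =>
      have h1 : r * (g - u * v) ∈ maximalIdeal O ^ (j + 3) := by
        rw [pow_add]; exact Ideal.mul_mem_mul (ih (by omega)) hg
      have h2 : u * (v * r) ∈ maximalIdeal O ^ (j + 2 + 1) := by
        rw [show u * (v * r) = r * g - r * (g - u * v) by ring]
        exact sub_mem (Ideal.pow_le_pow_right (by omega) hgr) h1
      exact h.symm.mem_pow_of_mul (h.mem_pow_of_mul h2)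
  have h3 : r * (g - u * v) ∈ maximalIdeal O ^ (n + 1) :=
    Ideal.pow_le_pow_right (show n + 1 ≤ (n - 2) + 3 by omega)
      (by rw [pow_add]; exact Ideal.mul_mem_mul (hrj _ le_rfl) hg)
  have h4 : z - (a * u ^ n + b * v ^ n) - r * (u * v) ∈ maximalIdeal O ^ (n + 1) := by
    rw [← hr, show r * g - r * (u * v) = r * (g - u * v) by ring]; exact h3
  have hu : ∀ w : O, w * u ^ n ∈ Ideal.span {u} := fun w =>
    Ideal.mul_mem_left _ _ (Ideal.pow_mem_of_mem _ (Ideal.mem_span_singleton_self u) n hn)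
  have hv : ∀ w : O, w * v ^ n ∈ Ideal.span {v} := fun w =>
    Ideal.mul_mem_left _ _ (Ideal.pow_mem_of_mem _ (Ideal.mem_span_singleton_self v) n hn)
  have ha : a ∈ maximalIdeal O := h.symm.mem_of_mul_pow (n := n) (by
    rw [show a * u ^ n = (z - (z - (a * u ^ n + b * v ^ n) - r * (u * v))) - (b * v ^ n + r * u * v) by ring]
    exact sub_mem (Ideal.mem_sup_left (sub_mem hz h4)) (Ideal.mem_sup_right
      (add_mem (hv b) (Ideal.mul_mem_left _ _ (Ideal.mem_span_singleton_self v)))))
  have hb : b ∈ maximalIdeal O := h.mem_of_mul_pow (n := n) (by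
    rw [show b * v ^ n = (z - (z - (a * u ^ n + b * v ^ n) - r * (u * v))) - (a * u ^ n + r * v * u) by ring]
    exact sub_mem (Ideal.mem_sup_left (sub_mem hz h4)) (Ideal.mem_sup_right
      (add_mem (hu a) (Ideal.mul_mem_left _ _ (Ideal.mem_span_singleton_self u)))))
  rw [← map_maximalIdeal_of_surjective π hπ]
  exact ⟨Ideal.mem_map_of_mem _ ha, Ideal.mem_map_of_mem _ hb⟩

/-- If the quotient has a node pair, the quadratic part of the equation is nondegenerate. -/
theorem isUnit_disc {g a b c : O} (hg : g - (a * u ^ 2 + b * (u * v) + c * v ^ 2) ∈ maximalIdeal O ^ 3)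
    [IsLocalRing (O ⧸ Ideal.span {g})] (hH : HasNodePair (O ⧸ Ideal.span {g})) :
    IsUnit (b ^ 2 - 4 * a * c) := by
  let π := Ideal.Quotient.mk (Ideal.span {g})
  have hπ : Function.Surjective π := Ideal.Quotient.mk_surjective
  obtain ⟨x', y', hxy⟩ := hH
  obtain ⟨x, rfl⟩ := hπ x'
  obtain ⟨y, rfl⟩ := hπ y'
  have hu2 : ∀ w : O, w * u ^ 2 ∈ maximalIdeal O ^ 2 := fun w => Ideal.mul_mem_left _ _ (Ideal.pow_mem_pow h.left_mem _)
  have hv2 : ∀ w : O, w * v ^ 2 ∈ maximalIdeal O ^ 2 := fun w => Ideal.mul_mem_left _ _ (Ideal.pow_mem_pow h.right_mem _)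
  have hg2 : g ∈ maximalIdeal O ^ 2 := by
    rw [show g = (g - (a * u ^ 2 + b * (u * v) + c * v ^ 2)) + (a * u ^ 2 + b * (u * v) + c * v ^ 2) by ring]
    refine add_mem (Ideal.pow_le_pow_right (by omega) hg) (add_mem (add_mem (hu2 _) ?_) (hv2 _))
    rw [pow_two]; exact Ideal.mul_mem_left _ _ (Ideal.mul_mem_mul h.left_mem h.right_mem)
  have hgm : Ideal.span {g} ≤ maximalIdeal O ^ 2 := by rwa [Ideal.span_singleton_le_iff_mem]
  have hcm : ∀ w ∈ maximalIdeal (O ⧸ Ideal.span {g}), ∀ z, π z = w → z ∈ maximalIdeal O := fun w hw z hz => by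
    rw [← map_maximalIdeal_of_surjective π hπ, Ideal.mem_map_iff_of_surjective π hπ] at hw
    obtain ⟨z', hz', e⟩ := hw
    rw [show z = (z - z') + z' by ring]
    exact add_mem (Ideal.pow_le_self two_ne_zero (hgm (Ideal.Quotient.eq.mp (hz.trans e.symm)))) hz'
  have hxm : x ∈ maximalIdeal O := hcm _ hxy.left_mem x rfl
  have hym : y ∈ maximalIdeal O := hcm _ hxy.right_mem y rfl
  obtain ⟨p₁, p₂, ex⟩ := Ideal.mem_span_pair.mp (h.1.le hxm)
  obtain ⟨q₁, q₂, ey⟩ := Ideal.mem_span_pair.mp (h.1.le hym)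
  -- the pair is independent
  have hdet : IsUnit (p₁ * q₂ - p₂ * q₁) := by
    have hle : ∀ w ∈ maximalIdeal O, ∃ α β : O, w - (α * x + β * y) ∈ maximalIdeal O ^ 2 := by
      intro w hw
      have hw' : π w ∈ maximalIdeal (O ⧸ Ideal.span {g}) := by
        rw [← map_maximalIdeal_of_surjective π hπ]; exact Ideal.mem_map_of_mem _ hw
      obtain ⟨α', β', e⟩ := Ideal.mem_span_pair.mp (hxy.1.le hw')
      obtain ⟨α, rfl⟩ := hπ α'
      obtain ⟨β, rfl⟩ := hπ β'
      rw [← map_mul, ← map_mul, ← map_add] at e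
      exact ⟨α, β, hgm (Ideal.Quotient.eq.mp e.symm)⟩
    obtain ⟨α, β, hu'⟩ := hle u h.left_mem
    obtain ⟨γ, δ, hv'⟩ := hle v h.right_mem
    obtain ⟨h11, h12⟩ := h.coeff_one (a := 1 - α * p₁ - β * q₁) (b := -(α * p₂ + β * q₂)) (by
      rw [← ex, ← ey] at hu'; convert hu' using 1; ring)
    obtain ⟨h21, h22⟩ := h.coeff_one (a := -(γ * p₁ + δ * q₁)) (b := 1 - γ * p₂ - δ * q₂) (by
      rw [← ex, ← ey] at hv'; convert hv' using 1; ring)
    rw [← notMem_maximalIdeal]
    intro hm
    refine (maximalIdeal.isMaximal O).ne_top ((Ideal.eq_top_iff_one _).mpr ?_)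
    have h1 := sub_mem
      (add_mem (Ideal.mul_mem_left _ (α * δ - β * γ) hm) (Ideal.mul_mem_left _ (γ * p₂ + δ * q₂) h11))
      (add_mem (Ideal.mul_mem_left _ (γ * p₁ + δ * q₁) h12) (neg_mem h22))
    convert h1 using 1
    ring
  have hxy3 : π (x * y) ∈ (maximalIdeal O ^ 3).map π := by
    rw [Ideal.map_pow, map_maximalIdeal_of_surjective π hπ, map_mul]
    exact hxy.2.1
  obtain ⟨z, hz, e⟩ := (Ideal.mem_map_iff_of_surjective π hπ).mp hxy3
  obtain ⟨r, hr⟩ := Ideal.mem_span_singleton'.mp (Ideal.Quotient.eq.mp e)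
  obtain ⟨e1, e2, e3⟩ := h.coeff_two (a := p₁ * q₁ + r * a) (b := p₁ * q₂ + p₂ * q₁ + r * b)
      (c := p₂ * q₂ + r * c) (by
    have := sub_mem hz (Ideal.mul_mem_left _ r hg)
    convert this using 1
    rw [← ex, ← ey] at hr
    linear_combination hr)
  have hmem : (p₁ * q₂ - p₂ * q₁) ^ 2 - r ^ 2 * (b ^ 2 - 4 * a * c) ∈ maximalIdeal O := by
    have := sub_mem (Ideal.mul_mem_left _ (p₁ * q₂ + p₂ * q₁ - r * b) e2)
      (add_mem (Ideal.mul_mem_left _ (4 * (p₂ * q₂)) e1) (Ideal.mul_mem_left _ (-(4 * (r * a))) e3))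
    convert this using 1
    ring
  rw [← notMem_maximalIdeal]
  intro hm
  refine notMem_maximalIdeal.mpr (hdet.pow 2) ?_
  have h9 := add_mem hmem (Ideal.mul_mem_left _ (r ^ 2) hm)
  rwa [sub_add_cancel] at h9

end IsParamPair

end Groth.Agent.NodeLib
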