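import Groth.Agent.NodeLib.QuadForm
import Groth.Agent.NodeLib.RegTwo
import Groth.Agent.NodeLib.Completion
import Groth.Agent.PSLib.Regular
import Mathlib

/-!
# The normal form of a quadratic relation in a complete local ring
-/

set_option autoImplicit false
set_option linter.style.haveILetI false

universe u

namespace Groth.Agent.NodeLib.Quad

open IsLocalRing

/-- The quadratic form as a power series. -/
noncomputable abbrev qps {κ : Type u} [CommRing κ] (a b c : κ) : MvPowerSeries (Fin 2) κ :=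
  MvPowerSeries.C a * MvPowerSeries.X 0 ^ 2 + MvPowerSeries.C b * MvPowerSeries.X 0 * MvPowerSeries.X 1 +
    MvPowerSeries.C c * MvPowerSeries.X 1 ^ 2

section Series

variable (κ : Type u) [Field κ]

theorem maximalIdeal_series : maximalIdeal (MvPowerSeries (Fin 2) κ) =
    Ideal.span {MvPowerSeries.X 0, MvPowerSeries.X 1} := by
  refine le_antisymm ?_ (Ideal.span_le.mpr ?_)
  · intro f hf
    have h0 : MvPowerSeries.constantCoeff f = 0 := by
      by_contra hne
      exact (mem_maximalIdeal _).mp hf (MvPowerSeries.isUnit_iff_constantCoeff.mpr (isUnit_iff_ne_zero.mpr hne))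
    obtain ⟨g₀, g₁, hg⟩ := sub_mem_cross (K := κ) (f := f) 1 fun i j hj => by
      rw [Nat.lt_one_iff.mp hj, Finsupp.single_zero, MvPowerSeries.coeff_zero_eq_constantCoeff_apply, h0]
    obtain ⟨r, hr⟩ := Ideal.mem_span_singleton'.mp hg
    exact Ideal.mem_span_pair.mpr ⟨g₀ + r * MvPowerSeries.X 1, g₁, by linear_combination hr⟩
  · rintro z (rfl | rfl) <;>
      exact (mem_maximalIdeal _).mpr fun h => by
        simpa using MvPowerSeries.isUnit_iff_constantCoeff.mp h

theorem isParamPair_series : IsParamPair (MvPowerSeries.X 0 : MvPowerSeries (Fin 2) κ) (MvPowerSeries.X 1) :=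
  ⟨maximalIdeal_series κ, by rw [PSLib.ringKrullDim_eq]; rfl⟩

/-- Over an algebraically closed field the quotient by a nondegenerate form has a node pair. -/
theorem hasNodePair_qps [IsAlgClosed κ] (a b c : κ) (hd : b ^ 2 - 4 * a * c ≠ 0)
    [IsLocalRing (MvPowerSeries (Fin 2) κ ⧸ Ideal.span {qps a b c})] :
    HasNodePair (MvPowerSeries (Fin 2) κ ⧸ Ideal.span {qps a b c}) := by
  obtain ⟨p₁, p₂, q₁, q₂, -, -, e₁, e₂, e₃⟩ := exists_split a b c (by
    by_contra h0
    push Not at h0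
    exact hd (by rw [h0.1, h0.2.1, h0.2.2]; ring))
  have hD : p₁ * q₂ - p₂ * q₁ ≠ 0 := fun h0 => hd (by
    rw [← e₁, ← e₂, ← e₃]
    linear_combination (p₁ * q₂ - p₂ * q₁) * h0)
  let O := MvPowerSeries (Fin 2) κ
  let C := (MvPowerSeries.C : κ →+* O)
  let u : O := C p₁ * MvPowerSeries.X 0 + C p₂ * MvPowerSeries.X 1
  let v : O := C q₁ * MvPowerSeries.X 0 + C q₂ * MvPowerSeries.X 1
  have hX := maximalIdeal_series κ
  have hDu : IsUnit (C (p₁ * q₂ - p₂ * q₁)) := (isUnit_iff_ne_zero.mpr hD).map C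
  have hspan : maximalIdeal O = Ideal.span {u, v} := by
    refine hX.trans (le_antisymm (Ideal.span_le.mpr ?_) (Ideal.span_le.mpr ?_))
    · rintro z (rfl | rfl)
      · refine (Ideal.unit_mul_mem_iff_mem _ hDu).mp ?_
        refine Ideal.mem_span_pair.mpr ⟨C q₂, -C p₂, ?_⟩
        simp only [u, v, map_sub, map_mul]; ring
      · refine (Ideal.unit_mul_mem_iff_mem _ hDu).mp ?_
        refine Ideal.mem_span_pair.mpr ⟨-C q₁, C p₁, ?_⟩
        simp only [u, v, map_sub, map_mul]; ring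
    · rintro z (rfl | rfl)
      · exact Ideal.mem_span_pair.mpr ⟨C p₁, C p₂, rfl⟩
      · exact Ideal.mem_span_pair.mpr ⟨C q₁, C q₂, rfl⟩
  have hpp : IsParamPair u v := ⟨hspan, (isParamPair_series κ).2⟩
  refine hpp.hasNodePair_quot (g := qps a b c) ?_
  have : qps a b c - u * v = 0 := by
    simp only [qps, u, v, C, ← e₁, ← e₂, ← e₃, map_mul, map_add]
    ring
  rw [this]
  exact zero_mem _

end Series

section Complete

variable {κ C : Type u} [Field κ] [CommRing C] [IsLocalRing C] [IsNoetherianRing C]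
  [IsAdicComplete (maximalIdeal C) C] [Algebra κ C]

/-- An approximate relation can be made exact. -/
theorem exists_exact {u v : C} (hgen : maximalIdeal C = Ideal.span {u, v}) (a b c : C)
    (hd : IsUnit (b ^ 2 - 4 * a * c)) (hq : a * u ^ 2 + b * (u * v) + c * v ^ 2 ∈ maximalIdeal C ^ 3) :
    ∃ U V : C, U - u ∈ maximalIdeal C ^ 2 ∧ V - v ∈ maximalIdeal C ^ 2 ∧
      a * U ^ 2 + b * (U * V) + c * V ^ 2 = 0 := by
  classical
  set m := maximalIdeal C with hm
  let Q : C × C → C := fun s => a * s.1 ^ 2 + b * (s.1 * s.2) + c * s.2 ^ 2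
  let St : ℕ → C × C → Prop := fun j s => s.1 - u ∈ m ^ 2 ∧ s.2 - v ∈ m ^ 2 ∧ Q s ∈ m ^ (j + 3)
  have hgens : ∀ s : C × C, s.1 - u ∈ m ^ 2 → s.2 - v ∈ m ^ 2 →
      m = Ideal.span {2 * a * s.1 + b * s.2, b * s.1 + 2 * c * s.2} := by
    intro s h₁ h₂
    have hs₁ : s.1 ∈ m := by
      have := add_mem (Ideal.pow_le_self two_ne_zero h₁) (hgen ▸ Ideal.subset_span (by simp) : u ∈ m)
      simpa using this
    have hs₂ : s.2 ∈ m := by
      have := add_mem (Ideal.pow_le_self two_ne_zero h₂) (hgen ▸ Ideal.subset_span (by simp) : v ∈ m)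
      simpa using this
    refine le_antisymm ?_ (Ideal.span_le.mpr ?_)
    · refine Submodule.le_of_le_smul_of_le_jacobson_bot (I := m) (IsNoetherian.noetherian _)
        (IsLocalRing.maximalIdeal_le_jacobson _) ?_
      rw [smul_eq_mul, ← pow_two]
      conv_lhs => rw [hgen]
      refine Ideal.span_le.mpr ?_
      rintro z (rfl | rfl)
      · rw [SetLike.mem_coe, ← sub_sub_cancel s.1 z]
        refine sub_mem (Ideal.mem_sup_left ?_) (Ideal.mem_sup_right h₁)
        refine (Ideal.unit_mul_mem_iff_mem _ hd).mp ?_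
        exact Ideal.mem_span_pair.mpr ⟨-(2 * c), b, by ring⟩
      · rw [SetLike.mem_coe, ← sub_sub_cancel s.2 z]
        refine sub_mem (Ideal.mem_sup_left ?_) (Ideal.mem_sup_right h₂)
        refine (Ideal.unit_mul_mem_iff_mem _ hd).mp ?_
        exact Ideal.mem_span_pair.mpr ⟨b, -(2 * a), by ring⟩
    · rintro z (rfl | rfl)
      · exact add_mem (Ideal.mul_mem_left _ _ hs₁) (Ideal.mul_mem_left _ _ hs₂)
      · exact add_mem (Ideal.mul_mem_left _ _ hs₁) (Ideal.mul_mem_left _ _ hs₂)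
  have hnext : ∀ (j : ℕ) (s : C × C), St j s → ∃ s' : C × C, St (j + 1) s' ∧
      s'.1 - s.1 ∈ m ^ (j + 2) ∧ s'.2 - s.2 ∈ m ^ (j + 2) := by
    rintro j s ⟨h₁, h₂, hz⟩
    rw [pow_succ] at hz
    have hz' : Q s ∈ m ^ (j + 2) * (Ideal.span {2 * a * s.1 + b * s.2} ⊔ Ideal.span {b * s.1 + 2 * c * s.2}) := by
      rw [← Ideal.span_insert, ← hgens s h₁ h₂]; exact hz
    rw [Ideal.mul_sup, Submodule.mem_sup] at hz'
    obtain ⟨z₁, hz₁, z₂, hz₂, e⟩ := hz'
    obtain ⟨p, hp, rfl⟩ := Ideal.mem_mul_span_singleton.mp hz₁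
    obtain ⟨q, hq', rfl⟩ := Ideal.mem_mul_span_singleton.mp hz₂
    have h2 : m ^ (j + 2) ≤ m ^ 2 := Ideal.pow_le_pow_right (by omega)
    refine ⟨(s.1 - p, s.2 - q), ⟨?_, ?_, ?_⟩, ?_, ?_⟩
    · rw [sub_right_comm]; exact sub_mem h₁ (h2 hp)
    · rw [sub_right_comm]; exact sub_mem h₂ (h2 hq')
    · have hle : m ^ (j + 2) * m ^ (j + 2) ≤ m ^ (j + 1 + 3) := by
        rw [← pow_add]; exact Ideal.pow_le_pow_right (by omega)
      have : Q (s.1 - p, s.2 - q) = a * (p * p) + b * (p * q) + c * (q * q) := by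
        simp only [Q] at e ⊢
        linear_combination -e
      rw [this]
      exact add_mem (add_mem (Ideal.mul_mem_left _ _ (hle (Ideal.mul_mem_mul hp hp)))
        (Ideal.mul_mem_left _ _ (hle (Ideal.mul_mem_mul hp hq'))))
        (Ideal.mul_mem_left _ _ (hle (Ideal.mul_mem_mul hq' hq')))
    · show s.1 - p - s.1 ∈ _
      rw [sub_sub_cancel_left]; exact neg_mem hp
    · show s.2 - q - s.2 ∈ _
      rw [sub_sub_cancel_left]; exact neg_mem hq'
  choose! next hN1 hN2 hN3 using hnext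
  let s : ℕ → C × C := fun j => Nat.rec (u, v) (fun j p => next j p) j
  have hs : ∀ j, St j (s j) := by
    intro j
    induction j with
    | zero => exact ⟨by simp [s], by simp [s], hq⟩
    | succ j ih => exact hN1 j (s j) ih
  have lim : ∀ f : ℕ → C, (∀ j, f (j + 1) - f j ∈ m ^ (j + 2)) → ∃ L, ∀ j, L - f j ∈ m ^ (j + 2) := by
    intro f hf
    have hc : ∀ {i j}, i ≤ j → f j - f i ∈ m ^ (i + 2) := by
      intro i j hij
      induction hij with
      | refl => simp
      | @step l hil ih =>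
        rw [← sub_add_sub_cancel (f (l + 1)) (f l) (f i)]
        exact add_mem (Ideal.pow_le_pow_right (by simp only [Nat.le_eq] at hil; omega) (hf l)) ih
    have hc' : ∀ {i j}, i ≤ j → f i ≡ f j [SMOD (m ^ i • ⊤ : Submodule C C)] := fun {i j} hij => by
      rw [SModEq.sub_mem, smul_eq_mul, Ideal.mul_top, ← neg_sub]
      exact neg_mem (Ideal.pow_le_pow_right (by omega) (hc hij))
    obtain ⟨L, hL⟩ := IsPrecomplete.prec' (I := m) f hc'
    refine ⟨L, fun j => ?_⟩
    have h1 := hL (j + 2)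
    rw [SModEq.sub_mem, smul_eq_mul, Ideal.mul_top] at h1
    rw [← sub_add_sub_cancel L (f (j + 2)) (f j)]
    exact add_mem (by rw [← neg_sub]; exact neg_mem h1) (hc (by omega))
  obtain ⟨U, hU⟩ := lim (fun j => (s j).1) fun j => hN2 j _ (hs j)
  obtain ⟨V, hV⟩ := lim (fun j => (s j).2) fun j => hN3 j _ (hs j)
  refine ⟨U, V, ?_, ?_, IsHausdorff.haus' (I := m) _ fun j => ?_⟩
  · simpa [s] using hU 0
  · simpa [s] using hV 0
  · rw [SModEq.zero, smul_eq_mul, Ideal.mul_top]
    have h1 := Ideal.pow_le_pow_right (show j ≤ j + 2 by omega) (hU j)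
    have h2 := Ideal.pow_le_pow_right (show j ≤ j + 2 by omega) (hV j)
    have h3 := Ideal.pow_le_pow_right (show j ≤ j + 3 by omega) (hs j).2.2
    have := add_mem (add_mem h3 (Ideal.mul_mem_left _ (a * (U + (s j).1) + b * V) h1))
      (Ideal.mul_mem_left _ (b * (s j).1 + c * (V + (s j).2)) h2)
    convert this using 1
    simp only [Q]
    ring

/-- The structure theorem. -/
theorem exists_equiv (hres : ∀ x : C, ∃ t : κ, x - algebraMap κ C t ∈ maximalIdeal C) {U V : C}
    (hgen : maximalIdeal C = Ideal.span {U, V}) (a b c : κ) (ha : a ≠ 0)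
    (hq : algebraMap κ C a * U ^ 2 + algebraMap κ C b * (U * V) + algebraMap κ C c * V ^ 2 = 0)
    (hind : ∀ (n : ℕ) (e f : C), e * (U * V ^ n) + f * V ^ (n + 1) ∈ maximalIdeal C ^ (n + 1 + 1) →
      e ∈ maximalIdeal C ∧ f ∈ maximalIdeal C) :
    Nonempty ((MvPowerSeries (Fin 2) κ ⧸ Ideal.span {qps a b c}) ≃ₐ[κ] C) := by
  have hUm : U ∈ maximalIdeal C := hgen ▸ Ideal.subset_span (by simp)
  have hVm : V ∈ maximalIdeal C := hgen ▸ Ideal.subset_span (by simp)
  obtain ⟨φ, hφ⟩ := PSLib.exists_algHom (R := κ) (maximalIdeal C) ![U, V] (by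
    intro i; fin_cases i <;> simp [hUm, hVm])
  have hφ0 : φ (MvPowerSeries.X 0) = U := by simpa using hφ 0
  have hφ1 : φ (MvPowerSeries.X 1) = V := by simpa using hφ 1
  have hC : ∀ t, φ (MvPowerSeries.C t) = algebraMap κ C t := fun t => φ.commutes t
  have hqps : φ (qps a b c) = 0 := by
    simp only [qps, map_add, map_mul, map_pow, hφ0, hφ1, hC]
    linear_combination hq
  have hsurj : Function.Surjective φ := by
    refine PSLib.surjective_of_span (fun r => ?_) φ (fun i => ?_) ?_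
    · obtain ⟨x, rfl⟩ := residue_surjective r
      obtain ⟨t, ht⟩ := hres x
      exact ⟨t, (Ideal.Quotient.eq.mpr ht).symm⟩
    · fin_cases i <;> simp [hφ0, hφ1, hUm, hVm]
    · refine le_sup_of_le_left ?_
      rw [hgen, Ideal.span_le]
      rintro z (rfl | rfl)
      · exact Ideal.subset_span ⟨0, hφ0⟩
      · exact Ideal.subset_span ⟨1, hφ1⟩
  have hunit : ∀ g, φ g ∈ maximalIdeal C → g ∈ maximalIdeal (MvPowerSeries (Fin 2) κ) := fun g hg =>
    (mem_maximalIdeal _).mpr fun h => (mem_maximalIdeal _).mp hg (h.map φ)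
  set I := Ideal.span {qps a b c} with hI
  have hIk : ∀ z ∈ I, φ z = 0 := fun z hz => by
    obtain ⟨r, rfl⟩ := Ideal.mem_span_singleton'.mp hz
    rw [map_mul, hqps, mul_zero]
  have hP := maximalIdeal_series κ
  have hCa : IsUnit (MvPowerSeries.C a : MvPowerSeries (Fin 2) κ) := (isUnit_iff_ne_zero.mpr ha).map _
  have hall : ∀ (N : ℕ) (z : MvPowerSeries (Fin 2) κ), φ z = 0 →
      z ∈ I ⊔ maximalIdeal (MvPowerSeries (Fin 2) κ) ^ (N + 1) := by
    intro N z hz
    induction N with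
    | zero => rw [zero_add, pow_one]; exact Ideal.mem_sup_right (hunit z (hz ▸ zero_mem _))
    | succ N ih =>
      obtain ⟨i, hi, y, hy, rfl⟩ := Submodule.mem_sup.mp ih
      rw [map_add, hIk i hi, zero_add] at hz
      obtain ⟨s, hs, t, ht, rfl⟩ := Submodule.mem_sup.mp
        (pow_le_span (b := MvPowerSeries.C b) (c := MvPowerSeries.C c) hP hCa N hy)
      have ht' : t ∈ I := by
        have e : MvPowerSeries.C a * MvPowerSeries.X 0 ^ 2 + MvPowerSeries.C b * (MvPowerSeries.X 0 * MvPowerSeries.X 1) +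
            MvPowerSeries.C c * MvPowerSeries.X 1 ^ 2 = qps a b c := by simp only [qps]; ring
        rwa [e] at ht
      obtain ⟨e, f, rfl⟩ := Ideal.mem_span_pair.mp hs
      rw [map_add, hIk t ht', add_zero, map_add, map_mul φ e, map_mul φ f, map_mul, map_pow, map_pow, hφ0, hφ1] at hz
      obtain ⟨he, hf⟩ := hind N (φ e) (φ f) (hz ▸ zero_mem _)
      refine add_mem (Ideal.mem_sup_left hi) (add_mem (Ideal.mem_sup_right ?_) (Ideal.mem_sup_left ht'))
      rw [pow_succ' (maximalIdeal (MvPowerSeries (Fin 2) κ))]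
      refine add_mem (Ideal.mul_mem_mul (hunit e he) ?_) (Ideal.mul_mem_mul (hunit f hf) ?_)
      · rw [show N + 1 = 1 + N by omega, pow_add, pow_one]
        exact Ideal.mul_mem_mul (hP ▸ Ideal.subset_span (by simp))
          (Ideal.pow_mem_pow (hP ▸ Ideal.subset_span (by simp)) N)
      · exact Ideal.pow_mem_pow (hP ▸ Ideal.subset_span (by simp)) _
  have hIne : I ≠ ⊤ := fun ht => by
    have := hIk 1 (ht ▸ Submodule.mem_top)
    rw [map_one] at this
    exact one_ne_zero this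
  haveI : Nontrivial (MvPowerSeries (Fin 2) κ ⧸ I) := Ideal.Quotient.nontrivial_iff.mpr hIne
  haveI : IsLocalRing (MvPowerSeries (Fin 2) κ ⧸ I) :=
    IsLocalRing.of_surjective' (Ideal.Quotient.mk _) Ideal.Quotient.mk_surjective

  refine ⟨AlgEquiv.ofBijective (Ideal.Quotient.liftₐ I φ hIk) ⟨(injective_iff_map_eq_zero _).mpr fun p hp => ?_,
    Ideal.Quotient.lift_surjective_of_surjective _ _ hsurj⟩⟩
  obtain ⟨z, rfl⟩ := Ideal.Quotient.mk_surjective p
  have hz : φ z = 0 := hp
  rw [← Ideal.mem_bot, ← Ideal.iInf_pow_eq_bot_of_isLocalRing (maximalIdeal (MvPowerSeries (Fin 2) κ ⧸ I))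
    (maximalIdeal.isMaximal _).ne_top, Submodule.mem_iInf]
  intro N
  obtain ⟨i, hi, y, hy, e⟩ := Submodule.mem_sup.mp (hall N z hz)
  rw [← map_maximalIdeal_of_surjective (Ideal.Quotient.mk I) Ideal.Quotient.mk_surjective, ← Ideal.map_pow, ← e,
    map_add, Ideal.Quotient.eq_zero_iff_mem.mpr hi, zero_add]
  exact Ideal.mem_map_of_mem _ (Ideal.pow_le_pow_right N.le_succ hy)

end Complete

end Groth.Agent.NodeLib.Quad
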