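import Groth.Agent.NodeLib.Completion
import Groth.Agent.NodeLib.QuadCompletion
import Groth.Agent.CILib.Basic
import Groth.Agent.S9231
import Groth.Agent.SmNhd17.Fibre

/-!
# The completed local ring at a split node
-/

set_option autoImplicit false
set_option linter.style.haveILetI false
set_option maxHeartbeats 1000000

universe u

namespace Groth.Agent.NodeLib

open IsLocalRing

section

variable (κ : Type u) [Field κ]

/-- The complete local ring of a split node. -/
abbrev NodeModelRing := MvPowerSeries (Fin 2) κ ⧸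
  Ideal.span {(MvPowerSeries.X 0 * MvPowerSeries.X 1 : MvPowerSeries (Fin 2) κ)}

instance nontrivial_nodeModelRing : Nontrivial (NodeModelRing κ) := by
  refine Ideal.Quotient.nontrivial_iff.mpr fun h => ?_
  have h1 : (1 : MvPowerSeries (Fin 2) κ) ∈ maximalIdeal (MvPowerSeries (Fin 2) κ) := by
    rw [Quad.maximalIdeal_series]
    have hmem : (1 : MvPowerSeries (Fin 2) κ) ∈
        Ideal.span {(MvPowerSeries.X 0 * MvPowerSeries.X 1 : MvPowerSeries (Fin 2) κ)} := h ▸ Submodule.mem_top
    refine (Ideal.span_le.mpr ?_) hmem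
    rintro z rfl
    exact Ideal.mul_mem_left _ _ (Ideal.subset_span (by simp))
  exact (mem_maximalIdeal _).mp h1 isUnit_one

theorem maximalIdeal_nodeModelRing [IsLocalRing (NodeModelRing κ)] :
    maximalIdeal (NodeModelRing κ) = Ideal.span
      {Ideal.Quotient.mk _ (MvPowerSeries.X 0), Ideal.Quotient.mk _ (MvPowerSeries.X 1)} := by
  rw [← map_maximalIdeal_of_surjective (Ideal.Quotient.mk
    (Ideal.span {(MvPowerSeries.X 0 * MvPowerSeries.X 1 : MvPowerSeries (Fin 2) κ)})) Ideal.Quotient.mk_surjective,
    Quad.maximalIdeal_series, Ideal.map_span, Set.image_pair]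

end

/-- A flat local algebra whose completed fibre is a split node has completion `Â[[x,y]]/(xy - α)`. -/
theorem exists_normalForm (A B F : Type u) [CommRing A] [IsLocalRing A] [IsNoetherianRing A]
    [CommRing B] [IsLocalRing B] [IsNoetherianRing B] [Algebra A B] [IsLocalHom (algebraMap A B)] [Module.Flat A B]
    [CommRing F] [IsLocalRing F] [IsNoetherianRing F] [Algebra A F] (q : B →ₐ[A] F) (hq : Function.Surjective q)
    (hker : RingHom.ker q = (maximalIdeal A).map (algebraMap A B))
    (e : AdicCompletion (maximalIdeal F) F ≃+* NodeModelRing (ResidueField A))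
    (he : ∀ a : A, e (algebraMap F (AdicCompletion (maximalIdeal F) F) (algebraMap A F a)) =
      Ideal.Quotient.mk _ (MvPowerSeries.C (residue A a))) :
    ∃ α ∈ maximalIdeal (AdicCompletion (maximalIdeal A) A),
      ∃ E : AdicCompletion (maximalIdeal B) B ≃+*
          (MvPowerSeries (Fin 2) (AdicCompletion (maximalIdeal A) A) ⧸ nodeEq α),
        ∀ a : A, E (algebraMap B (AdicCompletion (maximalIdeal B) B) (algebraMap A B a)) =
          Ideal.Quotient.mk _ (MvPowerSeries.C (algebraMap A (AdicCompletion (maximalIdeal A) A) a)) := by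
  classical
  let T := AdicCompletion (maximalIdeal A) A
  let C := AdicCompletion (maximalIdeal B) B
  let C' := AdicCompletion (maximalIdeal F) F
  let k := ResidueField A
  haveI : IsNoetherianRing T := LC.Canon.isNoetherianRing_completion (R := A)
  haveI : IsNoetherianRing C := LC.Canon.isNoetherianRing_completion (R := B)
  haveI : IsNoetherianRing C' := LC.Canon.isNoetherianRing_completion (R := F)
  haveI : IsAdicComplete (maximalIdeal T) T := isAdicComplete_maximalIdeal A
  haveI : IsAdicComplete (maximalIdeal C) C := isAdicComplete_maximalIdeal B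
  haveI : IsAdicComplete (maximalIdeal C') C' := isAdicComplete_maximalIdeal F
  have hmT : maximalIdeal T = (maximalIdeal A).map (algebraMap A T) := AdicCompletion.maximalIdeal_eq_map
  have hmC : maximalIdeal C = (maximalIdeal B).map (algebraMap B C) := AdicCompletion.maximalIdeal_eq_map
  have hmC' : maximalIdeal C' = (maximalIdeal F).map (algebraMap F C') := AdicCompletion.maximalIdeal_eq_map
  -- the ring maps between the completions
  have hAC : algebraMap A C = (algebraMap B C).comp (algebraMap A B) := IsScalarTower.algebraMap_eq A B C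
  let M : Ideal C := (maximalIdeal A).map (algebraMap A C)
  have hMm : M ≤ maximalIdeal C := by
    show (maximalIdeal A).map (algebraMap A C) ≤ _
    rw [hAC, ← Ideal.map_map, hmC]
    exact Ideal.map_mono (map_maximalIdeal_le (algebraMap A B))
  let f : B →ₐ[A] C' := (IsScalarTower.toAlgHom A F C').comp q
  have hfB : (maximalIdeal B).map f.toRingHom = maximalIdeal C' :=
    ((Ideal.map_map q.toRingHom (algebraMap F C')).symm.trans
      (congrArg (Ideal.map (algebraMap F C')) (map_maximalIdeal_of_surjective q.toRingHom hq))).trans hmC'.symm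
  obtain ⟨φ, hφ⟩ := Adic7.exists_lift_completion (R := A) (S := B) (B := C') (maximalIdeal B) (maximalIdeal C')
    f hfB.le
  have hφm : (maximalIdeal C).map φ.toRingHom = maximalIdeal C' := by
    rw [hmC, Ideal.map_map, ← hfB]
    exact congrArg (fun g : B →+* C' => (maximalIdeal B).map g) (RingHom.ext hφ)
  have hφs : Function.Surjective φ.toRingHom :=
    PSLib.surjective_of_first_order φ.toRingHom (I := maximalIdeal C) (J := maximalIdeal C')
      (IsNoetherian.noetherian _) (IsAdicComplete.le_jacobson_bot _) hφm.le (le_sup_of_le_left hφm.ge) fun z => by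
        obtain ⟨w, hw⟩ := Adic7.exists_sub_algebraMap_mem (maximalIdeal F) (IsNoetherian.noetherian _) z 1
        obtain ⟨b, rfl⟩ := hq w
        refine ⟨algebraMap B C b, ?_⟩
        show z - φ (algebraMap B C b) ∈ maximalIdeal C'
        rw [hφ, hmC']
        simpa [f] using hw
  have hφA : ∀ a, φ (algebraMap A C a) = algebraMap F C' (algebraMap A F a) := fun a => by
    rw [IsScalarTower.algebraMap_apply A B C, hφ]
    show algebraMap F C' (q (algebraMap A B a)) = _
    rw [q.commutes]
  have hMφ : M ≤ RingHom.ker φ.toRingHom := Ideal.map_le_iff_le_comap.mpr fun a ha => by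
    show φ (algebraMap A C a) = 0
    rw [IsScalarTower.algebraMap_apply A B C, hφ]
    show algebraMap F C' (q (algebraMap A B a)) = 0
    rw [show q (algebraMap A B a) = 0 from RingHom.mem_ker.mp (hker ▸ Ideal.mem_map_of_mem _ ha), map_zero]
  -- the kernel is `M`
  have hφk : RingHom.ker φ.toRingHom = M := by
    refine le_antisymm ?_ hMφ
    let D := C ⧸ M
    haveI : Nontrivial D := Ideal.Quotient.nontrivial_iff.mpr fun h =>
      (maximalIdeal.isMaximal C).ne_top (top_le_iff.mp (h ▸ hMm))
    haveI : IsLocalRing D := IsLocalRing.of_surjective' (Ideal.Quotient.mk M) Ideal.Quotient.mk_surjective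
    haveI : IsAdicComplete (maximalIdeal D) D := CILib.isAdicComplete_quotient M
    have hmD : (maximalIdeal C).map (Ideal.Quotient.mk M) = maximalIdeal D :=
      map_maximalIdeal_of_surjective _ Ideal.Quotient.mk_surjective
    let φD : D →+* C' := Ideal.Quotient.lift M φ.toRingHom fun x hx => RingHom.mem_ker.mp (hMφ hx)
    let g : B →+* D := (Ideal.Quotient.mk M).comp (algebraMap B C)
    have hg : RingHom.ker q.toRingHom ≤ RingHom.ker g := by
      rw [show RingHom.ker q.toRingHom = _ from hker]
      refine Ideal.map_le_iff_le_comap.mpr fun a ha => ?_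
      show Ideal.Quotient.mk M (algebraMap B C (algebraMap A B a)) = 0
      rw [← IsScalarTower.algebraMap_apply, Ideal.Quotient.eq_zero_iff_mem]
      exact Ideal.mem_map_of_mem _ ha
    let h₀ : F →+* D := RingHom.liftOfSurjective q.toRingHom hq ⟨g, hg⟩
    have hh₀ : ∀ b, h₀ (q b) = g b := RingHom.liftOfRightInverse_comp_apply _ _ _ _
    have hc : ∀ a, h₀ (algebraMap A F a) = algebraMap A D a := fun a => by
      rw [← q.commutes, hh₀]
      show Ideal.Quotient.mk M (algebraMap B C (algebraMap A B a)) = _
      rw [← IsScalarTower.algebraMap_apply]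
      rfl
    let h : F →ₐ[A] D := { h₀ with commutes' := hc }
    have hBD : (maximalIdeal B).map g = maximalIdeal D := by
      rw [← hmD, hmC, Ideal.map_map]
    have hFD : ∀ s : F →+* D, (∀ b, s (q b) = g b) → (maximalIdeal F).map s = maximalIdeal D := fun s hs => by
      refine Eq.trans ?_ hBD
      refine (congrArg (Ideal.map s) (map_maximalIdeal_of_surjective q.toRingHom hq).symm).trans ?_
      rw [Ideal.map_map]
      exact congrArg (fun g' : B →+* D => (maximalIdeal B).map g') (RingHom.ext hs)
    have hhm : (maximalIdeal F).map h.toRingHom ≤ maximalIdeal D := (hFD _ hh₀).le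
    obtain ⟨ρ, hρ⟩ := Adic7.exists_lift_completion (R := A) (S := F) (B := D) (maximalIdeal F) (maximalIdeal D) h hhm
    have hρm : (maximalIdeal C').map ρ.toRingHom = maximalIdeal D := by
      rw [hmC', Ideal.map_map]
      exact hFD _ fun b => (hρ (q b)).trans (hh₀ b)
    have hρs : Function.Surjective ρ.toRingHom :=
      PSLib.surjective_of_first_order ρ.toRingHom (I := maximalIdeal C') (J := maximalIdeal D)
        (IsNoetherian.noetherian _) (IsAdicComplete.le_jacobson_bot _) hρm.le (le_sup_of_le_left hρm.ge) fun z => by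
          obtain ⟨c, rfl⟩ := Ideal.Quotient.mk_surjective z
          obtain ⟨b, hb⟩ := Adic7.exists_sub_algebraMap_mem (maximalIdeal B) (IsNoetherian.noetherian _) c 1
          refine ⟨algebraMap F C' (q b), ?_⟩
          show Ideal.Quotient.mk M c - ρ (algebraMap F C' (q b)) ∈ maximalIdeal D
          rw [hρ, show h (q b) = g b from hh₀ b, ← hmD, show g b = Ideal.Quotient.mk M (algebraMap B C b) from rfl,
            ← map_sub]
          refine Ideal.mem_map_of_mem _ ?_
          rw [hmC]; simpa using hb
    have hφDs : Function.Surjective φD := Ideal.Quotient.lift_surjective_of_surjective M _ hφs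
    have hi := injective_of_surjective_endo (φD.comp ρ.toRingHom) (hφDs.comp hρs)
    intro x hx
    obtain ⟨y, hy⟩ := hρs (Ideal.Quotient.mk M x)
    have h0 : φD.comp ρ.toRingHom y = 0 := by
      rw [RingHom.comp_apply, hy]
      exact hx
    rw [← Ideal.Quotient.eq_zero_iff_mem, ← hy, hi (h0.trans (map_zero _).symm), map_zero]
  -- coordinates
  let τ : C →+* NodeModelRing k := e.toRingHom.comp φ.toRingHom
  have hτs : Function.Surjective τ := e.surjective.comp hφs
  have hτk : RingHom.ker τ = M := by
    rw [← hφk]; ext x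
    exact e.map_eq_zero_iff
  have hτA : ∀ a, τ (algebraMap A C a) = Ideal.Quotient.mk _ (MvPowerSeries.C (residue A a)) := fun a => by
    show e (φ (algebraMap A C a)) = _
    rw [hφA, he]
  haveI : IsLocalRing (NodeModelRing k) := IsLocalRing.of_surjective' τ hτs
  obtain ⟨u, hu⟩ := hτs (Ideal.Quotient.mk _ (MvPowerSeries.X 0))
  obtain ⟨v, hv⟩ := hτs (Ideal.Quotient.mk _ (MvPowerSeries.X 1))
  have hmax : maximalIdeal C = Ideal.comap τ (maximalIdeal (NodeModelRing k)) :=
    haveI := Ideal.comap_isMaximal_of_surjective τ hτs (K := maximalIdeal (NodeModelRing k))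
    (IsLocalRing.eq_maximalIdeal ‹_›).symm
  have hgen : maximalIdeal C = Ideal.span {u, v} ⊔ M := by
    rw [hmax, maximalIdeal_nodeModelRing, ← hu, ← hv, ← Set.image_pair, ← Ideal.map_span,
      Ideal.comap_map_of_surjective τ hτs, ← RingHom.ker_eq_comap_bot, hτk]
  have huv : u * v ∈ M := by
    rw [← hτk, RingHom.mem_ker, map_mul, hu, hv, ← map_mul]
    exact Ideal.Quotient.eq_zero_iff_mem.mpr (Ideal.mem_span_singleton_self _)
  obtain ⟨ι, hι⟩ := Adic7.exists_lift_completion (R := A) (S := A) (B := C) (maximalIdeal A) (maximalIdeal C)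
    (Algebra.ofId A C) hMm
  letI : Algebra T C := ι.toRingHom.toAlgebra
  haveI : IsScalarTower A T C := IsScalarTower.of_algebraMap_eq fun a => (hι a).symm
  have hTC : (maximalIdeal T).map (algebraMap T C) = M := by
    rw [hmT, Ideal.map_map, ← IsScalarTower.algebraMap_eq]
  haveI : IsLocalHom (algebraMap T C) := ⟨fun x hx => by
    by_contra h
    exact (show algebraMap T C x ∈ maximalIdeal C from
      hMm (hTC ▸ Ideal.mem_map_of_mem _ ((mem_maximalIdeal _).mpr h))) hx⟩
  haveI : Module.Flat T C := (S9231.result A B ι.toRingHom (RingHom.ext fun a =>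
    (hι a).trans (IsScalarTower.algebraMap_apply A B C a))).mpr (RingHom.flat_algebraMap_iff.mpr inferInstance)
  have hres : ∀ c : C, ∃ t : T, c - algebraMap T C t ∈ maximalIdeal C := fun c => by
    obtain ⟨p, hp⟩ := Ideal.Quotient.mk_surjective (τ c)
    obtain ⟨a, ha⟩ := residue_surjective (MvPowerSeries.constantCoeff p)
    refine ⟨algebraMap A T a, ?_⟩
    rw [← IsScalarTower.algebraMap_apply, hmax, Ideal.mem_comap, map_sub, hτA, ← hp, ← map_sub,
      ← map_maximalIdeal_of_surjective (Ideal.Quotient.mk _) Ideal.Quotient.mk_surjective]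
    refine Ideal.mem_map_of_mem _ ?_
    rw [mem_maximalIdeal, mem_nonunits_iff, MvPowerSeries.isUnit_iff_constantCoeff, map_sub,
      MvPowerSeries.constantCoeff_C, ha, sub_self]
    exact not_isUnit_zero
  obtain ⟨α, ψ, hα, hψs, -, -⟩ := exists_node (T := T) (C := C) hres u v (hTC.symm ▸ huv) (by rw [hTC]; exact hgen)
  -- injectivity
  let r : T →+* k := (AdicCompletion.evalOneₐ (maximalIdeal A)).toRingHom
  have hr : Function.Surjective r := fun z => by
    obtain ⟨a, rfl⟩ := IsLocalRing.residue_surjective z
    exact ⟨algebraMap A T a, (AdicCompletion.evalOneₐ (maximalIdeal A)).commutes a⟩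
  have hrker : RingHom.ker r = maximalIdeal T :=
    IsLocalRing.eq_maximalIdeal (RingHom.ker_isMaximal_of_surjective r hr)
  let π : MvPowerSeries (Fin 2) T →+* NodeModelRing k := (Ideal.Quotient.mk _).comp (MvPowerSeries.map r)
  have hmap : Function.Surjective (MvPowerSeries.map (σ := Fin 2) r) := fun h => by
    choose c hc using fun d => hr (MvPowerSeries.coeff d h)
    let p : MvPowerSeries (Fin 2) T := c
    exact ⟨p, MvPowerSeries.ext fun d => by rw [MvPowerSeries.coeff_map]; exact hc d⟩
  have hπs : Function.Surjective π := Ideal.Quotient.mk_surjective.comp hmap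
  have hπk : RingHom.ker π ≤ (maximalIdeal T).map MvPowerSeries.C ⊔ nodeEq α := by
    intro p hp
    obtain ⟨g, hg⟩ := Ideal.mem_span_singleton'.mp (Ideal.Quotient.eq_zero_iff_mem.mp hp)
    obtain ⟨g', rfl⟩ := hmap g
    have hrα : r α = 0 := RingHom.mem_ker.mp (hrker ▸ hα)
    have hd : MvPowerSeries.map r (p - g' * (MvPowerSeries.X 0 * MvPowerSeries.X 1 - MvPowerSeries.C α)) = 0 := by
      rw [map_sub, map_mul, map_sub, map_mul, MvPowerSeries.map_X, MvPowerSeries.map_X, MvPowerSeries.map_C,
        hrα, map_zero, sub_zero, hg, sub_self]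
    rw [← sub_add_cancel p (g' * (MvPowerSeries.X 0 * MvPowerSeries.X 1 - MvPowerSeries.C α))]
    refine add_mem (Ideal.mem_sup_left (mem_map_C _ (IsNoetherian.noetherian _) _ fun d => ?_))
      (Ideal.mem_sup_right (Ideal.mul_mem_left _ _ (Ideal.subset_span rfl)))
    rw [← hrker, RingHom.mem_ker, ← MvPowerSeries.coeff_map, hd, map_zero]
  let G : MvPowerSeries (Fin 2) T →+* NodeModelRing k := τ.comp (ψ.toRingHom.comp (Ideal.Quotient.mk _))
  have hGs : Function.Surjective G := hτs.comp (hψs.comp Ideal.Quotient.mk_surjective)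
  have hGk : RingHom.ker π ≤ RingHom.ker G := hπk.trans (sup_le
    (Ideal.map_le_iff_le_comap.mpr fun t ht => by
      show τ (ψ (Ideal.Quotient.mk _ (MvPowerSeries.C t))) = 0
      rw [show ψ (Ideal.Quotient.mk _ (MvPowerSeries.C t)) = algebraMap T C t from ψ.commutes t,
        ← RingHom.mem_ker, hτk, ← hTC]
      exact Ideal.mem_map_of_mem _ ht)
    (fun x hx => by
      show τ (ψ (Ideal.Quotient.mk _ x)) = 0
      rw [Ideal.Quotient.eq_zero_iff_mem.mpr hx, map_zero, map_zero]))
  let σ : NodeModelRing k →+* NodeModelRing k := RingHom.liftOfSurjective π hπs ⟨G, hGk⟩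
  have hσ : ∀ p, σ (π p) = G p := RingHom.liftOfRightInverse_comp_apply _ _ _ _
  have hσi : Function.Injective σ := injective_of_surjective_endo σ fun z => by
    obtain ⟨p, rfl⟩ := hGs z
    exact ⟨π p, hσ p⟩
  let Q := MvPowerSeries (Fin 2) T ⧸ nodeEq α
  haveI : Nontrivial Q := ψ.toRingHom.domain_nontrivial
  haveI : IsLocalRing Q := IsLocalRing.of_surjective' (Ideal.Quotient.mk (nodeEq α)) Ideal.Quotient.mk_surjective
  have hJle : (maximalIdeal T).map (algebraMap T Q) ≤ Ideal.jacobson ⊥ := by
    refine le_trans (Ideal.map_le_iff_le_comap.mpr fun t ht => ?_) (IsLocalRing.maximalIdeal_le_jacobson _)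
    refine (mem_maximalIdeal _).mpr fun hu' => ?_
    refine (mem_maximalIdeal _).mp (hMm (hTC ▸ Ideal.mem_map_of_mem (algebraMap T C) ht)) ?_
    rw [← ψ.commutes t]
    exact hu'.map ψ.toRingHom
  have hkerψ : RingHom.ker ψ ≤ (maximalIdeal T).map (algebraMap T Q) := by
    intro x hx
    obtain ⟨p, rfl⟩ := Ideal.Quotient.mk_surjective x
    have hGp : G p = 0 := by
      show τ (ψ (Ideal.Quotient.mk _ p)) = 0
      rw [show ψ (Ideal.Quotient.mk _ p) = 0 from hx, map_zero]
    have hp : p ∈ RingHom.ker π := RingHom.mem_ker.mpr (hσi (by rw [hσ, hGp, map_zero]))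
    have := Ideal.mem_map_of_mem (Ideal.Quotient.mk (nodeEq α)) (hπk hp)
    rw [Ideal.map_sup, Ideal.map_quotient_self, sup_bot_eq, Ideal.map_map] at this
    exact this
  have hinj : Function.Injective ψ := injective_of_flat_of_ker_le ψ hψs _ hJle hkerψ
  refine ⟨α, hα, (RingEquiv.ofBijective ψ.toRingHom ⟨hinj, hψs⟩).symm, fun a => ?_⟩
  rw [RingEquiv.symm_apply_eq]
  show algebraMap B C (algebraMap A B a) = ψ (algebraMap T Q (algebraMap A T a))
  rw [ψ.commutes, ← IsScalarTower.algebraMap_apply, ← IsScalarTower.algebraMap_apply]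

end Groth.Agent.NodeLib
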