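import Groth.Agent.NodeLib.Crit
import Groth.Agent.NodeLib.CritDescent
import Groth.Agent.NodeLib.NodeSelect
import Mathlib

/-!
# Two generators of the maximal ideal with a quadratic relation

The quadratic form of a node is nondegenerate, and in every degree two monomials are independent.
Conversely a nondegenerate quadratic relation and independence give a node pair.
-/

set_option autoImplicit false
set_option linter.style.haveILetI false

universe u

namespace Groth.Agent.NodeLib.Quad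

open IsLocalRing

section One

variable {A : Type u} [CommRing A] [IsLocalRing A]

theorem mul_mem_sq {l m : A} (hl : l ∈ maximalIdeal A) (hm : m ∈ maximalIdeal A) :
    l * m ∈ maximalIdeal A ^ 2 := by
  rw [pow_two]; exact Ideal.mul_mem_mul hl hm

theorem mem_of_unit_mul {z w : A} (h : z * w ∈ maximalIdeal A) (hz : IsUnit z) : w ∈ maximalIdeal A :=
  ((maximalIdeal.isMaximal A).isPrime.mem_or_mem h).resolve_left fun h' => (mem_maximalIdeal _).mp h' hz

variable {l₁ l₂ : A} {a b c : A}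

/-- One can assume the first coefficient to be a unit. -/
theorem exists_norm (hgen : maximalIdeal A = Ideal.span {l₁, l₂})
    (hq : a * l₁ ^ 2 + b * (l₁ * l₂) + c * l₂ ^ 2 ∈ maximalIdeal A ^ 3) (hd : IsUnit (b ^ 2 - 4 * a * c)) :
    ∃ m₁ m₂ a' b' c' : A, maximalIdeal A = Ideal.span {m₁, m₂} ∧
      a' * m₁ ^ 2 + b' * (m₁ * m₂) + c' * m₂ ^ 2 ∈ maximalIdeal A ^ 3 ∧
      IsUnit a' ∧ IsUnit (b' ^ 2 - 4 * a' * c') := by
  by_cases ha : IsUnit a
  · exact ⟨l₁, l₂, a, b, c, hgen, hq, ha, hd⟩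
  by_cases hc : IsUnit c
  · refine ⟨l₂, l₁, c, b, a, by rw [hgen, Set.pair_comm], ?_, hc, ?_⟩
    · convert hq using 1; ring
    · convert hd using 1; ring
  have ham : a ∈ maximalIdeal A := (mem_maximalIdeal _).mpr ha
  have hcm : c ∈ maximalIdeal A := (mem_maximalIdeal _).mpr hc
  have hb : IsUnit b := by
    by_contra hb
    refine (mem_maximalIdeal _).mp ?_ hd
    exact sub_mem (Ideal.pow_mem_of_mem _ ((mem_maximalIdeal _).mpr hb) 2 two_pos) (Ideal.mul_mem_left _ _ hcm)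
  refine ⟨l₁, l₂ - l₁, a + b + c, b + 2 * c, c, ?_, ?_, ?_, ?_⟩
  · rw [hgen]
    refine le_antisymm (Ideal.span_le.mpr ?_) (Ideal.span_le.mpr ?_)
    · rintro z (rfl | rfl)
      · exact Ideal.subset_span (by simp)
      · exact Ideal.mem_span_pair.mpr ⟨1, 1, by ring⟩
    · rintro z (rfl | rfl)
      · exact Ideal.subset_span (by simp)
      · exact sub_mem (Ideal.subset_span (by simp)) (Ideal.subset_span (by simp))
  · convert hq using 1; ring
  · rw [← notMem_maximalIdeal]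
    intro h
    refine notMem_maximalIdeal.mpr hb ?_
    rw [show b = (a + b + c) - a - c by ring]
    exact sub_mem (sub_mem h ham) hcm
  · convert hd using 1; ring

theorem pow_le_span (hgen : maximalIdeal A = Ideal.span {l₁, l₂}) (ha : IsUnit a) :
    ∀ n : ℕ, maximalIdeal A ^ (n + 1) ≤ Ideal.span {l₁ * l₂ ^ n, l₂ ^ (n + 1)} ⊔
      Ideal.span {a * l₁ ^ 2 + b * (l₁ * l₂) + c * l₂ ^ 2} := by
  intro n
  induction n with
  | zero =>
    rw [pow_one, pow_zero, mul_one, zero_add, pow_one, ← hgen]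
    exact le_sup_left
  | succ n ih =>
    rw [pow_succ (maximalIdeal A) (n + 1)]
    refine (Ideal.mul_mono_left ih).trans ?_
    rw [Ideal.sup_mul]
    refine sup_le ?_ (Ideal.mul_le_left.trans le_sup_right)
    rw [hgen, Ideal.span_pair_mul_span_pair, Ideal.span_le]
    rintro z (rfl | rfl | rfl | rfl)
    · refine (Ideal.unit_mul_mem_iff_mem _ ha).mp ?_
      rw [show a * (l₁ * l₂ ^ n * l₁) = l₂ ^ n * (a * l₁ ^ 2 + b * (l₁ * l₂) + c * l₂ ^ 2) -
        b * (l₁ * l₂ ^ (n + 1)) - c * l₂ ^ (n + 1 + 1) by ring]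
      exact sub_mem (sub_mem (Ideal.mem_sup_right (Ideal.mul_mem_left _ _ (Ideal.mem_span_singleton_self _)))
        (Ideal.mem_sup_left (Ideal.mul_mem_left _ _ (Ideal.subset_span (by simp)))))
        (Ideal.mem_sup_left (Ideal.mul_mem_left _ _ (Ideal.subset_span (by simp))))
    · exact Ideal.mem_sup_left (Ideal.subset_span (Or.inl (by ring)))
    · exact Ideal.mem_sup_left (Ideal.subset_span (Or.inl (by ring)))
    · exact Ideal.mem_sup_left (Ideal.subset_span (Or.inr (by simp only [Set.mem_singleton_iff]; ring)))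

end One

section Two

variable {A B : Type u} [CommRing A] [IsLocalRing A] [CommRing B] [IsLocalRing B] (φ : A →+* B) [IsLocalHom φ]

theorem map_mem {z : A} (hz : z ∈ maximalIdeal A) : φ z ∈ maximalIdeal B :=
  (mem_maximalIdeal _).mpr fun h => (mem_maximalIdeal _).mp hz (IsLocalHom.map_nonunit z h)

theorem mem_of_map {z : A} (hz : φ z ∈ maximalIdeal B) : z ∈ maximalIdeal A :=
  (mem_maximalIdeal _).mpr fun h => (mem_maximalIdeal _).mp hz (h.map φ)

theorem map_mem_pow {z : A} {n : ℕ} (hz : z ∈ maximalIdeal A ^ n) : φ z ∈ maximalIdeal B ^ n := by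
  have h : (maximalIdeal A ^ n).map φ ≤ maximalIdeal B ^ n := by
    rw [Ideal.map_pow]
    exact Ideal.pow_right_mono (Ideal.map_le_iff_le_comap.mpr fun w hw => Ideal.mem_comap.mpr (map_mem φ hw)) n
  exact h (Ideal.mem_map_of_mem _ hz)

variable {l₁ l₂ : A} {a b c : A} {u v : B}

theorem exists_coords (huv : IsNodePair u v) (hM : maximalIdeal B = Ideal.span {φ l₁, φ l₂}) :
    ∃ α₁ β₁ α₂ β₂ : B, φ l₁ = α₁ * u + β₁ * v ∧ φ l₂ = α₂ * u + β₂ * v ∧ IsUnit (α₁ * β₂ - α₂ * β₁) := by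
  obtain ⟨α₁, β₁, e₁⟩ := Ideal.mem_span_pair.mp (huv.1.le (hM.ge (Ideal.subset_span (by simp : φ l₁ ∈ ({φ l₁, φ l₂} : Set B)))))
  obtain ⟨α₂, β₂, e₂⟩ := Ideal.mem_span_pair.mp (huv.1.le (hM.ge (Ideal.subset_span (by simp : φ l₂ ∈ ({φ l₁, φ l₂} : Set B)))))
  obtain ⟨p, q, ep⟩ := Ideal.mem_span_pair.mp (hM.le huv.left_mem)
  obtain ⟨r, s, er⟩ := Ideal.mem_span_pair.mp (hM.le huv.right_mem)
  obtain ⟨h11, h12⟩ := huv.2.2 1 le_rfl (p * α₁ + q * α₂ - 1) (p * β₁ + q * β₂) (by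
    rw [show (p * α₁ + q * α₂ - 1) * u ^ 1 + (p * β₁ + q * β₂) * v ^ 1 =
      p * (α₁ * u + β₁ * v) + q * (α₂ * u + β₂ * v) - u by ring, e₁, e₂, ep, sub_self]
    exact zero_mem _)
  obtain ⟨h21, h22⟩ := huv.2.2 1 le_rfl (r * α₁ + s * α₂) (r * β₁ + s * β₂ - 1) (by
    rw [show (r * α₁ + s * α₂) * u ^ 1 + (r * β₁ + s * β₂ - 1) * v ^ 1 =
      r * (α₁ * u + β₁ * v) + s * (α₂ * u + β₂ * v) - v by ring, e₁, e₂, er, sub_self]
    exact zero_mem _)
  refine ⟨α₁, β₁, α₂, β₂, e₁.symm, e₂.symm, ?_⟩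
  rw [← notMem_maximalIdeal]
  intro hd
  refine (mem_maximalIdeal (1 : B)).mp ?_ isUnit_one
  have := sub_mem (sub_mem (sub_mem (Ideal.mul_mem_left _ (p * s - q * r) hd)
    (Ideal.mul_mem_right (r * β₁ + s * β₂) _ h11)) h22) (neg_mem (Ideal.mul_mem_right (r * α₁ + s * α₂) _ h12))
  convert this using 1
  ring

variable (huv : IsNodePair u v) (hM : maximalIdeal B = Ideal.span {φ l₁, φ l₂})
  (hq : a * l₁ ^ 2 + b * (l₁ * l₂) + c * l₂ ^ 2 ∈ maximalIdeal A ^ 3)

include huv hq in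
/-- The form vanishes on the two coordinate vectors. -/
theorem form_mem {α₁ β₁ α₂ β₂ : B} (e₁ : φ l₁ = α₁ * u + β₁ * v) (e₂ : φ l₂ = α₂ * u + β₂ * v) :
    φ a * α₁ ^ 2 + φ b * (α₁ * α₂) + φ c * α₂ ^ 2 ∈ maximalIdeal B ∧
      φ a * β₁ ^ 2 + φ b * (β₁ * β₂) + φ c * β₂ ^ 2 ∈ maximalIdeal B := by
  refine huv.2.2 2 one_le_two _ _ ?_
  have h := map_mem_pow φ hq
  simp only [map_add, map_mul, map_pow] at h
  rw [e₁, e₂] at h
  have := sub_mem h (Ideal.mul_mem_left _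
    (2 * φ a * α₁ * β₁ + φ b * (α₁ * β₂ + α₂ * β₁) + 2 * φ c * α₂ * β₂) huv.2.1)
  convert this using 1
  ring

include huv hM hq in
/-- The discriminant is a unit. -/
theorem disc_of_node (hu : IsUnit a ∨ IsUnit b ∨ IsUnit c) : IsUnit (b ^ 2 - 4 * a * c) := by
  obtain ⟨α₁, β₁, α₂, β₂, e₁, e₂, hdet⟩ := exists_coords φ huv hM
  obtain ⟨hA, hB⟩ := form_mem φ huv hq e₁ e₂
  rw [← notMem_maximalIdeal]
  intro hd
  set mid := 2 * φ a * α₁ * β₁ + φ b * (α₁ * β₂ + α₂ * β₁) + 2 * φ c * α₂ * β₂ with hmid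
  have hd' : φ b ^ 2 - 4 * φ a * φ c ∈ maximalIdeal B := by
    have := map_mem φ hd
    rwa [map_sub, map_pow, map_mul, map_mul, map_ofNat] at this
  have hm : mid ∈ maximalIdeal B := by
    refine (maximalIdeal.isMaximal B).isPrime.mem_of_pow_mem 2 ?_
    have := add_mem (Ideal.mul_mem_right ((α₁ * β₂ - α₂ * β₁) ^ 2) _ hd')
      (Ideal.mul_mem_left _ (4 * (φ a * α₁ ^ 2 + φ b * (α₁ * α₂) + φ c * α₂ ^ 2)) hB)
    convert this using 1
    rw [hmid]; ring
  have hsq : IsUnit ((α₁ * β₂ - α₂ * β₁) ^ 2) := hdet.pow 2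
  have key : ∀ {z : A}, φ z * (α₁ * β₂ - α₂ * β₁) ^ 2 ∈ maximalIdeal B → ¬ IsUnit z := fun {z} hz =>
    (mem_maximalIdeal _).mp (mem_of_map φ (mem_of_unit_mul (by rwa [mul_comm]) hsq))
  rcases hu with h | h | h
  · refine key ?_ h
    have := add_mem (sub_mem (Ideal.mul_mem_left _ (β₂ ^ 2) hA) (Ideal.mul_mem_left _ (α₂ * β₂) hm))
      (Ideal.mul_mem_left _ (α₂ ^ 2) hB)
    convert this using 1
    rw [hmid]; ring
  · refine key ?_ h
    have := sub_mem (sub_mem (Ideal.mul_mem_left _ (α₁ * β₂ + α₂ * β₁) hm)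
      (Ideal.mul_mem_left _ (2 * β₁ * β₂) hA)) (Ideal.mul_mem_left _ (2 * α₁ * α₂) hB)
    convert this using 1
    rw [hmid]; ring
  · refine key ?_ h
    have := add_mem (sub_mem (Ideal.mul_mem_left _ (β₁ ^ 2) hA) (Ideal.mul_mem_left _ (α₁ * β₁) hm))
      (Ideal.mul_mem_left _ (α₁ ^ 2) hB)
    convert this using 1
    rw [hmid]; ring

include huv hM hq in
/-- Two monomials are independent in every degree. -/
theorem indep_of_node (ha : IsUnit a) (n : ℕ) (e f : A)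
    (hef : e * (l₁ * l₂ ^ n) + f * l₂ ^ (n + 1) ∈ maximalIdeal A ^ (n + 1 + 1)) :
    e ∈ maximalIdeal A ∧ f ∈ maximalIdeal A := by
  obtain ⟨α₁, β₁, α₂, β₂, e₁, e₂, hdet⟩ := exists_coords φ huv hM
  obtain ⟨hA, hB⟩ := form_mem φ huv hq e₁ e₂
  have hα₂ : IsUnit α₂ := by
    rw [← notMem_maximalIdeal]
    intro h2
    have h1 : φ a * α₁ ^ 2 ∈ maximalIdeal B := by
      have := sub_mem hA (Ideal.mul_mem_right (φ b * α₁ + φ c * α₂) _ h2)
      convert this using 1; ring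
    have h1' := (maximalIdeal.isMaximal B).isPrime.mem_of_pow_mem 2 (mem_of_unit_mul h1 (ha.map φ))
    exact (mem_maximalIdeal _).mp (sub_mem (Ideal.mul_mem_right _ _ h1') (Ideal.mul_mem_right _ _ h2)) hdet
  have hβ₂ : IsUnit β₂ := by
    rw [← notMem_maximalIdeal]
    intro h2
    have h1 : φ a * β₁ ^ 2 ∈ maximalIdeal B := by
      have := sub_mem hB (Ideal.mul_mem_right (φ b * β₁ + φ c * β₂) _ h2)
      convert this using 1; ring
    have h1' := (maximalIdeal.isMaximal B).isPrime.mem_of_pow_mem 2 (mem_of_unit_mul h1 (ha.map φ))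
    exact (mem_maximalIdeal _).mp (sub_mem (Ideal.mul_mem_left _ _ h2) (Ideal.mul_mem_left _ _ h1')) hdet
  -- expansion of products
  have hexp : ∀ m, φ (l₂ ^ (m + 1)) - (α₂ ^ (m + 1) * u ^ (m + 1) + β₂ ^ (m + 1) * v ^ (m + 1)) ∈
        maximalIdeal B ^ (m + 2) ∧
      φ (l₁ * l₂ ^ m) - (α₁ * α₂ ^ m * u ^ (m + 1) + β₁ * β₂ ^ m * v ^ (m + 1)) ∈ maximalIdeal B ^ (m + 2) := by
    intro m
    induction m with
    | zero => simp [e₁, e₂]
    | succ m ih =>
      have hcross : ∀ p q : B, (p * u ^ (m + 1) + q * v ^ (m + 1)) * (α₂ * u + β₂ * v) -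
          (p * α₂ * u ^ (m + 2) + q * β₂ * v ^ (m + 2)) ∈ maximalIdeal B ^ (m + 3) := fun p q => by
        rw [show (p * u ^ (m + 1) + q * v ^ (m + 1)) * (α₂ * u + β₂ * v) -
          (p * α₂ * u ^ (m + 2) + q * β₂ * v ^ (m + 2)) = (u * v) * (p * β₂ * u ^ m + q * α₂ * v ^ m) by ring,
          show m + 3 = 3 + m by omega, pow_add]
        exact Ideal.mul_mem_mul huv.2.1 (add_mem (Ideal.mul_mem_left _ _ (Ideal.pow_mem_pow huv.left_mem m))
          (Ideal.mul_mem_left _ _ (Ideal.pow_mem_pow huv.right_mem m)))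
      have hl : φ l₂ ∈ maximalIdeal B := hM ▸ Ideal.subset_span (by simp)
      constructor
      · have := add_mem (Ideal.mul_mem_mul ih.1 hl) (by rw [← pow_succ]; exact hcross (α₂ ^ (m + 1)) (β₂ ^ (m + 1)))
        rw [← pow_succ] at this
        convert this using 1
        rw [map_pow, map_pow, e₂]; ring
      · have := add_mem (Ideal.mul_mem_mul ih.2 hl) (by rw [← pow_succ]; exact hcross (α₁ * α₂ ^ m) (β₁ * β₂ ^ m))
        rw [← pow_succ] at this
        convert this using 1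
        rw [map_mul, map_mul, map_pow, map_pow, e₂]; ring
  have h := map_mem_pow φ hef
  rw [map_add, map_mul φ e, map_mul φ f] at h
  obtain ⟨hu', hv'⟩ := huv.2.2 (n + 1) (by omega) (φ e * (α₁ * α₂ ^ n) + φ f * α₂ ^ (n + 1))
    (φ e * (β₁ * β₂ ^ n) + φ f * β₂ ^ (n + 1)) (by
      have := sub_mem (sub_mem h (Ideal.mul_mem_left _ (φ e) (hexp n).2)) (Ideal.mul_mem_left _ (φ f) (hexp n).1)
      convert this using 1
      ring)
  have he : φ e ∈ maximalIdeal B := by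
    refine mem_of_unit_mul (z := α₂ ^ n * β₂ ^ n * (α₁ * β₂ - α₂ * β₁)) ?_ (((hα₂.pow n).mul (hβ₂.pow n)).mul hdet)
    have := sub_mem (Ideal.mul_mem_right (β₂ ^ (n + 1)) _ hu') (Ideal.mul_mem_right (α₂ ^ (n + 1)) _ hv')
    convert this using 1
    ring
  refine ⟨mem_of_map φ he, mem_of_map φ ?_⟩
  refine mem_of_unit_mul (z := α₂ ^ (n + 1)) ?_ (hα₂.pow _)
  have := sub_mem hu' (Ideal.mul_mem_right (α₁ * α₂ ^ n) _ he)
  convert this using 1
  ring

end Two

section Flat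

variable {A B : Type u} [CommRing A] [IsLocalRing A] [CommRing B] [IsLocalRing B] [Algebra A B]
  [Module.Flat A B] (hmB : maximalIdeal B = (maximalIdeal A).map (algebraMap A B))

include hmB

theorem isLocalHom_of_map : IsLocalHom (algebraMap A B) := ⟨fun z hz => by
  by_contra hne
  exact (mem_maximalIdeal _).mp (hmB.ge (Ideal.mem_map_of_mem _ ((mem_maximalIdeal _).mpr hne))) hz⟩

theorem faithfullyFlat_of_map : Module.FaithfullyFlat A B :=
  haveI := isLocalHom_of_map hmB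
  Module.FaithfullyFlat.of_flat_of_isLocalHom

/-- The generators and the relation, from a node. -/
theorem exists_relation_of_node {u v : B} (huv : IsNodePair u v) :
    ∃ l₁ l₂ a b c : A, maximalIdeal A = Ideal.span {l₁, l₂} ∧
      a * l₁ ^ 2 + b * (l₁ * l₂) + c * l₂ ^ 2 ∈ maximalIdeal A ^ 3 ∧
      IsUnit a ∧ IsUnit (b ^ 2 - 4 * a * c) := by
  classical
  haveI := faithfullyFlat_of_map hmB
  haveI := isLocalHom_of_map hmB
  set φ := algebraMap A B with hφ
  set M := maximalIdeal B with hM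
  have hco : ∀ l ∈ maximalIdeal A, ∃ α β : B, φ l = α * u + β * v := fun l hl => by
    have : φ l ∈ Ideal.span {u, v} := huv.1.le (map_mem φ hl)
    obtain ⟨α, β, e⟩ := Ideal.mem_span_pair.mp this
    exact ⟨α, β, e.symm⟩
  choose! α β hαβ using hco
  -- two elements with independent images
  obtain ⟨x₁, hx₁, x₂, hx₂, hdet⟩ :
      ∃ l₁ ∈ maximalIdeal A, ∃ l₂ ∈ maximalIdeal A, IsUnit (α l₁ * β l₂ - α l₂ * β l₁) := by
    by_contra hne
    push Not at hne
    let T : Submodule B (B × B) := Submodule.span B ((fun l => (α l, β l)) '' (maximalIdeal A : Set A))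
    have hrep : ∀ w ∈ (maximalIdeal A).map φ, ∃ p ∈ T, w = p.1 * u + p.2 * v := by
      intro w hw
      refine Submodule.span_induction ?_ ⟨0, zero_mem _, by simp⟩ ?_ ?_ hw
      · rintro _ ⟨l, hl, rfl⟩
        exact ⟨(α l, β l), Submodule.subset_span ⟨l, hl, rfl⟩, hαβ l hl⟩
      · rintro _ _ _ _ ⟨p, hp, rfl⟩ ⟨q, hq, rfl⟩
        exact ⟨p + q, add_mem hp hq, by simp; ring⟩
      · rintro r _ _ ⟨p, hp, rfl⟩
        exact ⟨r • p, Submodule.smul_mem _ _ hp, by simp; ring⟩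
    have hdT : ∀ p ∈ T, ∀ q ∈ T, p.1 * q.2 - q.1 * p.2 ∈ M := by
      intro p hp q hq
      induction hp, hq using Submodule.span_induction₂ with
      | mem_mem x y hx hy =>
        obtain ⟨l, hl, rfl⟩ := hx
        obtain ⟨l', hl', rfl⟩ := hy
        exact (mem_maximalIdeal _).mpr (hne l hl l' hl')
      | zero_left => simp
      | zero_right => simp
      | add_left x y z _ _ _ h h' => convert add_mem h h' using 1; simp; ring
      | add_right x y z _ _ _ h h' => convert add_mem h h' using 1; simp; ring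
      | smul_left r x y _ _ h => convert Ideal.mul_mem_left _ r h using 1; simp; ring
      | smul_right r x y _ _ h => convert Ideal.mul_mem_left _ r h using 1; simp; ring
    obtain ⟨p, hp, ep⟩ := hrep u (hmB ▸ huv.left_mem)
    obtain ⟨q, hq, eq'⟩ := hrep v (hmB ▸ huv.right_mem)
    obtain ⟨h11, h12⟩ := huv.2.2 1 le_rfl (p.1 - 1) p.2 (by
      rw [show (p.1 - 1) * u ^ 1 + p.2 * v ^ 1 = p.1 * u + p.2 * v - u by ring, ← ep, sub_self]
      exact zero_mem _)
    obtain ⟨h21, h22⟩ := huv.2.2 1 le_rfl q.1 (q.2 - 1) (by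
      rw [show q.1 * u ^ 1 + (q.2 - 1) * v ^ 1 = q.1 * u + q.2 * v - v by ring, ← eq', sub_self]
      exact zero_mem _)
    refine (mem_maximalIdeal (1 : B)).mp ?_ isUnit_one
    have := add_mem (sub_mem (sub_mem (hdT p hp q hq) (Ideal.mul_mem_right q.2 _ h11)) h22)
      (Ideal.mul_mem_right p.2 _ h21)
    convert this using 1
    ring
  have hspan : M = Ideal.span {φ x₁, φ x₂} := by
    refine le_antisymm ?_ (Ideal.span_le.mpr ?_)
    · refine huv.1.le.trans (Ideal.span_le.mpr ?_)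
      rintro z (rfl | rfl)
      · refine (Ideal.unit_mul_mem_iff_mem _ hdet).mp ?_
        rw [show (α x₁ * β x₂ - α x₂ * β x₁) * z = β x₂ * φ x₁ - β x₁ * φ x₂ by
          rw [hαβ _ hx₁, hαβ _ hx₂]; ring]
        exact Ideal.mem_span_pair.mpr ⟨β x₂, -β x₁, by ring⟩
      · refine (Ideal.unit_mul_mem_iff_mem _ hdet).mp ?_
        rw [show (α x₁ * β x₂ - α x₂ * β x₁) * z = α x₁ * φ x₂ - α x₂ * φ x₁ by
          rw [hαβ _ hx₁, hαβ _ hx₂]; ring]
        exact Ideal.mem_span_pair.mpr ⟨-α x₂, α x₁, by ring⟩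
    · rintro z (rfl | rfl)
      · exact map_mem φ hx₁
      · exact map_mem φ hx₂
  have hgen : maximalIdeal A = Ideal.span {x₁, x₂} := by
    refine le_antisymm (fun z hz => ?_) (Ideal.span_le.mpr (by simp [Set.insert_subset_iff, hx₁, hx₂]))
    rw [← Ideal.comap_map_eq_self_of_faithfullyFlat (B := B) (Ideal.span {x₁, x₂}), Ideal.mem_comap, Ideal.map_span,
      Set.image_pair, ← hspan]
    exact map_mem φ hz
  have hrel : ∃ a : Fin 3 → A, ∑ i, a i * ![x₁ * x₁, x₁ * x₂, x₂ * x₂] i ∈ maximalIdeal A ^ 3 ∧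
      ∃ i, a i ∉ maximalIdeal A := by
    by_contra hne
    push Not at hne
    set a₁ := α x₁
    set b₁ := β x₁
    set a₂ := α x₂
    set b₂ := β x₂
    let K : Fin 3 → B := ![a₂ * b₂, -(a₁ * b₂ + a₂ * b₁), a₁ * b₁]
    have hK : ∑ i, K i * φ (![x₁ * x₁, x₁ * x₂, x₂ * x₂] i) ∈ (maximalIdeal A ^ 3).map φ := by
      rw [Ideal.map_pow, ← hmB]
      have : ∑ i, K i * φ (![x₁ * x₁, x₁ * x₂, x₂ * x₂] i) = -(a₁ * b₂ - a₂ * b₁) ^ 2 * (u * v) := by
        simp only [Fin.sum_univ_three, K]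
        simp only [Matrix.cons_val_zero, Matrix.cons_val_one, Matrix.cons_val_two, Matrix.tail_cons,
          Matrix.head_cons, map_mul, hαβ _ hx₁, hαβ _ hx₂]
        ring
      rw [this]
      exact Ideal.mul_mem_left _ _ huv.2.1
    have hKm := mem_maximalIdeal_of_comb hmB _ _ hne K hK
    have h1 : -(a₁ * b₂ + a₂ * b₁) ∈ M := hKm 1
    have : (a₁ * b₂ - a₂ * b₁) ^ 2 ∈ M := by
      rw [show (a₁ * b₂ - a₂ * b₁) ^ 2 =
        -(a₁ * b₂ + a₂ * b₁) * -(a₁ * b₂ + a₂ * b₁) - 4 * (a₂ * b₂) * (a₁ * b₁) by ring]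
      exact sub_mem (Ideal.mul_mem_left _ _ h1) (Ideal.mul_mem_left _ _ (hKm 2))
    exact (mem_maximalIdeal _).mp this (hdet.pow 2)
  obtain ⟨a, ha, i, hi⟩ := hrel
  simp only [Fin.sum_univ_three, Matrix.cons_val_zero, Matrix.cons_val_one, Matrix.cons_val_two,
    Matrix.tail_cons, Matrix.head_cons] at ha
  have hq : a 0 * x₁ ^ 2 + a 1 * (x₁ * x₂) + a 2 * x₂ ^ 2 ∈ maximalIdeal A ^ 3 := by
    rw [pow_two x₁, pow_two x₂]; exact ha
  have hd := disc_of_node φ huv hspan hq (by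
    rw [notMem_maximalIdeal] at hi
    fin_cases i
    · exact Or.inl hi
    · exact Or.inr (Or.inl hi)
    · exact Or.inr (Or.inr hi))
  obtain ⟨m₁, m₂, a', b', c', h1, h2, h3, h4⟩ := exists_norm hgen hq hd
  exact ⟨m₁, m₂, a', b', c', h1, h2, h3, h4⟩

variable [IsAlgClosed (ResidueField B)]

/-- A node pair from a nondegenerate relation and independent elements in every degree. -/
theorem hasNodePair_of_indep {l₁ l₂ a b c : A} (hgen : maximalIdeal A = Ideal.span {l₁, l₂})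
    (hq : a * l₁ ^ 2 + b * (l₁ * l₂) + c * l₂ ^ 2 ∈ maximalIdeal A ^ 3)
    (hd : IsUnit (b ^ 2 - 4 * a * c))
    (hind : ∀ n : ℕ, 1 ≤ n → ∃ w : Fin 2 → A, (∀ i, w i ∈ maximalIdeal A ^ n) ∧
      ∀ e : Fin 2 → A, ∑ i, e i * w i ∈ maximalIdeal A ^ (n + 1) → ∀ i, e i ∈ maximalIdeal A) :
    HasNodePair B := by
  classical
  haveI := isLocalHom_of_map hmB
  set φ := algebraMap A B with hφ
  set M := maximalIdeal B with hM
  have hdB : residue B (φ b) ^ 2 - 4 * residue B (φ a) * residue B (φ c) ≠ 0 := by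
    have h := ((hd.map φ).map (residue B)).ne_zero
    rwa [map_sub, map_sub, map_pow, map_pow, map_mul, map_mul, map_mul, map_mul, map_ofNat, map_ofNat] at h
  obtain ⟨p₁, p₂, q₁, q₂, -, -, e₁, e₂, e₃⟩ := exists_split (residue B (φ a)) (residue B (φ b))
    (residue B (φ c)) (by
      by_contra h0
      push Not at h0
      exact hdB (by rw [h0.1, h0.2.1, h0.2.2]; ring))
  obtain ⟨P₁, rfl⟩ := residue_surjective p₁
  obtain ⟨P₂, rfl⟩ := residue_surjective p₂
  obtain ⟨Q₁, rfl⟩ := residue_surjective q₁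
  obtain ⟨Q₂, rfl⟩ := residue_surjective q₂
  set D := P₁ * Q₂ - P₂ * Q₁ with hD
  have hDu : IsUnit D := by
    rw [← notMem_maximalIdeal, ← residue_eq_zero_iff]
    intro h0
    apply hdB
    rw [← e₁, ← e₂, ← e₃]
    rw [hD, map_sub, map_mul, map_mul] at h0
    linear_combination (residue B P₁ * residue B Q₂ - residue B P₂ * residue B Q₁) * h0
  set x := P₁ * φ l₁ + P₂ * φ l₂ with hx
  set y := Q₁ * φ l₁ + Q₂ * φ l₂ with hy
  have hl₁ : l₁ ∈ maximalIdeal A := hgen ▸ Ideal.subset_span (by simp)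
  have hl₂ : l₂ ∈ maximalIdeal A := hgen ▸ Ideal.subset_span (by simp)
  have hxm : x ∈ M := add_mem (Ideal.mul_mem_left _ _ (map_mem φ hl₁)) (Ideal.mul_mem_left _ _ (map_mem φ hl₂))
  have hym : y ∈ M := add_mem (Ideal.mul_mem_left _ _ (map_mem φ hl₁)) (Ideal.mul_mem_left _ _ (map_mem φ hl₂))
  have hspan : M = Ideal.span {x, y} := by
    refine le_antisymm ?_ (Ideal.span_le.mpr (by simp [Set.insert_subset_iff, hxm, hym]))
    rw [hmB, hgen, Ideal.map_span, Set.image_pair, Ideal.span_le]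
    rintro z (rfl | rfl)
    · refine (Ideal.unit_mul_mem_iff_mem _ hDu).mp ?_
      exact Ideal.mem_span_pair.mpr ⟨Q₂, -P₂, by rw [hx, hy, hD]; ring⟩
    · refine (Ideal.unit_mul_mem_iff_mem _ hDu).mp ?_
      exact Ideal.mem_span_pair.mpr ⟨-Q₁, P₁, by rw [hx, hy, hD]; ring⟩
  have hxy : x * y ∈ M ^ 3 := by
    have d : ∀ {z w : B}, residue B z = residue B w → ∀ {s}, s ∈ M ^ 2 → (z - w) * s ∈ M ^ 3 :=
      fun {z w} hzw {s} hs => by
        rw [pow_succ']
        exact Ideal.mul_mem_mul (Ideal.Quotient.eq.mp hzw) hs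
    rw [← map_mul] at e₁ e₃
    rw [← map_mul, ← map_mul, ← map_add] at e₂
    have h0 := map_mem_pow φ hq
    simp only [map_add, map_mul, map_pow] at h0
    have := add_mem (add_mem (add_mem h0 (d e₁ (mul_mem_sq (map_mem φ hl₁) (map_mem φ hl₁))))
      (d e₂ (mul_mem_sq (map_mem φ hl₁) (map_mem φ hl₂)))) (d e₃ (mul_mem_sq (map_mem φ hl₂) (map_mem φ hl₂)))
    convert this using 1
    rw [hx, hy]
    ring
  refine ⟨x, y, hspan, hxy, fun n hn e f hef => ?_⟩
  obtain ⟨w, hw, hwi⟩ := hind n hn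
  have hwB : ∀ p : Fin 2 → B, ∑ i, p i * φ (w i) ∈ M ^ (n + 1) → ∀ i, p i ∈ M := fun p hp =>
    mem_maximalIdeal_of_comb hmB w (maximalIdeal A ^ (n + 1)) hwi p (by rw [Ideal.map_pow, ← hmB]; exact hp)
  have hrep : ∀ z ∈ M ^ n, ∃ p q : B, z - (p * x ^ n + q * y ^ n) ∈ M ^ (n + 1) := by
    intro z hz
    obtain ⟨m, rfl⟩ := Nat.exists_eq_add_of_le' hn
    match m with
    | 0 =>
      rw [pow_one, hspan] at hz
      obtain ⟨p, q, rfl⟩ := Ideal.mem_span_pair.mp hz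
      exact ⟨p, q, by simp⟩
    | m + 1 =>
      obtain ⟨s, hs, t, ht, rfl⟩ := Submodule.mem_sup.mp (Hess.pow_le_cross hspan m hz)
      obtain ⟨p, q, rfl⟩ := Ideal.mem_span_pair.mp hs
      obtain ⟨r, hr, rfl⟩ := Ideal.mem_span_singleton_mul.mp ht
      refine ⟨p, q, ?_⟩
      rw [add_sub_cancel_left, show m + 1 + 1 + 1 = 3 + m by omega, pow_add]
      exact Ideal.mul_mem_mul hxy hr
  obtain ⟨p₁, q₁, h₁⟩ := hrep _ (map_mem_pow φ (hw 0))
  obtain ⟨p₂, q₂, h₂⟩ := hrep _ (map_mem_pow φ (hw 1))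
  set X := x ^ n
  set Y := y ^ n
  have hX : X ∈ M ^ n := Ideal.pow_mem_pow hxm n
  have hY : Y ∈ M ^ n := Ideal.pow_mem_pow hym n
  have hmul : ∀ {z s : B}, z ∈ M → s ∈ M ^ n → z * s ∈ M ^ (n + 1) := fun hz hs => by
    rw [pow_succ']; exact Ideal.mul_mem_mul hz hs
  have hΔ : IsUnit (p₁ * q₂ - p₂ * q₁) := by
    rw [← notMem_maximalIdeal]
    intro hd'
    have c₁ := hwB ![q₂, -q₁] (by
      simp only [Fin.sum_univ_two, Matrix.cons_val_zero, Matrix.cons_val_one, Matrix.head_cons]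
      have := add_mem (sub_mem (Ideal.mul_mem_left _ q₂ h₁) (Ideal.mul_mem_left _ q₁ h₂)) (hmul hd' hX)
      convert this using 1
      ring)
    have c₂ := hwB ![-p₂, p₁] (by
      simp only [Fin.sum_univ_two, Matrix.cons_val_zero, Matrix.cons_val_one, Matrix.head_cons]
      have := add_mem (sub_mem (Ideal.mul_mem_left _ p₁ h₂) (Ideal.mul_mem_left _ p₂ h₁)) (hmul hd' hY)
      convert this using 1
      ring)
    have hp₁ : p₁ ∈ M := c₂ 1
    have hq₁ : q₁ ∈ M := by simpa using c₁ 1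
    have h1 : (1 : B) ∈ M := hwB ![1, 0] (by
      simp only [Fin.sum_univ_two, Matrix.cons_val_zero, Matrix.cons_val_one, Matrix.head_cons, one_mul, zero_mul,
        add_zero]
      have := add_mem h₁ (add_mem (hmul hp₁ hX) (hmul hq₁ hY))
      convert this using 1
      ring) 0
    exact (mem_maximalIdeal _).mp h1 isUnit_one
  have hc := hwB ![e * q₂ - f * p₂, f * p₁ - e * q₁] (by
    simp only [Fin.sum_univ_two, Matrix.cons_val_zero, Matrix.cons_val_one, Matrix.head_cons]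
    have := add_mem (add_mem (Ideal.mul_mem_left _ (e * q₂ - f * p₂) h₁) (Ideal.mul_mem_left _ (f * p₁ - e * q₁) h₂))
      (Ideal.mul_mem_left _ (p₁ * q₂ - p₂ * q₁) hef)
    convert this using 1
    ring)
  have c0 : e * q₂ - f * p₂ ∈ M := hc 0
  have c1 : f * p₁ - e * q₁ ∈ M := hc 1
  refine ⟨mem_of_unit_mul ?_ hΔ, mem_of_unit_mul ?_ hΔ⟩
  · rw [show (p₁ * q₂ - p₂ * q₁) * e = p₁ * (e * q₂ - f * p₂) + p₂ * (f * p₁ - e * q₁) by ring]
    exact add_mem (Ideal.mul_mem_left _ _ c0) (Ideal.mul_mem_left _ _ c1)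
  · rw [show (p₁ * q₂ - p₂ * q₁) * f = q₁ * (e * q₂ - f * p₂) + q₂ * (f * p₁ - e * q₁) by ring]
    exact add_mem (Ideal.mul_mem_left _ _ c0) (Ideal.mul_mem_left _ _ c1)

end Flat

end Groth.Agent.NodeLib.Quad
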